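import Groth.Agent.S1186
import Groth.Agent.Lib.Pushout6.BaseChange
import Groth.Agent.Lib.Misc6.AffinePushout
import Mathlib.AlgebraicGeometry.Morphisms.Flat

/-!
# Covers of an open glue along two closed pieces
-/

set_option autoImplicit false
set_option linter.style.haveILetI false

universe u

open CategoryTheory CategoryTheory.Limits AlgebraicGeometry TopologicalSpace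

noncomputable section

namespace GrothLib.LocFAdic21

variable {A : Type u} [CommRing A] (𝔞₁ 𝔞₂ : Ideal A)

/-- The closed subscheme of an ideal. -/
abbrev cq (I : Ideal A) : Spec (CommRingCat.of (A ⧸ I)) ⟶ Spec (CommRingCat.of A) :=
  Spec.map (CommRingCat.ofHom (Ideal.Quotient.mk I))

/-- The intersection in the first piece. -/
abbrev pl : Spec (CommRingCat.of (A ⧸ (𝔞₁ ⊔ 𝔞₂))) ⟶ Spec (CommRingCat.of (A ⧸ 𝔞₁)) :=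
  Spec.map (CommRingCat.ofHom (Ideal.Quotient.factor (le_sup_left : 𝔞₁ ≤ 𝔞₁ ⊔ 𝔞₂)))

/-- The intersection in the second piece. -/
abbrev pr : Spec (CommRingCat.of (A ⧸ (𝔞₁ ⊔ 𝔞₂))) ⟶ Spec (CommRingCat.of (A ⧸ 𝔞₂)) :=
  Spec.map (CommRingCat.ofHom (Ideal.Quotient.factor (le_sup_right : 𝔞₂ ≤ 𝔞₁ ⊔ 𝔞₂)))

theorem pl_cq : pl 𝔞₁ 𝔞₂ ≫ cq 𝔞₁ = cq (𝔞₁ ⊔ 𝔞₂) := by
  rw [← Spec.map_comp]; rfl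

theorem pr_cq : pr 𝔞₁ 𝔞₂ ≫ cq 𝔞₂ = cq (𝔞₁ ⊔ 𝔞₂) := by
  rw [← Spec.map_comp]; rfl

instance isClosedImmersion_cq (I : Ideal A) : IsClosedImmersion (cq I) :=
  IsClosedImmersion.spec_of_surjective _ Ideal.Quotient.mk_surjective

instance isClosedImmersion_pl : IsClosedImmersion (pl 𝔞₁ 𝔞₂) :=
  IsClosedImmersion.spec_of_surjective _ (Ideal.Quotient.factor_surjective le_sup_left)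

instance isClosedImmersion_pr : IsClosedImmersion (pr 𝔞₁ 𝔞₂) :=
  IsClosedImmersion.spec_of_surjective _ (Ideal.Quotient.factor_surjective le_sup_right)

theorem isPushout_quot (h : 𝔞₁ ⊓ 𝔞₂ = ⊥) : IsPushout (pl 𝔞₁ 𝔞₂) (pr 𝔞₁ 𝔞₂) (cq 𝔞₁) (cq 𝔞₂) := by
  refine Misc6.isPushout_spec ⟨rfl, fun x h2 h1 => ?_, fun b a hba => ?_,
    Ideal.Quotient.factor_surjective le_sup_left⟩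
  · have : x ∈ 𝔞₁ ⊓ 𝔞₂ := ⟨Ideal.Quotient.eq_zero_iff_mem.1 h1, Ideal.Quotient.eq_zero_iff_mem.1 h2⟩
    rwa [h, Ideal.mem_bot] at this
  · obtain ⟨x, rfl⟩ := Ideal.Quotient.mk_surjective b
    obtain ⟨y, rfl⟩ := Ideal.Quotient.mk_surjective a
    have hxy : x - y ∈ 𝔞₁ ⊔ 𝔞₂ := Ideal.Quotient.eq.1 hba
    obtain ⟨u, hu, v, hv, huv⟩ := Submodule.mem_sup.1 hxy
    refine ⟨x - v, Ideal.Quotient.eq.2 (by simpa using hv), Ideal.Quotient.eq.2 ?_⟩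
    rwa [show x - v - y = u by linear_combination -huv]

variable (O : (Spec (CommRingCat.of A)).Opens)

/-- The second map of the intersection over an open. -/
def prO : ((pl 𝔞₁ 𝔞₂ ⁻¹ᵁ (cq 𝔞₁ ⁻¹ᵁ O) : (Spec (CommRingCat.of (A ⧸ (𝔞₁ ⊔ 𝔞₂)))).Opens) : Scheme.{u}) ⟶
    ((cq 𝔞₂ ⁻¹ᵁ O : (Spec (CommRingCat.of (A ⧸ 𝔞₂))).Opens) : Scheme.{u}) :=
  IsOpenImmersion.lift (cq 𝔞₂ ⁻¹ᵁ O).ι ((pl 𝔞₁ 𝔞₂ ⁻¹ᵁ (cq 𝔞₁ ⁻¹ᵁ O)).ι ≫ pr 𝔞₁ 𝔞₂) (by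
    rintro _ ⟨z, rfl⟩
    rw [Scheme.Opens.range_ι]
    show (pr 𝔞₁ 𝔞₂ ≫ cq 𝔞₂) ((pl 𝔞₁ 𝔞₂ ⁻¹ᵁ (cq 𝔞₁ ⁻¹ᵁ O)).ι z) ∈ O
    rw [pr_cq, ← pl_cq]
    exact z.2)

theorem prO_ι : prO 𝔞₁ 𝔞₂ O ≫ (cq 𝔞₂ ⁻¹ᵁ O).ι = (pl 𝔞₁ 𝔞₂ ⁻¹ᵁ (cq 𝔞₁ ⁻¹ᵁ O)).ι ≫ pr 𝔞₁ 𝔞₂ :=
  IsOpenImmersion.lift_fac _ _ _

theorem isPullback_prO :
    IsPullback (prO 𝔞₁ 𝔞₂ O) (pl 𝔞₁ 𝔞₂ ⁻¹ᵁ (cq 𝔞₁ ⁻¹ᵁ O)).ι (cq 𝔞₂ ⁻¹ᵁ O).ι (pr 𝔞₁ 𝔞₂) :=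
  IsOpenImmersion.isPullback _ _ _ _ (prO_ι 𝔞₁ 𝔞₂ O).symm (by
    rw [Scheme.Opens.opensRange_ι, Scheme.Opens.opensRange_ι, ← Scheme.Hom.comp_preimage,
      ← Scheme.Hom.comp_preimage, pr_cq, pl_cq])

theorem comp_eq : pl 𝔞₁ 𝔞₂ ∣_ (cq 𝔞₁ ⁻¹ᵁ O) ≫ cq 𝔞₁ ∣_ O = prO 𝔞₁ 𝔞₂ O ≫ cq 𝔞₂ ∣_ O := by
  rw [← cancel_mono O.ι, Category.assoc, Category.assoc, morphismRestrict_ι, morphismRestrict_ι,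
    morphismRestrict_ι_assoc, reassoc_of% prO_ι, pl_cq, pr_cq]

theorem isPushout_open (h : 𝔞₁ ⊓ 𝔞₂ = ⊥) :
    IsPushout (pl 𝔞₁ 𝔞₂ ∣_ (cq 𝔞₁ ⁻¹ᵁ O)) (prO 𝔞₁ 𝔞₂ O) (cq 𝔞₁ ∣_ O) (cq 𝔞₂ ∣_ O) := by
  have hC : Pushout6.Covered (pl 𝔞₁ 𝔞₂) (pr 𝔞₁ 𝔞₂) :=
    Pushout6.covered_of_integral _ _ fun y => ⟨⊤, isAffineOpen_top _, fun z _ => trivial⟩
  exact Pushout6.isPushout_baseChange (r := 𝟙 (Spec (CommRingCat.of A))) (g := O.ι) (sP := 𝟙 _) hC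
    (isPushout_quot 𝔞₁ 𝔞₂ h) (Or.inl inferInstance) (IsPullback.of_vert_isIso ⟨by simp⟩)
    (isPullback_morphismRestrict (cq 𝔞₁) O).flip (isPullback_morphismRestrict (cq 𝔞₂) O).flip
    (isPullback_morphismRestrict (pl 𝔞₁ 𝔞₂) (cq 𝔞₁ ⁻¹ᵁ O)).flip (prO_ι 𝔞₁ 𝔞₂ O) (comp_eq 𝔞₁ 𝔞₂ O)

/-- Covers of the two pieces agreeing on the intersection glue. -/
theorem exists_glued (h : 𝔞₁ ⊓ 𝔞₂ = ⊥)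
    (V₁ : FEt.Cat ((cq 𝔞₁ ⁻¹ᵁ O : (Spec (CommRingCat.of (A ⧸ 𝔞₁))).Opens) : Scheme.{u}))
    (V₂ : FEt.Cat ((cq 𝔞₂ ⁻¹ᵁ O : (Spec (CommRingCat.of (A ⧸ 𝔞₂))).Opens) : Scheme.{u}))
    (e : (FEt.restrict (pl 𝔞₁ 𝔞₂ ∣_ (cq 𝔞₁ ⁻¹ᵁ O))).obj V₁ ≅ (FEt.restrict (prO 𝔞₁ 𝔞₂ O)).obj V₂) :
    ∃ T : FEt.Cat (O : Scheme.{u}), Nonempty ((FEt.restrict (cq 𝔞₁ ∣_ O)).obj T ≅ V₁) ∧
      Nonempty ((FEt.restrict (cq 𝔞₂ ∣_ O)).obj T ≅ V₂) := by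
  haveI : IsClosedImmersion (pl 𝔞₁ 𝔞₂ ∣_ (cq 𝔞₁ ⁻¹ᵁ O)) :=
    MorphismProperty.of_isPullback (isPullback_morphismRestrict (pl 𝔞₁ 𝔞₂) (cq 𝔞₁ ⁻¹ᵁ O)).flip inferInstance
  haveI : IsClosedImmersion (prO 𝔞₁ 𝔞₂ O) :=
    MorphismProperty.of_isPullback (isPullback_prO 𝔞₁ 𝔞₂ O).flip inferInstance
  refine Groth.Agent.S1186.result _ _ (fun y => ?_) _ _ (isPushout_open 𝔞₁ 𝔞₂ O h) V₁ V₂ e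
  by_cases hy : ∃ z, (prO 𝔞₁ 𝔞₂ O) z = y
  · obtain ⟨z, rfl⟩ := hy
    obtain ⟨_, ⟨W, hW, rfl⟩, hzW, -⟩ := ((cq 𝔞₁ ⁻¹ᵁ O) : Scheme.{u}).isBasis_affineOpens.exists_subset_of_mem_open
      (Set.mem_univ ((pl 𝔞₁ 𝔞₂ ∣_ (cq 𝔞₁ ⁻¹ᵁ O)) z)) isOpen_univ
    exact ⟨W, hW, fun z' hz' => (prO 𝔞₁ 𝔞₂ O).isClosedEmbedding.injective hz' ▸ hzW⟩
  · exact ⟨⊥, isAffineOpen_bot _, fun z hz => absurd ⟨z, hz⟩ hy⟩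

end GrothLib.LocFAdic21
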