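import Groth.Agent.LocFAdic21.LevFin
import Groth.Agent.Lib.LC.BaseChange
import Groth.Agent.Lib.AdicLim.Finite

/-!
# The quotient by the `f`-power torsion
-/

set_option autoImplicit false
set_option linter.style.haveILetI false
set_option linter.unusedSectionVars false

universe u

open CategoryTheory

noncomputable section

namespace GrothLib.LocFAdic21

variable {A : Type u} [CommRing A]

/-- The elements killed by `f ^ b`. -/
def Tf (f : A) (b : ℕ) : Ideal A := LinearMap.ker (LinearMap.mulLeft A (f ^ b))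

theorem mem_Tf {f : A} {b : ℕ} {a : A} : a ∈ Tf f b ↔ f ^ b * a = 0 := Iff.rfl

theorem exists_torsion_bound [IsNoetherianRing A] (f : A) :
    ∃ b, 0 < b ∧ ∀ (n : ℕ) (a : A), f ^ n * a = 0 → f ^ b * a = 0 := by
  have hmono : Monotone (Tf f) := fun m n h a ha => by
    obtain ⟨j, rfl⟩ := Nat.exists_eq_add_of_le h
    rw [mem_Tf] at ha ⊢
    rw [pow_add, mul_comm (f ^ m), mul_assoc, ha, mul_zero]
  obtain ⟨c, hc⟩ := monotone_stabilizes_iff_noetherian.2 (inferInstance : IsNoetherian A A) ⟨Tf f, hmono⟩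
  refine ⟨c + 1, c.succ_pos, fun n a ha => ?_⟩
  have h1 : a ∈ Tf f (max c n) := hmono (le_max_right c n) ha
  have h2 : a ∈ Tf f c := (show Tf f c = Tf f (max c n) from hc _ (le_max_left c n)).ge h1
  exact hmono (Nat.le_succ c) h2

variable {f : A} {b : ℕ} (hb : ∀ (n : ℕ) (a : A), f ^ n * a = 0 → f ^ b * a = 0)

include hb in
theorem mk_mem_nonZeroDivisors :
    Ideal.Quotient.mk (Tf f b) f ∈ nonZeroDivisors (A ⧸ Tf f b) := by
  rw [mem_nonZeroDivisors_iff_right]
  intro x hx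
  obtain ⟨a, rfl⟩ := Ideal.Quotient.mk_surjective x
  rw [← map_mul, Ideal.Quotient.eq_zero_iff_mem, mem_Tf] at hx
  refine Ideal.Quotient.eq_zero_iff_mem.2 (hb (b + 1) a ?_)
  linear_combination hx

include hb in
theorem Tf_inf_eq_bot : Tf f b ⊓ Ideal.span {f ^ b} = ⊥ := by
  rw [eq_bot_iff]
  rintro x ⟨hx, hx'⟩
  obtain ⟨a, rfl⟩ := Ideal.mem_span_singleton'.1 hx'
  rw [Ideal.mem_bot]
  have hx0 : f ^ b * (a * f ^ b) = 0 := hx
  linear_combination hb (b + b) a (by rw [pow_add]; linear_combination hx0)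

theorem isLocalRing_quot [IsLocalRing A] (hf : f ∈ IsLocalRing.maximalIdeal A) (hnil : ¬ IsNilpotent f) :
    IsLocalRing (A ⧸ Tf f b) := by
  haveI : Nontrivial (A ⧸ Tf f b) := Ideal.Quotient.nontrivial_iff.2 fun h => hnil ⟨b, by
    have : f ^ b * 1 = 0 := mem_Tf.1 ((Ideal.eq_top_iff_one _).1 h)
    rwa [mul_one] at this⟩
  exact IsLocalRing.of_surjective' _ Ideal.Quotient.mk_surjective

theorem isAdicComplete_quot [IsNoetherianRing A] [IsAdicComplete (Ideal.span ({f} : Set A)) A] :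
    IsAdicComplete (Ideal.span ({Ideal.Quotient.mk (Tf f b) f} : Set (A ⧸ Tf f b))) (A ⧸ Tf f b) := by
  haveI := AdicLim.isAdicComplete_of_finite (Ideal.span ({f} : Set A)) (A ⧸ Tf f b)
  have h : (Ideal.span ({f} : Set A)).map (algebraMap A (A ⧸ Tf f b)) =
      Ideal.span ({Ideal.Quotient.mk (Tf f b) f} : Set (A ⧸ Tf f b)) := by
    rw [Ideal.map_span, Set.image_singleton]
    rfl
  rw [← h]
  exact (IsAdicComplete.map_algebraMap_iff (S := A ⧸ Tf f b) _ _).2 inferInstance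

variable [IsNoetherianRing A] [IsLocalRing A]

local notation "𝔪" => IsLocalRing.maximalIdeal A

include hb in
theorem kill_quot [IsLocalRing (A ⧸ Tf f b)] {c : ℕ} {𝔷 : Ideal A} {s : ℕ}
    (hkill : ∀ i, 1 ≤ i → i ≤ s → ∀ z ∈ 𝔷, ∀ x : LocCoh.H 𝔪 i A, (f ^ c * z) • x = 0) :
    ∀ i, 1 ≤ i → i ≤ s → ∀ z ∈ 𝔷.map (Ideal.Quotient.mk (Tf f b)),
      ∀ x : LocCoh.H (IsLocalRing.maximalIdeal (A ⧸ Tf f b)) i (A ⧸ Tf f b),
        (Ideal.Quotient.mk (Tf f b) f ^ (c + b) * z) • x = 0 := by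
  intro i h1 hs z hz x
  obtain ⟨z₀, hz₀, rfl⟩ := (Ideal.mem_map_iff_of_surjective _ Ideal.Quotient.mk_surjective).1 hz
  let S : ShortComplex (ModuleCat.{u} A) := ShortComplex.mk (ModuleCat.ofHom (Tf f b).subtype)
    (ModuleCat.ofHom (Submodule.mkQ (Tf f b)))
    (ModuleCat.hom_ext (LinearMap.ext fun a => (Submodule.Quotient.mk_eq_zero _).2 a.2))
  have hS : S.ShortExact :=
    { exact := (ShortComplex.moduleCat_exact_iff S).2 fun a ha =>
        ⟨⟨a, (Submodule.Quotient.mk_eq_zero _).1 ha⟩, rfl⟩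
      mono_f := (ModuleCat.mono_iff_injective _).2 (Submodule.injective_subtype _)
      epi_g := (ModuleCat.epi_iff_surjective _).2 (Submodule.mkQ_surjective _) }
  obtain ⟨φ, hφ⟩ := LC.exists_H_addEquiv_restrictScalars (R := A) (R' := A ⧸ Tf f b) 𝔪 i (A ⧸ Tf f b)
  have hm : Ideal.map (algebraMap A (A ⧸ Tf f b)) 𝔪 = IsLocalRing.maximalIdeal (A ⧸ Tf f b) :=
    ((Ideal.map_eq_top_or_isMaximal_of_surjective _ Ideal.Quotient.mk_surjective
      (IsLocalRing.maximalIdeal.isMaximal A)).resolve_left fun h => by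
        have h' := congrArg (Ideal.comap (Ideal.Quotient.mk (Tf f b))) h
        rw [Ideal.comap_top, Ideal.comap_map_of_surjective _ Ideal.Quotient.mk_surjective,
          ← RingHom.ker_eq_comap_bot, Ideal.mk_ker, sup_eq_left.2 (IsLocalRing.le_maximalIdeal (fun hT => by
            exact (Ideal.Quotient.nontrivial_iff.1 (inferInstance : Nontrivial (A ⧸ Tf f b))) hT))] at h'
        exact (IsLocalRing.maximalIdeal.isMaximal A).ne_top h') |> IsLocalRing.eq_maximalIdeal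
  suffices hgen : ∀ y : LocCoh.H (Ideal.map (algebraMap A (A ⧸ Tf f b)) 𝔪) i (A ⧸ Tf f b),
      (Ideal.Quotient.mk (Tf f b) f ^ (c + b) * Ideal.Quotient.mk (Tf f b) z₀) • y = 0 from by
    revert x; rw [← hm]; exact hgen
  intro y
  rw [← map_pow, ← map_mul]
  refine φ.injective ?_
  rw [show Ideal.Quotient.mk (Tf f b) (f ^ (c + b) * z₀) = algebraMap A (A ⧸ Tf f b) (f ^ (c + b) * z₀) from rfl,
    hφ, map_zero, show f ^ (c + b) * z₀ = (f ^ c * z₀) * f ^ b by rw [pow_add]; ring]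
  exact kill_X₃ 𝔪 hS i _ _ (fun w => hkill i h1 hs z₀ hz₀ w)
    (fun w => kill_of_module_kill 𝔪 (i + 1) (f ^ b) (fun a => Subtype.ext a.2) w) (φ y)

end GrothLib.LocFAdic21
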