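import Groth.Agent.LocFAdic21.Regular
import Groth.Agent.LocFAdic21.Torsion
import Groth.Agent.LocFAdic21.GlueOpen
import Groth.Agent.Lib.FEt21.UHEquiv

/-!
# Extension to a neighbourhood without regularity of `f`
-/

set_option autoImplicit false
set_option linter.style.haveILetI false
set_option linter.unusedSectionVars false

universe u

open CategoryTheory CategoryTheory.Limits AlgebraicGeometry TopologicalSpace

noncomputable section

namespace GrothLib.LocFAdic21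

variable {A : Type u} [CommRing A]

/-- A surjection of rings with nilpotent kernel gives a surjection of spectra. -/
theorem surjective_specMap {B C : Type u} [CommRing B] [CommRing C] (κ : B →+* C) (hκ : Function.Surjective κ)
    (h : ∀ P : Ideal B, P.IsPrime → RingHom.ker κ ≤ P) :
    Surjective (Spec.map (CommRingCat.ofHom κ)) := by
  refine ⟨fun (p : PrimeSpectrum B) => ?_⟩
  have : p ∈ Set.range (PrimeSpectrum.comap κ) := by
    rw [range_comap_of_surjective _ _ hκ]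
    exact h p.asIdeal p.isPrime
  exact this

theorem isEquivalence_of_closed_surjective {X Y : Scheme.{u}} (f : X ⟶ Y) [IsClosedImmersion f] [Surjective f] :
    (FEt.restrict f).IsEquivalence :=
  FEt21.isEquivalence_of_uh f

/-- The range of the second projection of the slice of an open. -/
theorem range_snd_slice {X W : Scheme.{u}} (U O : X.Opens) (cl : W ⟶ X) (hO : O ≤ U)
    (h : Set.range (pullback.fst U.ι cl ≫ U.ι) ⊆ O) : cl ⁻¹ᵁ O = (pullback.snd U.ι cl).opensRange := by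
  refine le_antisymm (fun w hw => ?_) (fun w hw => ?_)
  · obtain ⟨z, -, hz⟩ := Scheme.Pullback.exists_preimage_pullback (f := U.ι) (g := cl) ⟨_, hO hw⟩ w rfl
    exact ⟨z, hz⟩
  · obtain ⟨z, rfl⟩ := hw
    show (pullback.snd U.ι cl ≫ cl) z ∈ O
    rw [← pullback.condition]
    exact h ⟨z, rfl⟩

variable [IsNoetherianRing A] [IsLocalRing A]

local notation "𝔪" => IsLocalRing.maximalIdeal A

/-- A quotient of a local ring has the preimage of the punctured spectrum as punctured spectrum. -/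
theorem preimage_puncturedSpec (I : Ideal A) [IsLocalRing (A ⧸ I)] :
    cq I ⁻¹ᵁ FEt.puncturedSpec A = FEt.puncturedSpec (A ⧸ I) := by
  have hc : cq I (IsLocalRing.closedPoint (A ⧸ I)) = IsLocalRing.closedPoint A := by
    haveI : IsLocalHom (Ideal.Quotient.mk I) := IsLocalHom.of_surjective _ Ideal.Quotient.mk_surjective
    exact IsLocalRing.comap_closedPoint _
  ext p
  show cq I p ≠ IsLocalRing.closedPoint A ↔ p ≠ IsLocalRing.closedPoint _
  rw [← hc]
  exact not_congr (cq I).isClosedEmbedding.injective.eq_iff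

/-- A cover of the punctured hypersurface extends to a neighbourhood. -/
theorem exists_extension_gen {f : A} [IsAdicComplete (Ideal.span ({f} : Set A)) A] (hf : f ∈ 𝔪)
    {c : ℕ} {𝔷 : Ideal A} (hrad : 𝔪 ≤ (𝔷 ⊔ Ideal.span {f}).radical)
    (hkill : ∀ i, 1 ≤ i → i ≤ 3 → ∀ z ∈ 𝔷, ∀ x : LocCoh.H 𝔪 i A, (f ^ c * z) • x = 0)
    (V₀ : FEt.Cat (pullback (FEt.puncturedSpec A).ι (clf A f))) :
    ∃ (U' : (Spec (CommRingCat.of A)).Opens) (_ : U' ≤ FEt.puncturedSpec A)
      (u' : pullback (FEt.puncturedSpec A).ι (clf A f) ⟶ (U' : Scheme.{u}))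
      (_ : u' ≫ U'.ι = pullback.fst (FEt.puncturedSpec A).ι (clf A f) ≫ (FEt.puncturedSpec A).ι)
      (V' : FEt.Cat (U' : Scheme.{u})), Nonempty ((FEt.restrict u').obj V' ≅ V₀) := by
  let U := FEt.puncturedSpec A
  haveI : IsClosedImmersion (clf A f) := IsClosedImmersion.spec_of_surjective _ Ideal.Quotient.mk_surjective
  by_cases hnil : IsNilpotent f
  · obtain ⟨n, hn⟩ := hnil
    haveI : Surjective (clf A f) := surjective_specMap _ Ideal.Quotient.mk_surjective fun P hP => by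
      rw [Ideal.mk_ker, Ideal.span_le, Set.singleton_subset_iff]
      exact hP.mem_of_pow_mem n (hn ▸ P.zero_mem)
    haveI : IsClosedImmersion (pullback.fst U.ι (clf A f)) := inferInstance
    haveI : Surjective (pullback.fst U.ι (clf A f)) := inferInstance
    haveI := isEquivalence_of_closed_surjective (pullback.fst U.ι (clf A f))
    exact ⟨U, le_rfl, pullback.fst U.ι (clf A f), rfl, (FEt.restrict (pullback.fst U.ι (clf A f))).objPreimage V₀,
      ⟨(FEt.restrict (pullback.fst U.ι (clf A f))).objObjPreimageIso V₀⟩⟩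
  obtain ⟨b, hb0, hb⟩ := exists_torsion_bound f
  let T := Tf f b
  haveI : IsLocalRing (A ⧸ T) := isLocalRing_quot hf hnil
  let f' : A ⧸ T := Ideal.Quotient.mk T f
  haveI := isAdicComplete_quot (A := A) (f := f) (b := b)
  haveI : IsLocalHom (Ideal.Quotient.mk T) := IsLocalHom.of_surjective _ Ideal.Quotient.mk_surjective
  have hm : IsLocalRing.maximalIdeal (A ⧸ T) ≤ (𝔷.map (Ideal.Quotient.mk T) ⊔ Ideal.span {f'}).radical := by
    rw [Ideal.radical_eq_sInf]
    refine le_sInf fun q ⟨hq, hqp⟩ => ?_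
    haveI := hqp
    have h1 : 𝔪 ≤ q.comap (Ideal.Quotient.mk T) := hrad.trans ((Ideal.IsPrime.radical_le_iff inferInstance).2
      (sup_le (Ideal.map_le_iff_le_comap.1 (le_sup_left.trans hq))
        ((Ideal.span_singleton_le_iff_mem _).2 (le_sup_right.trans hq (Ideal.mem_span_singleton_self f')))))
    intro x hx
    obtain ⟨a, rfl⟩ := Ideal.Quotient.mk_surjective x
    refine h1 ((IsLocalRing.mem_maximalIdeal a).2 fun hu => ?_)
    exact (IsLocalRing.mem_maximalIdeal _).1 hx (hu.map _)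
  let U₁ := FEt.puncturedSpec (A ⧸ T)
  have hpre : cq T ⁻¹ᵁ U = U₁ := preimage_puncturedSpec T
  let κ : A ⧸ Ideal.span ({f} : Set A) →+* (A ⧸ T) ⧸ Ideal.span ({f'} : Set (A ⧸ T)) :=
    Ideal.quotientMap _ (Ideal.Quotient.mk T) ((Ideal.span_singleton_le_iff_mem _).2 (Ideal.mem_span_singleton_self f'))
  have hκ : Spec.map (CommRingCat.ofHom κ) ≫ clf A f = clf (A ⧸ T) f' ≫ cq T := by
    rw [← Spec.map_comp, ← Spec.map_comp]; rfl
  let aU : pullback U₁.ι (clf (A ⧸ T) f') ⟶ (U : Scheme.{u}) :=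
    IsOpenImmersion.lift U.ι (pullback.fst U₁.ι (clf (A ⧸ T) f') ≫ U₁.ι ≫ cq T) (by
      rintro _ ⟨z, rfl⟩
      rw [Scheme.Opens.range_ι]
      exact hpre.ge (pullback.fst U₁.ι (clf (A ⧸ T) f') z).2)
  let ψ : pullback U₁.ι (clf (A ⧸ T) f') ⟶ pullback U.ι (clf A f) :=
    pullback.lift aU (pullback.snd U₁.ι (clf (A ⧸ T) f') ≫ Spec.map (CommRingCat.ofHom κ))
      (by rw [IsOpenImmersion.lift_fac, Category.assoc, hκ, pullback.condition_assoc])
  obtain ⟨W', hW', u₁, hu₁, V', ⟨eV⟩⟩ := exists_extension' (A := A ⧸ T) (f := f') (mk_mem_nonZeroDivisors hb) hm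
    (kill_quot hb hkill) ((FEt.restrict ψ).obj V₀)
  let O : (Spec (CommRingCat.of A)).Opens := U ⊓
    ⟨(cq T '' (W' : Set (Spec (CommRingCat.of (A ⧸ T))))ᶜ)ᶜ,
      ((cq T).isClosedEmbedding.isClosedMap _ W'.2.isClosed_compl).isOpen_compl⟩
  have hOW : cq T ⁻¹ᵁ O ≤ W' := fun w hw => by_contra fun hn => hw.2 ⟨w, hn, rfl⟩
  have hYO : Set.range (pullback.fst U.ι (clf A f) ≫ U.ι) ⊆ O := by
    rintro x hx
    rw [range_slice] at hx
    refine ⟨hx.1, ?_⟩
    rintro ⟨w, hw, rfl⟩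
    have h2 : w ∈ (U₁ : Set (Spec (CommRingCat.of (A ⧸ T)))) ∩ PrimeSpectrum.zeroLocus {f'} :=
      ⟨hpre.le hx.1, fun y hy => by rw [Set.mem_singleton_iff.1 hy]; exact hx.2 (Set.mem_singleton f)⟩
    rw [← range_slice, ← hu₁] at h2
    obtain ⟨z, rfl⟩ := h2
    exact hw (u₁ z).2
  let u' : pullback U.ι (clf A f) ⟶ (O : Scheme.{u}) :=
    IsOpenImmersion.lift O.ι (pullback.fst U.ι (clf A f) ≫ U.ι) (by rw [Scheme.Opens.range_ι]; exact hYO)
  let B := Ideal.span ({f ^ b} : Set A)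
  have hBf : B ≤ Ideal.span {f} :=
    Ideal.span_singleton_le_span_singleton.2 (dvd_pow_self f (Nat.pos_iff_ne_zero.1 hb0))
  let κB := Ideal.Quotient.factor hBf
  let sB := Spec.map (CommRingCat.ofHom κB)
  have hsB : sB ≫ cq B = clf A f := by rw [← Spec.map_comp]; rfl
  haveI : IsClosedImmersion sB := IsClosedImmersion.spec_of_surjective _ (Ideal.Quotient.factor_surjective hBf)
  haveI : Surjective sB := surjective_specMap _ (Ideal.Quotient.factor_surjective hBf) fun P hP => by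
    intro x hx
    obtain ⟨a, rfl⟩ := Ideal.Quotient.mk_surjective x
    obtain ⟨d, rfl⟩ := Ideal.mem_span_singleton'.1 (Ideal.Quotient.eq_zero_iff_mem.1 (show Ideal.Quotient.mk _ a = 0 from hx))
    rw [map_mul]
    refine P.mul_mem_left _ (hP.mem_of_pow_mem b ?_)
    rw [← map_pow, Ideal.Quotient.eq_zero_iff_mem.2 (Ideal.mem_span_singleton_self (f ^ b))]
    exact P.zero_mem
  let wB : pullback U.ι (clf A f) ⟶ ((cq B ⁻¹ᵁ O : (Spec (CommRingCat.of (A ⧸ B))).Opens) : Scheme.{u}) :=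
    IsOpenImmersion.lift (cq B ⁻¹ᵁ O).ι (pullback.snd U.ι (clf A f) ≫ sB) (by
      rintro _ ⟨z, rfl⟩
      rw [Scheme.Opens.range_ι]
      show (sB ≫ cq B) (pullback.snd U.ι (clf A f) z) ∈ O
      rw [hsB]
      show (pullback.snd U.ι (clf A f) ≫ clf A f) z ∈ O
      rw [← pullback.condition]
      exact hYO ⟨z, rfl⟩)
  have hwB : wB ≫ (cq B ⁻¹ᵁ O).ι = pullback.snd U.ι (clf A f) ≫ sB := IsOpenImmersion.lift_fac _ _ _
  have HB : IsPullback wB (pullback.snd U.ι (clf A f)) (cq B ⁻¹ᵁ O).ι sB :=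
    IsOpenImmersion.isPullback _ _ _ _ hwB.symm (by
      rw [Scheme.Opens.opensRange_ι, ← Scheme.Hom.comp_preimage, hsB, range_snd_slice U O (clf A f) inf_le_left hYO])
  haveI : IsClosedImmersion wB := MorphismProperty.of_isPullback HB.flip (inferInstanceAs (IsClosedImmersion sB))
  haveI : Surjective wB := MorphismProperty.of_isPullback HB.flip (inferInstanceAs (Surjective sB))
  haveI := isEquivalence_of_closed_surjective wB
  let V₂ := (FEt.restrict wB).objPreimage V₀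
  let g₁ : ((cq T ⁻¹ᵁ O : (Spec (CommRingCat.of (A ⧸ T))).Opens) : Scheme.{u}) ⟶ (W' : Scheme.{u}) :=
    (Spec (CommRingCat.of (A ⧸ T))).homOfLE hOW
  let V₁ := (FEt.restrict g₁).obj V'
  have hle : T ⊔ B ≤ (Ideal.span ({f'} : Set (A ⧸ T))).comap (Ideal.Quotient.mk T) := sup_le
    (fun a ha => by
      show Ideal.Quotient.mk T a ∈ Ideal.span {f'}
      rw [Ideal.Quotient.eq_zero_iff_mem.2 ha]; exact zero_mem _)
    ((Ideal.span_singleton_le_iff_mem _).2 (Ideal.mem_comap.2 (by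
      rw [map_pow]; exact Ideal.pow_mem_of_mem _ (Ideal.mem_span_singleton_self f') b hb0)))
  let κC : A ⧸ (T ⊔ B) →+* (A ⧸ T) ⧸ Ideal.span ({f'} : Set (A ⧸ T)) :=
    Ideal.quotientMap _ (Ideal.Quotient.mk T) hle
  have hκCs : Function.Surjective κC := fun x => by
    obtain ⟨y, rfl⟩ := Ideal.Quotient.mk_surjective x
    obtain ⟨a, rfl⟩ := Ideal.Quotient.mk_surjective y
    exact ⟨Ideal.Quotient.mk _ a, rfl⟩
  let sC := Spec.map (CommRingCat.ofHom κC)
  haveI : IsClosedImmersion sC := IsClosedImmersion.spec_of_surjective _ hκCs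
  haveI : Surjective sC := surjective_specMap _ hκCs fun P hP => by
    intro x hx
    obtain ⟨a, rfl⟩ := Ideal.Quotient.mk_surjective x
    have hx' : Ideal.Quotient.mk (Ideal.span {f'}) (Ideal.Quotient.mk T a) = 0 := hx
    obtain ⟨d, hd⟩ := Ideal.mem_span_singleton'.1 (Ideal.Quotient.eq_zero_iff_mem.1 hx')
    obtain ⟨d, rfl⟩ := Ideal.Quotient.mk_surjective d
    have h3 : a - d * f ∈ T ⊔ B := Ideal.mem_sup_left (Ideal.Quotient.eq.1 (hd.symm.trans (map_mul _ _ _).symm))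
    have hfP : Ideal.Quotient.mk (T ⊔ B) f ∈ P := hP.mem_of_pow_mem b (by
      rw [← map_pow, Ideal.Quotient.eq_zero_iff_mem.2 (Ideal.mem_sup_right (Ideal.mem_span_singleton_self _))]
      exact P.zero_mem)
    rw [Ideal.Quotient.eq.2 h3, map_mul]
    exact P.mul_mem_left _ hfP
  have hsCl : sC ≫ pl T B = clf (A ⧸ T) f' := by
    rw [← Spec.map_comp]
    exact congrArg Spec.map (CommRingCat.hom_ext (Ideal.Quotient.ringHom_ext (RingHom.ext fun _ => rfl)))
  have hsCr : sC ≫ pr T B = Spec.map (CommRingCat.ofHom κ) ≫ sB := by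
    rw [← Spec.map_comp, ← Spec.map_comp]
    exact congrArg Spec.map (CommRingCat.hom_ext (Ideal.Quotient.ringHom_ext (RingHom.ext fun _ => rfl)))
  have hY₁ : Set.range (pullback.fst U₁.ι (clf (A ⧸ T) f') ≫ U₁.ι) ⊆ (cq T ⁻¹ᵁ O : Set _) := by
    rintro _ ⟨z, rfl⟩
    refine hYO ⟨ψ z, ?_⟩
    show (ψ ≫ pullback.fst U.ι (clf A f) ≫ U.ι) z = (pullback.fst U₁.ι (clf (A ⧸ T) f') ≫ U₁.ι ≫ cq T) z
    rw [pullback.lift_fst_assoc, IsOpenImmersion.lift_fac]
  let wC : pullback U₁.ι (clf (A ⧸ T) f') ⟶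
      ((pl T B ⁻¹ᵁ (cq T ⁻¹ᵁ O) : (Spec (CommRingCat.of (A ⧸ (T ⊔ B)))).Opens) : Scheme.{u}) :=
    IsOpenImmersion.lift (pl T B ⁻¹ᵁ (cq T ⁻¹ᵁ O)).ι (pullback.snd U₁.ι (clf (A ⧸ T) f') ≫ sC) (by
      rintro _ ⟨z, rfl⟩
      rw [Scheme.Opens.range_ι]
      show (sC ≫ pl T B) (pullback.snd U₁.ι (clf (A ⧸ T) f') z) ∈ cq T ⁻¹ᵁ O
      rw [hsCl]
      show (pullback.snd U₁.ι (clf (A ⧸ T) f') ≫ clf (A ⧸ T) f') z ∈ cq T ⁻¹ᵁ O
      rw [← pullback.condition]
      exact hY₁ ⟨z, rfl⟩)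
  have hwC : wC ≫ (pl T B ⁻¹ᵁ (cq T ⁻¹ᵁ O)).ι = pullback.snd U₁.ι (clf (A ⧸ T) f') ≫ sC :=
    IsOpenImmersion.lift_fac _ _ _
  have HC : IsPullback wC (pullback.snd U₁.ι (clf (A ⧸ T) f')) (pl T B ⁻¹ᵁ (cq T ⁻¹ᵁ O)).ι sC :=
    IsOpenImmersion.isPullback _ _ _ _ hwC.symm (by
      rw [Scheme.Opens.opensRange_ι, ← Scheme.Hom.comp_preimage, hsCl,
        range_snd_slice U₁ (cq T ⁻¹ᵁ O) (clf (A ⧸ T) f') ((Scheme.Hom.preimage_mono _ inf_le_left).trans hpre.le) hY₁])
  haveI : IsClosedImmersion wC := MorphismProperty.of_isPullback HC.flip (inferInstanceAs (IsClosedImmersion sC))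
  haveI : Surjective wC := MorphismProperty.of_isPullback HC.flip (inferInstanceAs (Surjective sC))
  haveI := isEquivalence_of_closed_surjective wC
  have hl : (wC ≫ pl T B ∣_ (cq T ⁻¹ᵁ O)) ≫ g₁ = u₁ := by
    rw [← cancel_mono W'.ι, hu₁, Category.assoc, Category.assoc, Scheme.homOfLE_ι, morphismRestrict_ι,
      reassoc_of% hwC, hsCl, pullback.condition]
  have hr : wC ≫ prO T B O = ψ ≫ wB := by
    rw [← cancel_mono (cq B ⁻¹ᵁ O).ι, Category.assoc, prO_ι, Category.assoc, hwB, reassoc_of% hwC, hsCr,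
      pullback.lift_snd_assoc, Category.assoc]
  let e' : (FEt.restrict wC).obj ((FEt.restrict (pl T B ∣_ (cq T ⁻¹ᵁ O))).obj V₁) ≅
      (FEt.restrict wC).obj ((FEt.restrict (prO T B O)).obj V₂) :=
    (FEt21.restrictCompIso wC (pl T B ∣_ (cq T ⁻¹ᵁ O)) _ rfl V₁).symm ≪≫
      (FEt21.restrictCompIso (wC ≫ pl T B ∣_ (cq T ⁻¹ᵁ O)) g₁ u₁ hl V').symm ≪≫ eV ≪≫
      (FEt.restrict ψ).mapIso ((FEt.restrict wB).objObjPreimageIso V₀).symm ≪≫
      (FEt21.restrictCompIso ψ wB _ rfl V₂).symm ≪≫ FEt21.restrictCompIso wC (prO T B O) (ψ ≫ wB) hr V₂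
  obtain ⟨V, -, ⟨e₂⟩⟩ := exists_glued T B O (Tf_inf_eq_bot hb) V₁ V₂ ((FEt.restrict wC).preimageIso e')
  have hu' : wB ≫ cq B ∣_ O = u' := by
    rw [← cancel_mono O.ι, IsOpenImmersion.lift_fac, Category.assoc, morphismRestrict_ι, reassoc_of% hwB, hsB,
      pullback.condition]
  exact ⟨O, inf_le_left, u', IsOpenImmersion.lift_fac _ _ _, V,
    ⟨FEt21.restrictCompIso wB (cq B ∣_ O) u' hu' V ≪≫ (FEt.restrict wB).mapIso e₂ ≪≫
      (FEt.restrict wB).objObjPreimageIso V₀⟩⟩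

end GrothLib.LocFAdic21
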