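import Groth.Agent.Lib.LC.Seq
import Groth.Agent.Lib.LC.TopNonzero
import Groth.Agent.Lib.LCSupp.Basic

/-!
# Elements killing local cohomology
-/

set_option autoImplicit false
set_option linter.style.haveILetI false

universe u

open CategoryTheory CategoryTheory.Limits Abelian PrimeSpectrum

noncomputable section

namespace GrothLib.LocFAdic21

variable {A : Type u} [CommRing A]

/-- An element killing the cohomology with supports in `T = V(I)` kills `H_I`. -/
theorem smul_H_eq_zero_of_HT [IsNoetherianRing A] (I : Ideal A) {T : Set (PrimeSpectrum A)}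
    (hT : T = zeroLocus (I : Set A)) (i : ℕ) (M : Type u) [AddCommGroup M] [Module A M] (a : A)
    (h : ∀ x : Dual2.HT T i M, a • x = 0) (x : LocCoh.H I i M) : a • x = 0 := by
  obtain ⟨n, e, rfl⟩ := LC.exists_toH (R := A) I (i := i) (M := ModuleCat.of A M) x
  have hJ : zeroLocus ((I ^ n : Ideal A) : Set A) ⊆ T := LCSupp.mem_pow hT.ge n
  have h1 : LCSupp.toHT (T := T) i (I ^ n) hJ (ModuleCat.of A M) (a • e) = 0 := by
    rw [map_smul]
    exact h _
  obtain ⟨K, hK, hle, h0⟩ := (LCSupp.toHT_eq_zero_iff _).1 h1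
  have hrad : I ≤ K.radical := (PrimeSpectrum.zeroLocus_subset_zeroLocus_iff K I).1 (hK.trans hT.le)
  obtain ⟨k, hk⟩ := Ideal.exists_pow_le_of_le_radical_of_fg hrad (IsNoetherian.noetherian I)
  rw [← map_smul]
  refine (LC.toH_eq_zero_iff I _).2 ⟨max n k, le_max_left _ _, ?_⟩
  have hmK : I ^ max n k ≤ K := (Ideal.pow_le_pow_right (le_max_right n k)).trans hk
  have hc : LC.quotMap I (le_max_left n k) = LCSupp.quotMap hmK ≫ LCSupp.quotMap hle :=
    ModuleCat.hom_ext (Submodule.linearMap_qext _ (LinearMap.ext fun _ => rfl))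
  rw [hc, ← Ext.mk₀_comp_mk₀, Ext.comp_assoc_of_second_deg_zero, h0, Ext.comp_zero]

variable (I : Ideal A)

/-- Killers of the outer terms kill the middle of the long exact sequence. -/
theorem kill_X₃ {S : ShortComplex (ModuleCat.{u} A)} (hS : S.ShortExact) (i : ℕ) (a b : A)
    (h2 : ∀ y : (localCohomology I i).obj S.X₂, a • y = 0)
    (h1 : ∀ z : (localCohomology I (i + 1)).obj S.X₁, b • z = 0)
    (x : (localCohomology I i).obj S.X₃) : (a * b) • x = 0 := by
  have hd : LC.δ I hS i (b • x) = 0 := (map_smul _ _ _).trans (h1 _)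
  obtain ⟨y, hy⟩ := LC.exists_of_δ_eq_zero I hS i hd
  rw [mul_smul, ← hy, ← map_smul, h2 y, map_zero]

/-- A killer of the middle term and the preceding third term. -/
theorem kill_X₁ {S : ShortComplex (ModuleCat.{u} A)} (hS : S.ShortExact) (i : ℕ) (a b : A)
    (h2 : ∀ y : (localCohomology I (i + 1)).obj S.X₂, a • y = 0)
    (h3 : ∀ z : (localCohomology I i).obj S.X₃, b • z = 0)
    (x : (localCohomology I (i + 1)).obj S.X₁) : (b * a) • x = 0 := by
  have hd : (localCohomology I (i + 1)).map S.f (a • x) = 0 := (map_smul _ _ _).trans (h2 _)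
  obtain ⟨y, hy⟩ := LC.exists_of_map_f_eq_zero I hS i hd
  rw [mul_smul, ← hy, ← map_smul, h3 y, map_zero]

theorem map_add_apply {M N : ModuleCat.{u} A} (f g : M ⟶ N) (i : ℕ) (x : (localCohomology I i).obj M) :
    (localCohomology I i).map (f + g) x = (localCohomology I i).map f x + (localCohomology I i).map g x := by
  obtain ⟨n, e, rfl⟩ := LC.exists_toH I x
  rw [LC.map_toH, LC.map_toH, LC.map_toH, Ext.mk₀_add, Ext.comp_add, map_add]

theorem map_zero_apply {M N : ModuleCat.{u} A} (i : ℕ) (x : (localCohomology I i).obj M) :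
    (localCohomology I i).map (0 : M ⟶ N) x = 0 := by
  obtain ⟨n, e, rfl⟩ := LC.exists_toH I x
  rw [LC.map_toH, Ext.mk₀_zero, Ext.comp_zero, map_zero]

theorem map_smul_id_apply {M : ModuleCat.{u} A} (a : A) (i : ℕ) (x : (localCohomology I i).obj M) :
    (localCohomology I i).map (a • 𝟙 M) x = a • x := by
  obtain ⟨n, e, rfl⟩ := LC.exists_toH I x
  rw [LC.map_toH, Ext.mk₀_smul, Ext.comp_smul, Ext.comp_mk₀_id, map_smul]

/-- A killer of the cohomology of `B` kills the retracts of its powers. -/
theorem kill_retract {N B : Type u} [AddCommGroup N] [Module A N] [AddCommGroup B] [Module A B] {m : ℕ}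
    (φ : N →ₗ[A] (Fin m → B)) (ρ : (Fin m → B) →ₗ[A] N) (s : A) (hρ : ρ.comp φ = s • LinearMap.id)
    (i : ℕ) (a : A) (h : ∀ y : LocCoh.H I i B, a • y = 0) (x : LocCoh.H I i N) : (a * s) • x = 0 := by
  classical
  let α : Fin m → (ModuleCat.of A N ⟶ ModuleCat.of A B) := fun j => ModuleCat.ofHom ((LinearMap.proj j).comp φ)
  let β : Fin m → (ModuleCat.of A B ⟶ ModuleCat.of A N) := fun j =>
    ModuleCat.ofHom (ρ.comp (LinearMap.single A (fun _ => B) j))
  have hsum : s • 𝟙 (ModuleCat.of A N) = ∑ j, α j ≫ β j := by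
    refine ModuleCat.hom_ext (LinearMap.ext fun n => ?_)
    simp only [ModuleCat.hom_sum, LinearMap.sum_apply]
    show s • n = ∑ j, ρ (Pi.single j (φ n j))
    rw [← map_sum, Finset.univ_sum_single]
    exact (LinearMap.congr_fun hρ n).symm
  have key : ∀ t : Finset (Fin m), a • (localCohomology I i).map (∑ j ∈ t, α j ≫ β j) x = 0 := fun t => by
    induction t using Finset.induction with
    | empty => rw [Finset.sum_empty, map_zero_apply, smul_zero]
    | insert j t hj ih =>
      have h' : a • (localCohomology I i).map (α j) x = 0 := h _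
      rw [Finset.sum_insert hj, map_add_apply, smul_add, ih, add_zero, Functor.map_comp,
        ConcreteCategory.comp_apply, ← map_smul, h', map_zero]
  have := key Finset.univ
  rw [← hsum, map_smul_id_apply, smul_smul] at this
  exact this

/-- In an Artinian module a submodule killed by a power of the maximal ideal is finite. -/
theorem finite_range_smul [IsNoetherianRing A] [IsLocalRing A] {X : Type u} [AddCommGroup X] [Module A X]
    [IsArtinian A X] (r : A) {S : Ideal A} (hS : IsLocalRing.maximalIdeal A ≤ S.radical)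
    (h : ∀ s ∈ S, ∀ x : X, (s * r) • x = 0) :
    Module.Finite A (LinearMap.range (r • (LinearMap.id : X →ₗ[A] X))) := by
  obtain ⟨K, hK⟩ := Ideal.exists_pow_le_of_le_radical_of_fg hS (IsNoetherian.noetherian _)
  refine (LC.finite_iff_isArtinian_of_pow_smul (IsLocalRing.maximalIdeal A) (N := K) ?_).2 inferInstance
  rintro a ha ⟨_, x, rfl⟩
  refine Subtype.ext ?_
  show a • r • x = 0
  rw [smul_smul]
  exact h a (hK ha) x

/-- The ideal of killers of a scaled module. -/
theorem killer_mem_annihilator {X : Type u} [AddCommGroup X] [Module A X] (r : A) {G : Set A}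
    (h : ∀ s ∈ G, ∀ x : X, (s * r) • x = 0) {s : A} (hs : s ∈ Ideal.span G) (x : X) : (s * r) • x = 0 := by
  induction hs using Submodule.span_induction with
  | mem y hy => exact h y hy x
  | zero => rw [zero_mul, zero_smul]
  | add y z _ _ hy hz => rw [add_mul, add_smul, hy, hz, add_zero]
  | smul c y _ hy => rw [smul_eq_mul, mul_assoc, mul_smul, hy, smul_zero]

end GrothLib.LocFAdic21
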