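import Groth.Agent.S1711
import Groth.Agent.Lib.FaltingsT3.Main
import Groth.Agent.Lib.FiniteQuot.DepthDescent
import Groth.Agent.Lib.CanonMod.CodimOneConn
import Groth.Agent.Lib.Torsor21.HartogsQC
import Groth.Agent.LocFAdic21.Kill

/-!
# Killers of local cohomology from depth and dimension
-/

set_option autoImplicit false
set_option linter.style.haveILetI false
set_option linter.unusedSectionVars false

universe u

open CategoryTheory PrimeSpectrum GrothLib.DualRing

attribute [local instance] HasDerivedCategory.standard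

noncomputable section

namespace GrothLib.LocFAdic21

variable {A : Type u} [CommRing A] [IsNoetherianRing A] [IsLocalRing A]

local notation "𝔪" => IsLocalRing.maximalIdeal A

/-- The interval up to the closed point has the dimension of the quotient. -/
theorem krullDim_Icc_closed (p : PrimeSpectrum A) :
    Order.krullDim (Set.Icc p (IsLocalRing.closedPoint A)) = ringKrullDim (A ⧸ p.asIdeal) := by
  refine (Order.krullDim_eq_of_orderIso ((p.asIdeal.primeSpectrumQuotientOrderIsoZeroLocus).trans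
    (OrderIso.setCongr _ _ (Set.ext fun q => ?_)))).symm
  exact (PrimeSpectrum.mem_zeroLocus q _).trans
    ⟨fun h => ⟨h, IsLocalRing.le_maximalIdeal q.isPrime.ne_top⟩, fun h => h.1⟩

/-- The depth condition above the divisor. -/
abbrev DepthAbove (f : A) (s : ℕ) (M : Type u) [AddCommGroup M] [Module A M] : Prop :=
  ∀ p : Ideal A, ∀ _ : p.IsPrime, f ∉ p → (p ⊔ Ideal.span {f}).radical ≠ 𝔪 →
    (s : WithBot ℕ∞) < ((LocCoh.depth (Localization.AtPrime p) (LocalizedModule p.primeCompl M) : ℕ∞) : WithBot ℕ∞) +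
      ringKrullDim (A ⧸ p)

/-- Killers from the depth condition. -/
theorem exists_killers (hd : ∃ ω : Dual.D A, Dual.IsDualizing A ω) {f : A} (hf : f ∈ 𝔪) (s : ℕ)
    (M : Type u) [AddCommGroup M] [Module A M] [Module.Finite A M] (h : DepthAbove f s M) :
    ∃ (c : ℕ) (𝔷 : Ideal A), 𝔪 ≤ (𝔷 ⊔ Ideal.span {f}).radical ∧
      ∀ i, i ≤ s → ∀ z ∈ 𝔷, ∀ x : LocCoh.H 𝔪 i M, (f ^ c * z) • x = 0 := by
  let T : Set (PrimeSpectrum A) := {IsLocalRing.closedPoint A}
  let T' : Set (PrimeSpectrum A) := {p | f ∈ p.asIdeal ∨ (p.asIdeal ⊔ Ideal.span {f}).radical = 𝔪}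
  have hT : StableUnderSpecialization T := fun x y hxy hx => by
    have hle : x ≤ y := (PrimeSpectrum.le_iff_specializes x y).2 hxy
    refine Set.mem_singleton_iff.2 (le_antisymm (IsLocalRing.le_maximalIdeal y.isPrime.ne_top) ?_)
    exact (Set.mem_singleton_iff.1 hx).ge.trans hle
  have hT' : StableUnderSpecialization T' := fun x y hxy hx => by
    have hle : x.asIdeal ≤ y.asIdeal := (PrimeSpectrum.le_iff_specializes x y).2 hxy
    rcases hx with hx | hx
    · exact Or.inl (hle hx)
    · refine Or.inr (le_antisymm (IsLocalRing.le_maximalIdeal ?_) ?_)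
      · rw [ne_eq, Ideal.radical_eq_top]
        intro htop
        exact (IsLocalRing.maximalIdeal.isMaximal A).ne_top (top_le_iff.1 (htop.ge.trans
          (sup_le (IsLocalRing.le_maximalIdeal y.isPrime.ne_top) ((Ideal.span_singleton_le_iff_mem _).2 hf))))
      · exact hx.ge.trans (Ideal.radical_mono (sup_le_sup_right hle _))
  have hTT' : T ⊆ T' := fun x hx => Or.inl (by rw [Set.mem_singleton_iff.1 hx]; exact hf)
  have hcond : ∀ p q : PrimeSpectrum A, p ∉ T' → q ∈ T → p ≤ q → (s : WithBot ℕ∞) <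
      ((LocCoh.depth (Localization.AtPrime p.asIdeal) (LocalizedModule p.asIdeal.primeCompl M) : ℕ∞) : WithBot ℕ∞) +
        Order.krullDim (Set.Icc p q) := by
    intro p q hp hq _
    rw [Set.mem_singleton_iff.1 hq, krullDim_Icc_closed]
    exact h p.asIdeal p.isPrime (fun hh => hp (Or.inl hh)) fun hh => hp (Or.inr hh)
  obtain ⟨J, hJT, hJk⟩ := (Groth.Agent.S1711.result A hd T T' hT hT' hTT' s M).2 hcond
  let S : Set (Ideal A) := {P ∈ J.minimalPrimes | f ∉ P}
  have hSf : S.Finite := (Ideal.finite_minimalPrimes_of_isNoetherianRing A J).subset fun P hP => hP.1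
  let 𝔷 : Ideal A := hSf.toFinset.inf id
  have hmul : Ideal.span {f} * 𝔷 ≤ J.radical := by
    rw [← Ideal.sInf_minimalPrimes]
    refine le_sInf fun P hP => ?_
    by_cases hfP : f ∈ P
    · exact Ideal.mul_le_left.trans ((Ideal.span_singleton_le_iff_mem _).2 hfP)
    · exact Ideal.mul_le_right.trans (Finset.inf_le (f := id) (hSf.mem_toFinset.2 ⟨hP, hfP⟩))
  obtain ⟨N, hN⟩ := Ideal.exists_pow_le_of_le_radical_of_fg hmul (IsNoetherian.noetherian _)
  refine ⟨N, 𝔷 ^ N, ?_, fun i hi z hz x => ?_⟩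
  · rw [Ideal.radical_eq_sInf]
    refine le_sInf fun q ⟨hq, hqp⟩ => ?_
    have hzq : 𝔷 ≤ q := hqp.le_of_pow_le (le_sup_left.trans hq)
    obtain ⟨P, hP, hPq⟩ := (Ideal.IsPrime.inf_le' hqp).1 hzq
    rw [Set.Finite.mem_toFinset] at hP
    haveI : P.IsPrime := hP.1.1.1
    rcases (show (⟨P, ‹_›⟩ : PrimeSpectrum A) ∈ T' from hJT ((PrimeSpectrum.mem_zeroLocus _ _).2 hP.1.1.2)) with h' | h'
    · exact absurd h' hP.2
    · exact h'.ge.trans (hqp.radical_le_iff.2 (sup_le hPq (le_sup_right.trans hq)))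
  · refine smul_H_eq_zero_of_HT 𝔪 (T := T) ?_ i M _ (fun y => hJk i hi _ (hN ?_) y) x
    · ext y
      rw [Set.mem_singleton_iff, PrimeSpectrum.mem_zeroLocus]
      refine ⟨fun h => by subst h; exact subset_rfl, fun h => PrimeSpectrum.ext ?_⟩
      exact ((IsLocalRing.maximalIdeal.isMaximal A).eq_of_le y.isPrime.ne_top h).symm
    · rw [mul_pow]
      exact Ideal.mul_mem_mul (Ideal.pow_mem_pow (Ideal.mem_span_singleton_self f) N) hz

/-- The depth condition for the ring. -/
theorem depthAbove_self {f : A} {s : ℕ}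
    (h : ∀ p : Ideal A, ∀ _ : p.IsPrime, f ∉ p → (p ⊔ Ideal.span {f}).radical ≠ 𝔪 →
      (s : WithBot ℕ∞) < ((LocCoh.depth (Localization.AtPrime p) (Localization.AtPrime p) : ℕ∞) : WithBot ℕ∞) +
        ringKrullDim (A ⧸ p)) : DepthAbove f s A := fun p hp h1 h2 => by
  rw [FiniteQuot.depth_localizedModule_self p (Localization.AtPrime p)]
  exact h p hp h1 h2

/-- A prime with a nonclosed specialisation in the divisor has dimension at least two. -/
theorem two_le_ringKrullDim_quot {f : A} (hf : f ∈ 𝔪) (p : Ideal A) [p.IsPrime] (hfp : f ∉ p)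
    (hne : (p ⊔ Ideal.span {f}).radical ≠ 𝔪) : (2 : WithBot ℕ∞) ≤ ringKrullDim (A ⧸ p) := by
  have hle : (p ⊔ Ideal.span {f}).radical ≤ 𝔪 :=
    (IsLocalRing.maximalIdeal.isMaximal A).isPrime.radical_le_iff.2
      (sup_le (IsLocalRing.le_maximalIdeal (Ideal.IsPrime.ne_top ‹_›)) ((Ideal.span_singleton_le_iff_mem _).2 hf))
  obtain ⟨r, hr, hrp, hrm⟩ : ∃ r : Ideal A, r.IsPrime ∧ p ⊔ Ideal.span {f} ≤ r ∧ r ≠ 𝔪 := by
    by_contra hall
    refine hne (le_antisymm hle ?_)
    rw [Ideal.radical_eq_sInf]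
    exact le_sInf fun r ⟨h1, h2⟩ => (not_not.1 fun h3 => hall ⟨r, h2, h1, fun h4 => h3 h4.ge⟩)
  let P : PrimeSpectrum A := ⟨p, ‹_›⟩
  let R : PrimeSpectrum A := ⟨r, hr⟩
  have h1 : P < R := lt_of_le_of_ne (le_sup_left.trans hrp) fun h => hfp (by
    have he : p = r := congrArg PrimeSpectrum.asIdeal h
    rw [he]
    exact hrp (Ideal.mem_sup_right (Ideal.mem_span_singleton_self f)))
  have h2 : R < IsLocalRing.closedPoint A := lt_of_le_of_ne (IsLocalRing.le_maximalIdeal hr.ne_top)
    fun h => hrm (congrArg PrimeSpectrum.asIdeal h)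
  rw [← krullDim_Icc_closed P]
  let l : LTSeries (Set.Icc P (IsLocalRing.closedPoint A)) :=
    LTSeries.mk 2 ![⟨P, le_rfl, (h1.trans h2).le⟩, ⟨R, h1.le, h2.le⟩, ⟨IsLocalRing.closedPoint A, (h1.trans h2).le, le_rfl⟩]
      (Fin.strictMono_iff_lt_succ.2 fun i => by fin_cases i <;> [exact h1; exact h2])
  exact Order.LTSeries.length_le_krullDim l

/-- The depth condition from `(S_2)` and the dimensions of the components. -/
theorem depth_of_hasSk (hd : ∃ ω : Dual.D A, Dual.IsDualizing A ω) {f : A} (hf : f ∈ 𝔪)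
    (hS : LocCoh.HasSk 2 (Localization.Away f) (Localization.Away f))
    (hdim : ∀ p : Ideal A, p ∈ minimalPrimes A → f ∉ p → (4 : WithBot ℕ∞) ≤ ringKrullDim (A ⧸ p))
    (p : Ideal A) (hp : p.IsPrime) (hfp : f ∉ p) (hne : (p ⊔ Ideal.span {f}).radical ≠ 𝔪) :
    (3 : WithBot ℕ∞) < ((LocCoh.depth (Localization.AtPrime p) (Localization.AtPrime p) : ℕ∞) : WithBot ℕ∞) +
      ringKrullDim (A ⧸ p) := by
  obtain ⟨ω, hω⟩ := hd
  haveI := hp
  let L := Localization.Away f
  let P : Ideal L := p.map (algebraMap A L)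
  have hdisj : Disjoint (Submonoid.powers f : Set A) p := Set.disjoint_left.2 fun a ⟨n, hn⟩ ha => by
    refine hfp (hp.mem_of_pow_mem n ?_)
    have hn' : f ^ n = a := hn
    rw [hn']; exact ha
  haveI hPp : P.IsPrime := IsLocalization.isPrime_of_isPrime_disjoint _ L _ hp hdisj
  have hPc : P.comap (algebraMap A L) = p := IsLocalization.comap_map_of_isPrime_disjoint _ L hp hdisj
  haveI : IsLocalization.AtPrime (Localization.AtPrime P) p := by
    have h := IsLocalization.isLocalization_isLocalization_atPrime_isLocalization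
      (Submonoid.powers f) (Localization.AtPrime P) P
    simp only [hPc] at h
    exact h
  have h1 := hS P
  rw [FiniteQuot.supportDim_localizedModule_self, ← WithBot.coe_natCast, ← WithBot.coe_min, WithBot.coe_le_coe,
    FiniteQuot.depth_localizedModule_self P (Localization.AtPrime P),
    ← HartogsQC.depth_eq_of_ringEquiv (IsLocalization.algEquiv p.primeCompl (Localization.AtPrime p)
      (Localization.AtPrime P)).toRingEquiv] at h1
  have hht : P.height = p.height := by
    rw [← IsLocalization.height_under (Submonoid.powers f) P]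
    exact congrArg Ideal.height hPc
  rw [hht] at h1
  obtain ⟨Q, hQ, hQp⟩ := Ideal.exists_minimalPrimes_le (bot_le : (⊥ : Ideal A) ≤ p)
  haveI := hQ.1.1
  let pQ : PrimeSpectrum A := ⟨Q, hQ.1.1⟩
  let pp : PrimeSpectrum A := ⟨p, hp⟩
  let mm := IsLocalRing.closedPoint A
  have hQp' : pQ ≤ pp := hQp
  have hpm : pp ≤ mm := IsLocalRing.le_maximalIdeal hp.ne_top
  have e1 := hdim Q hQ fun h => hfp (hQp h)
  rw [← krullDim_Icc_closed pQ, FaltingsT3.krullDim_Icc hω (hQp'.trans hpm)] at e1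
  have e2 := two_le_ringKrullDim_quot hf p hfp hne
  rw [← krullDim_Icc_closed pp, FaltingsT3.krullDim_Icc hω hpm] at e2 ⊢
  have e3 : Order.krullDim (Set.Icc pQ pp) ≤ ((p.height : ℕ∞) : WithBot ℕ∞) := by
    rw [show p.height = Order.height pp from PrimeSpectrum.height_eq_orderHeight pp, Order.height_eq_krullDim_Iic]
    exact Order.krullDim_le_of_strictMono (fun x => (⟨x.1, x.2.2⟩ : Set.Iic pp)) fun _ _ h => h
  rw [FaltingsT3.krullDim_Icc hω hQp', ← WithBot.coe_natCast, WithBot.coe_le_coe] at e3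
  have m1 := (degS_strictMono hω).monotone hQp'
  have m2 := (degS_strictMono hω).monotone hpm
  simp only [degS] at m1 m2
  revert h1 e1 e2 e3 m1 m2
  simp only [pQ, pp, mm]
  generalize LocCoh.depth (Localization.AtPrime p) (Localization.AtPrime p) = d
  generalize p.height = h
  generalize deg hω Q = a
  generalize deg hω p = b
  generalize deg hω (IsLocalRing.closedPoint A).asIdeal = e
  intro h1 e1 e2 e3 m1 m2
  induction d with
  | top => exact WithBot.coe_lt_coe.2 (lt_of_lt_of_le (ENat.coe_lt_top 3) le_self_add)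
  | coe d =>
    induction h with
    | top =>
      norm_cast at *
      simp at h1
      exact_mod_cast (show 3 < d + (e - b).toNat by omega)
    | coe h =>
      norm_cast at *
      have h1' : 2 ≤ d ∨ h ≤ d := by
        rcases min_le_iff.1 h1 with h4 | h4
        · exact Or.inl (by exact_mod_cast h4)
        · exact Or.inr (by exact_mod_cast h4)
      exact_mod_cast (show 3 < d + (e - b).toNat by omega)

/-- Killers in degrees at most three under either hypothesis. -/
theorem exists_killers_three (hd : ∃ ω : Dual.D A, Dual.IsDualizing A ω) {f : A} (hf : f ∈ 𝔪)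
    (hc : ((LocCoh.HasSk 2 (Localization.Away f) (Localization.Away f) ∧
        ∀ p : Ideal A, p ∈ minimalPrimes A → f ∉ p → (4 : WithBot ℕ∞) ≤ ringKrullDim (A ⧸ p)) ∨
      (∀ p : Ideal A, ∀ _ : p.IsPrime, f ∉ p → (p ⊔ Ideal.span {f}).radical ≠ 𝔪 →
        (3 : WithBot ℕ∞) < (LocCoh.depth (Localization.AtPrime p) (Localization.AtPrime p) : WithBot ℕ∞) + ringKrullDim (A ⧸ p)))) :
    ∃ (c : ℕ) (𝔷 : Ideal A), 𝔪 ≤ (𝔷 ⊔ Ideal.span {f}).radical ∧
      ∀ i, i ≤ 3 → ∀ z ∈ 𝔷, ∀ x : LocCoh.H 𝔪 i A, (f ^ c * z) • x = 0 := by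
  refine exists_killers hd hf 3 A (depthAbove_self fun p hp h1 h2 => ?_)
  rcases hc with ⟨hS, hdim⟩ | hc
  · exact_mod_cast depth_of_hasSk hd hf hS hdim p hp h1 h2
  · exact_mod_cast hc p hp h1 h2

end GrothLib.LocFAdic21
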