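import Groth.Agent.LocFAdic21.Ess
import Groth.Agent.LocFAdic21.ExtendAll
import Groth.Agent.LocFAdic21.Killers

/-!
# Essential surjectivity and purity from killers of local cohomology
-/

set_option autoImplicit false
set_option linter.style.haveILetI false

universe u

open CategoryTheory CategoryTheory.Limits AlgebraicGeometry TopologicalSpace

noncomputable section

namespace GrothLib.LocFAdic21

variable {A : Type u} [CommRing A] [IsNoetherianRing A] [IsLocalRing A] {f : A} [IsAdicComplete (Ideal.span ({f} : Set A)) A]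

/-- Restriction to the punctured hypersurface is essentially surjective. -/
theorem essSurj_punctured_gen (hf : f ∈ IsLocalRing.maximalIdeal A) {c : ℕ} {𝔷 : Ideal A}
    (hrad : IsLocalRing.maximalIdeal A ≤ (𝔷 ⊔ Ideal.span {f}).radical)
    (hkill : ∀ i, i ≤ 3 → ∀ z ∈ 𝔷, ∀ x : LocCoh.H (IsLocalRing.maximalIdeal A) i A, (f ^ c * z) • x = 0)
    (hp : ∀ P : Ideal (Localization.Away f), ∀ _ : P.IsMaximal, FEt.PurityHolds (Localization.AtPrime P)) :
    (FEt.restrict (pullback.fst (FEt.puncturedSpec A).ι (clf A f))).EssSurj := by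
  refine ⟨fun V₀ => ?_⟩
  obtain ⟨U', hU', u', hu', V', ⟨e⟩⟩ := exists_extension_gen hf hrad (fun i _ => hkill i) V₀
  let U := FEt.puncturedSpec A
  haveI : IsLocallyNoetherian (U : Scheme.{u}) := isLocallyNoetherian_of_isOpenImmersion U.ι
  haveI : CompactSpace (U : Scheme.{u}) := isCompact_iff_compactSpace.1 (NoetherianSpace.isCompact _)
  haveI : IsNoetherian (U : Scheme.{u}) := {}
  let W : (U : Scheme.{u}).Opens := U.ι ⁻¹ᵁ U'
  have hY : (U : Set (Spec (CommRingCat.of A))) ∩ PrimeSpectrum.zeroLocus {f} ⊆ U' := by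
    rw [← range_slice]
    rintro _ ⟨z, rfl⟩
    rw [← hu']
    exact (u' z).2
  haveI : (FEt.restrict W.ι).EssSurj := GrothLib.FEt21.essSurj_of_purity W fun x hx => by
    let pp : PrimeSpectrum A := x.1
    have hxm : pp ≠ IsLocalRing.closedPoint A := x.2
    have hspec : ∀ r : Ideal A, r.IsPrime → pp.asIdeal ≤ r → f ∈ r → r = IsLocalRing.maximalIdeal A := by
      intro r hr hle hfr
      by_contra hne
      have hq : (⟨r, hr⟩ : PrimeSpectrum A) ∈ (U' : Set (Spec (CommRingCat.of A))) := hY
        ⟨show (⟨r, hr⟩ : PrimeSpectrum A) ∈ (U : Set (Spec (CommRingCat.of A))) from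
          fun h => hne (congrArg PrimeSpectrum.asIdeal (show (⟨r, hr⟩ : PrimeSpectrum A) = IsLocalRing.closedPoint A from h)),
          fun a ha => by
          rw [Set.mem_singleton_iff.1 ha]; exact hfr⟩
      exact hx (((PrimeSpectrum.le_iff_specializes pp ⟨r, hr⟩).1 hle).mem_open U'.2 hq)
    have hfp : f ∉ pp.asIdeal := fun h =>
      hxm (PrimeSpectrum.ext (hspec pp.asIdeal pp.isPrime le_rfl h))
    let L := Localization.Away f
    let P : Ideal L := pp.asIdeal.map (algebraMap A L)
    have hdisj : Disjoint (Submonoid.powers f : Set A) pp.asIdeal := Set.disjoint_left.2 fun a ⟨n, hn⟩ ha =>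
      hfp (pp.isPrime.mem_of_pow_mem n (by
        have hn' : f ^ n = a := hn
        rw [hn']; exact ha))
    haveI hPp : P.IsPrime := IsLocalization.isPrime_of_isPrime_disjoint _ L _ pp.isPrime hdisj
    have hPc : P.comap (algebraMap A L) = pp.asIdeal :=
      IsLocalization.comap_map_of_isPrime_disjoint _ L pp.isPrime hdisj
    have hmax : P.IsMaximal := by
      obtain ⟨N, hN, hle⟩ := Ideal.exists_le_maximal P hPp.ne_top
      haveI := hN
      have h3 : pp.asIdeal ≤ N.comap (algebraMap A L) := hPc.ge.trans (Ideal.comap_mono hle)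
      have h4 : f ∉ N.comap (algebraMap A L) := fun h => hN.ne_top (Ideal.eq_top_of_isUnit_mem _ h
        (IsLocalization.map_units L (⟨f, Submonoid.mem_powers f⟩ : Submonoid.powers f)))
      haveI := pp.isPrime
      have h5 := eq_of_lt_of_not_mem hf h3 (fun h => h4 (h ▸ hf)) hspec
      have h6 : N = P := by
        exact (IsLocalization.map_comap (Submonoid.powers f) L N).symm.trans (congrArg (Ideal.map (algebraMap A L)) h5)
      exact h6 ▸ hN
    haveI : IsLocalization.AtPrime (Localization.AtPrime P) pp.asIdeal := by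
      have h := IsLocalization.isLocalization_isLocalization_atPrime_isLocalization
        (Submonoid.powers f) (Localization.AtPrime P) P
      simp only [hPc] at h
      exact h
    let σ : (U : Scheme.{u}).presheaf.stalk x ≃+* Localization.AtPrime P :=
      ((U.stalkIso x).commRingCatIsoToRingEquiv.trans
        (StructureSheaf.stalkIso (CommRingCat.of A) pp).symm.toRingEquiv).trans
        (IsLocalization.algEquiv pp.asIdeal.primeCompl (Localization.AtPrime pp.asIdeal)
          (Localization.AtPrime P)).toRingEquiv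
    exact CIPure21.purityHolds_congr σ (hp P hmax)
  let g : (W : Scheme.{u}) ⟶ (U' : Scheme.{u}) := IsOpenImmersion.lift U'.ι (W.ι ≫ U.ι) (by
    rintro _ ⟨y, rfl⟩
    rw [Scheme.Opens.range_ι]
    exact y.2)
  have hg : g ≫ U'.ι = W.ι ≫ U.ι := IsOpenImmersion.lift_fac _ _ _
  haveI : IsIso g := by
    haveI : IsOpenImmersion g := by
      have : IsOpenImmersion (g ≫ U'.ι) := by rw [hg]; infer_instance
      exact IsOpenImmersion.of_comp g U'.ι
    haveI : Epi g.base := (TopCat.epi_iff_surjective _).2 fun y => by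
      refine ⟨⟨⟨y.1, hU' y.2⟩, y.2⟩, Subtype.ext ?_⟩
      exact congrArg (fun k => (k : _ ⟶ Spec (CommRingCat.of A)) _) hg
    exact (isIso_iff_isOpenImmersion_and_epi_base g).2 ⟨inferInstance, inferInstance⟩
  let Z := (FEt.restrict W.ι).objPreimage ((FEt.restrict g).obj V')
  let w : pullback U.ι (clf A f) ⟶ (W : Scheme.{u}) := u' ≫ inv g
  have hw : w ≫ W.ι = pullback.fst U.ι (clf A f) := by
    rw [← cancel_mono U.ι, Category.assoc, Category.assoc, ← hg, IsIso.inv_hom_id_assoc]
    exact hu'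
  refine ⟨Z, ⟨FEt21.restrictCompIso w W.ι _ hw _ ≪≫ (FEt.restrict w).mapIso
    ((FEt.restrict W.ι).objObjPreimageIso _) ≪≫ (FEt21.restrictCompIso w g _ (by simp [w]) V').symm ≪≫ e⟩⟩

/-- Purity of the quotient. -/
theorem purityHolds_quotient_gen (hf : f ∈ IsLocalRing.maximalIdeal A) {c : ℕ} {𝔷 : Ideal A}
    (hrad : IsLocalRing.maximalIdeal A ≤ (𝔷 ⊔ Ideal.span {f}).radical)
    (hkill : ∀ i, i ≤ 3 → ∀ z ∈ 𝔷, ∀ x : LocCoh.H (IsLocalRing.maximalIdeal A) i A, (f ^ c * z) • x = 0)
    (hp : ∀ P : Ideal (Localization.Away f), ∀ _ : P.IsMaximal, FEt.PurityHolds (Localization.AtPrime P))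
    (hA : FEt.PurityHolds A) [IsLocalRing (A ⧸ Ideal.span ({f} : Set A))] :
    FEt.PurityHolds (A ⧸ Ideal.span ({f} : Set A)) := by
  haveI := essSurj_punctured_gen hf hrad hkill hp
  haveI : (FEt.restrict (FEt.puncturedSpec A).ι).EssSurj := hA
  let U₀ := FEt.puncturedSpec (A ⧸ Ideal.span ({f} : Set A))
  haveI : IsClosedImmersion (clf A f) := IsClosedImmersion.spec_of_surjective _ Ideal.Quotient.mk_surjective
  have hc : clf A f (IsLocalRing.closedPoint (A ⧸ Ideal.span ({f} : Set A))) = IsLocalRing.closedPoint A := by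
    haveI : IsLocalHom (Ideal.Quotient.mk (Ideal.span ({f} : Set A))) :=
      IsLocalHom.of_surjective _ Ideal.Quotient.mk_surjective
    exact IsLocalRing.comap_closedPoint _
  have hpre : clf A f ⁻¹ᵁ FEt.puncturedSpec A = U₀ := by
    ext p
    show clf A f p ≠ IsLocalRing.closedPoint A ↔ p ≠ IsLocalRing.closedPoint _
    rw [← hc]
    exact not_congr (clf A f).isClosedEmbedding.injective.eq_iff
  let a : (U₀ : Scheme.{u}) ⟶ (FEt.puncturedSpec A : Scheme.{u}) :=
    IsOpenImmersion.lift (FEt.puncturedSpec A).ι (U₀.ι ≫ clf A f) (by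
      rintro _ ⟨w, rfl⟩
      rw [Scheme.Opens.range_ι]
      exact hpre.ge w.2)
  have H : IsPullback a U₀.ι (FEt.puncturedSpec A).ι (clf A f) :=
    IsOpenImmersion.isPullback a U₀.ι _ _ (IsOpenImmersion.lift_fac _ _ _).symm
      (by rw [Scheme.Opens.opensRange_ι, hpre, Scheme.Opens.opensRange_ι])
  haveI := PunctPure21.isEquivalence_of_isIso H.isoPullback.hom
  refine ⟨fun V => ?_⟩
  let V₀ := (FEt.restrict H.isoPullback.hom).objPreimage V
  let W := (FEt.restrict (pullback.fst (FEt.puncturedSpec A).ι (clf A f))).objPreimage V₀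
  let Z := (FEt.restrict (FEt.puncturedSpec A).ι).objPreimage W
  refine ⟨(FEt.restrict (clf A f)).obj Z, ⟨?_⟩⟩
  exact (FEt21.restrictCompIso U₀.ι (clf A f) _ rfl Z).symm ≪≫
    FEt21.restrictCompIso a (FEt.puncturedSpec A).ι _ (IsOpenImmersion.lift_fac _ _ _) Z ≪≫
    (FEt.restrict a).mapIso ((FEt.restrict (FEt.puncturedSpec A).ι).objObjPreimageIso W) ≪≫
    FEt21.restrictCompIso H.isoPullback.hom (pullback.fst _ _) a H.isoPullback_hom_fst W ≪≫
    (FEt.restrict H.isoPullback.hom).mapIso
      ((FEt.restrict (pullback.fst (FEt.puncturedSpec A).ι (clf A f))).objObjPreimageIso V₀) ≪≫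
    (FEt.restrict H.isoPullback.hom).objObjPreimageIso V

end GrothLib.LocFAdic21
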