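import Groth.Agent.S1711
import Groth.Agent.Lib.FaltingsT3.Main
import Groth.Agent.Lib.LC.FlatBC
import Groth.Agent.LocFAdic21.Killers

/-!
# Depth conditions from powers killing local cohomology
-/

set_option autoImplicit false
set_option linter.style.haveILetI false
set_option linter.unusedSectionVars false

universe u

open CategoryTheory CategoryTheory.Limits Abelian PrimeSpectrum TensorProduct

attribute [local instance] HasDerivedCategory.standard

noncomputable section

namespace GrothLib.LocFAdic21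

variable {A : Type u} [CommRing A] [IsNoetherianRing A]

/-- An element killing `H_I` kills the cohomology with supports in `V(I)`. -/
theorem smul_HT_eq_zero_of_H (I : Ideal A) {T : Set (PrimeSpectrum A)}
    (hT : T = zeroLocus (I : Set A)) (i : ℕ) (M : Type u) [AddCommGroup M] [Module A M] (a : A)
    (h : ∀ x : LocCoh.H I i M, a • x = 0) (x : Dual2.HT T i M) : a • x = 0 := by
  obtain ⟨J, hJ, e, rfl⟩ := LCSupp.exists_toHT (T := T) (i := i) (M := ModuleCat.of A M) x
  have hrad : I ≤ J.radical := (PrimeSpectrum.zeroLocus_subset_zeroLocus_iff J I).1 (hJ.trans hT.le)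
  obtain ⟨n, hn⟩ := Ideal.exists_pow_le_of_le_radical_of_fg hrad (IsNoetherian.noetherian I)
  let e' : Ext (LC.quotPow I n) (ModuleCat.of A M) i :=
    (Ext.mk₀ (LCSupp.quotMap hn)).comp e (zero_add i)
  have h1 : LC.toH I i n (ModuleCat.of A M) (a • e') = 0 := by
    rw [map_smul]
    exact h _
  obtain ⟨m, hnm, h0⟩ := (LC.toH_eq_zero_iff I _).1 h1
  rw [← LCSupp.toHT_restrict (LCSupp.mem_pow hT.ge n) hn e, ← map_smul]
  refine (LCSupp.toHT_eq_zero_iff _).2 ⟨I ^ m, LCSupp.mem_pow hT.ge m, Ideal.pow_le_pow_right hnm, ?_⟩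
  have hc : LC.quotMap I hnm = LCSupp.quotMap (Ideal.pow_le_pow_right hnm : I ^ m ≤ I ^ n) :=
    ModuleCat.hom_ext (Submodule.linearMap_qext _ (LinearMap.ext fun _ => rfl))
  rw [← hc]
  exact h0

/-- Killers pass to a flat algebra. -/
theorem smul_H_baseChange_eq_zero (R' : Type u) [CommRing R'] [IsNoetherianRing R'] [Algebra A R']
    [Module.Flat A R'] (I : Ideal A) (i : ℕ) (a : A) (h : ∀ x : LocCoh.H I i A, a • x = 0)
    (x : LocCoh.H (I.map (algebraMap A R')) i R') : algebraMap A R' a • x = 0 := by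
  obtain ⟨e⟩ := LC.nonempty_baseChange_equiv (R' := R') I i A
  let c : LocCoh.H (I.map (algebraMap A R')) i (R' ⊗[A] A) ≃ₗ[R'] LocCoh.H (I.map (algebraMap A R')) i R' :=
    ((localCohomology (R := R') (I.map (algebraMap A R')) i).mapIso
      (AlgebraTensorModule.rid A R' R').toModuleIso).toLinearEquiv
  obtain ⟨y, rfl⟩ := (e.trans c).surjective x
  rw [← map_smul]
  suffices hy : algebraMap A R' a • y = 0 by rw [hy, map_zero]
  induction y using TensorProduct.induction_on with
  | zero => exact smul_zero _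
  | tmul r m =>
    rw [← algebra_compatible_smul R' a]
    exact ((TensorProduct.tmul_smul a r m).symm.trans (congrArg (r ⊗ₜ[A] ·) (h m))).trans (TensorProduct.tmul_zero _ _)
  | add p q hp hq => rw [smul_add, hp, hq, add_zero]

variable [IsLocalRing A]

local notation "𝔪" => IsLocalRing.maximalIdeal A

/-- A power of an element of the maximal ideal kills the torsion. -/
theorem exists_pow_smul_H_zero {f : A} (hf : f ∈ 𝔪) :
    ∃ n : ℕ, ∀ x : LocCoh.H 𝔪 0 A, f ^ n • x = 0 := by
  haveI : Module.Finite A (DRing.torsionSub 𝔪 A) := Module.Finite.iff_fg.2 (IsNoetherian.noetherian _)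
  obtain ⟨s, hs⟩ := (Module.Finite.fg_top : (⊤ : Submodule A (DRing.torsionSub 𝔪 A)).FG)
  have htors : ∀ y : DRing.torsionSub 𝔪 A, ∃ n, f ^ n • y = 0 := fun y => by
    obtain ⟨n, hn⟩ := (LC.mem_torsionSub_iff 𝔪 A y.1).1 y.2
    exact ⟨n, Subtype.ext ((Submodule.mem_annihilator_span_singleton _ _).1 (hn (Ideal.pow_mem_pow hf n)))⟩
  choose k hk using htors
  refine ⟨s.sup k, fun x => ?_⟩
  obtain ⟨y, rfl⟩ := (LC.torsionEquiv 𝔪 (ModuleCat.of A A)).surjective x
  rw [← map_smul]
  suffices hy : f ^ s.sup k • (y : DRing.torsionSub 𝔪 A) = 0 from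
    (congrArg (LC.torsionEquiv 𝔪 (ModuleCat.of A A)) hy).trans (map_zero _)
  have hy : (y : DRing.torsionSub 𝔪 A) ∈ Submodule.span A (s : Set (DRing.torsionSub 𝔪 A)) := hs ▸ Submodule.mem_top
  induction hy using Submodule.span_induction with
  | mem z hz => rw [← Nat.sub_add_cancel (Finset.le_sup (f := k) hz), pow_add, mul_smul, hk, smul_zero]
  | zero => exact smul_zero _
  | add z w _ _ h h' => rw [smul_add, h, h', add_zero]
  | smul r z _ h => rw [smul_comm, h, smul_zero]

/-- The depth condition from a power killing local cohomology in degrees one and two. -/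
theorem depth_of_pow_kill (hd : ∃ ω : Dual.D A, Dual.IsDualizing A ω) {f : A} (hf : f ∈ 𝔪)
    (h1 : ∃ n : ℕ, ∀ x : LocCoh.H 𝔪 1 A, f ^ n • x = 0) (h2 : ∃ n : ℕ, ∀ x : LocCoh.H 𝔪 2 A, f ^ n • x = 0)
    (p : Ideal A) (hp : p.IsPrime) (hfp : f ∉ p) :
    (2 : WithBot ℕ∞) < ((LocCoh.depth (Localization.AtPrime p) (Localization.AtPrime p) : ℕ∞) : WithBot ℕ∞) +
      ringKrullDim (A ⧸ p) := by
  obtain ⟨n₀, h₀⟩ := exists_pow_smul_H_zero (A := A) hf
  obtain ⟨n₁, h₁⟩ := h1
  obtain ⟨n₂, h₂⟩ := h2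
  let T : Set (PrimeSpectrum A) := {IsLocalRing.closedPoint A}
  let T' : Set (PrimeSpectrum A) := {p | f ∈ p.asIdeal}
  have hT : StableUnderSpecialization T := fun x y hxy hx => by
    have hle : x ≤ y := (PrimeSpectrum.le_iff_specializes x y).2 hxy
    refine Set.mem_singleton_iff.2 (le_antisymm (IsLocalRing.le_maximalIdeal y.isPrime.ne_top) ?_)
    exact (Set.mem_singleton_iff.1 hx).ge.trans hle
  have hT' : StableUnderSpecialization T' := fun x y hxy hx =>
    (show x.asIdeal ≤ y.asIdeal from (PrimeSpectrum.le_iff_specializes x y).2 hxy) hx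
  have hTT' : T ⊆ T' := fun x hx => by
    show f ∈ x.asIdeal
    rw [Set.mem_singleton_iff.1 hx]; exact hf
  have hTm : T = zeroLocus (𝔪 : Set A) := by
    ext y
    rw [Set.mem_singleton_iff, PrimeSpectrum.mem_zeroLocus]
    refine ⟨fun h => by subst h; exact subset_rfl, fun h => PrimeSpectrum.ext ?_⟩
    exact ((IsLocalRing.maximalIdeal.isMaximal A).eq_of_le y.isPrime.ne_top h).symm
  let N := n₀ + n₁ + n₂
  have hk : ∀ i, i ≤ 2 → ∀ x : LocCoh.H 𝔪 i A, f ^ N • x = 0 := fun i hi x => by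
    interval_cases i
    · rw [show f ^ N = f ^ (n₁ + n₂) * f ^ n₀ by rw [← pow_add]; congr 1; omega, mul_smul, h₀, smul_zero]
    · rw [show f ^ N = f ^ (n₀ + n₂) * f ^ n₁ by rw [← pow_add]; congr 1; omega, mul_smul, h₁, smul_zero]
    · rw [pow_add, mul_smul, h₂, smul_zero]
  have hcond := (Groth.Agent.S1711.result A hd T T' hT hT' hTT' 2 A).1 ⟨Ideal.span {f ^ N}, fun q hq => by
      rw [PrimeSpectrum.zeroLocus_span, PrimeSpectrum.mem_zeroLocus, Set.singleton_subset_iff] at hq
      exact q.isPrime.mem_of_pow_mem N hq,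
    fun i hi a ha x => by
      obtain ⟨c, rfl⟩ := Ideal.mem_span_singleton'.1 ha
      rw [mul_smul, smul_HT_eq_zero_of_H 𝔪 hTm i A _ (hk i hi) x, smul_zero]⟩
    ⟨p, hp⟩ (IsLocalRing.closedPoint A) hfp rfl (IsLocalRing.le_maximalIdeal hp.ne_top)
  rw [krullDim_Icc_closed] at hcond
  haveI := hp
  rw [FiniteQuot.depth_localizedModule_self p (Localization.AtPrime p)] at hcond
  exact_mod_cast hcond

end GrothLib.LocFAdic21
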