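import Groth.Agent.LocFAdic21.NhdFF
import Groth.Agent.LocFAdic21.KillConv
import Groth.Agent.LocFAdic21.Ess
import Groth.Agent.Lib.FEt21.DepthTwo

/-!
# Full faithfulness from the punctured spectrum to the punctured hypersurface
-/

set_option autoImplicit false
set_option linter.style.haveILetI false
set_option linter.unusedSectionVars false

universe u

open CategoryTheory CategoryTheory.Limits AlgebraicGeometry TopologicalSpace

attribute [local instance] HasDerivedCategory.standard

noncomputable section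

namespace GrothLib.LocFAdic21

variable {A : Type u} [CommRing A] [IsNoetherianRing A] [IsLocalRing A]

local notation "𝔪" => IsLocalRing.maximalIdeal A

/-- At a minimal prime the depth is zero. -/
theorem depth_minimalPrime (p : Ideal A) [p.IsPrime] (hp : p ∈ minimalPrimes A) :
    LocCoh.depth (Localization.AtPrime p) (Localization.AtPrime p) = 0 := by
  let L := Localization.AtPrime p
  haveI : IsNoetherianRing L := GrothLib.Depth.isNoetherian_atPrime p
  rw [CMBasics.depth_eq_zero_iff]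
  obtain ⟨P, hP⟩ := associatedPrimes.nonempty L L
  haveI : P.IsPrime := IsAssociatedPrime.isPrime hP
  have hle : P.comap (algebraMap A L) ≤ p := fun x hx => by
    by_contra hxp
    exact Ideal.IsPrime.ne_top ‹P.IsPrime› (Ideal.eq_top_of_isUnit_mem _ hx
      (IsLocalization.map_units L (⟨x, hxp⟩ : p.primeCompl)))
  have he : P.comap (algebraMap A L) = p := le_antisymm hle (hp.2 ⟨inferInstance, bot_le⟩ hle)
  have hPm : P = IsLocalRing.maximalIdeal L := by
    exact (IsLocalization.map_comap p.primeCompl L P).symm.trans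
      ((congrArg (Ideal.map (algebraMap A L)) he).trans (Localization.AtPrime.map_eq_maximalIdeal (I := p)))
  exact hPm ▸ hP

/-- The components off the hypersurface have dimension at least three. -/
theorem three_le_dim {f : A}
    (hdep : ∀ p : Ideal A, ∀ _ : p.IsPrime, f ∉ p →
      (2 : WithBot ℕ∞) < ((LocCoh.depth (Localization.AtPrime p) (Localization.AtPrime p) : ℕ∞) : WithBot ℕ∞) +
        ringKrullDim (A ⧸ p))
    (p : Ideal A) (hp : p ∈ minimalPrimes A) (hfp : f ∉ p) : (3 : WithBot ℕ∞) ≤ ringKrullDim (A ⧸ p) := by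
  haveI := hp.1.1
  have h := hdep p hp.1.1 hfp
  rw [depth_minimalPrime p hp, WithBot.coe_zero, zero_add] at h
  revert h
  generalize ringKrullDim (A ⧸ p) = d
  intro h
  induction d with
  | bot => exact absurd h not_lt_bot
  | coe d =>
    rw [show (3 : WithBot ℕ∞) = ((3 : ℕ∞) : WithBot ℕ∞) from rfl, WithBot.coe_le_coe]
    rw [show (2 : WithBot ℕ∞) = ((2 : ℕ∞) : WithBot ℕ∞) from rfl, WithBot.coe_lt_coe] at h
    exact Order.add_one_le_of_lt h

/-- A prime off `f` with no other specialisation in the punctured hypersurface has depth two. -/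
theorem two_le_depth {f : A} (hf : f ∈ 𝔪)
    (hdep : ∀ p : Ideal A, ∀ _ : p.IsPrime, f ∉ p →
      (2 : WithBot ℕ∞) < ((LocCoh.depth (Localization.AtPrime p) (Localization.AtPrime p) : ℕ∞) : WithBot ℕ∞) +
        ringKrullDim (A ⧸ p))
    (p : Ideal A) [hp : p.IsPrime] (hfp : f ∉ p)
    (hspec : ∀ r : Ideal A, r.IsPrime → p ≤ r → f ∈ r → r = 𝔪) :
    (2 : ℕ∞) ≤ LocCoh.depth (Localization.AtPrime p) (Localization.AtPrime p) := by
  have hd1 : ringKrullDim (A ⧸ p) ≤ 1 := by
    rw [← krullDim_Icc_closed ⟨p, hp⟩]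
    refine iSup_le fun l => ?_
    by_contra hlen
    have h2 : 2 ≤ l.length := by
      by_contra h'
      refine hlen ?_
      exact_mod_cast (show l.length ≤ 1 by omega)
    have hlt : l ⟨1, by omega⟩ < l ⟨2, by omega⟩ := l.strictMono (by exact (Fin.mk_lt_mk.2 one_lt_two))
    have hlt0 : l ⟨0, by omega⟩ < l ⟨1, by omega⟩ := l.strictMono (by exact (Fin.mk_lt_mk.2 one_pos))
    let q : PrimeSpectrum A := (l ⟨1, by omega⟩).1
    have hpq : p ≤ q.asIdeal := (l ⟨1, by omega⟩).2.1
    have hqm : q.asIdeal ≠ 𝔪 := fun h => by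
      have hq : q = IsLocalRing.closedPoint A := PrimeSpectrum.ext h
      refine not_le_of_gt (show q < (l ⟨2, by omega⟩).1 from hlt) ?_
      rw [hq]
      exact (l ⟨2, by omega⟩).2.2
    haveI := q.isPrime
    have hqp := eq_of_lt_of_not_mem hf hpq hqm hspec
    exact not_le_of_gt (show (l ⟨0, by omega⟩).1 < q from hlt0) (show q.asIdeal ≤ (l ⟨0, by omega⟩).1.asIdeal from
      hqp.le.trans (l ⟨0, by omega⟩).2.1)
  have h := lt_of_lt_of_le (hdep p hp hfp) (add_le_add_right hd1 _)
  rw [show (2 : WithBot ℕ∞) = ((2 : ℕ∞) : WithBot ℕ∞) from rfl, ← WithBot.coe_one, ← WithBot.coe_add,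
    WithBot.coe_lt_coe] at h
  exact Order.le_of_lt_add_one h

/-- Restriction to the punctured hypersurface is fully faithful. -/
theorem fullyFaithful_punctured (hd : ∃ ω : Dual.D A, Dual.IsDualizing A ω) {f : A} (hf : f ∈ 𝔪)
    [IsAdicComplete (Ideal.span ({f} : Set A)) A]
    (hdep : ∀ p : Ideal A, ∀ _ : p.IsPrime, f ∉ p →
      (2 : WithBot ℕ∞) < ((LocCoh.depth (Localization.AtPrime p) (Localization.AtPrime p) : ℕ∞) : WithBot ℕ∞) +
        ringKrullDim (A ⧸ p)) :
    (FEt.restrict (pullback.fst (FEt.puncturedSpec A).ι (clf A f))).Full ∧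
      (FEt.restrict (pullback.fst (FEt.puncturedSpec A).ι (clf A f))).Faithful := by
  obtain ⟨V, hYV, hV⟩ := exists_nhd_fullyFaithful hd hf (three_le_dim hdep)
  let U := FEt.puncturedSpec A
  haveI : IsLocallyNoetherian (U : Scheme.{u}) := isLocallyNoetherian_of_isOpenImmersion U.ι
  let W : (Spec (CommRingCat.of A)).Opens := U ⊓ V
  let WU : (U : Scheme.{u}).Opens := U.ι ⁻¹ᵁ W
  let p := pullback.fst U.ι (clf A f) ≫ U.ι
  have hpW : Set.range p ⊆ Set.range W.ι := by
    rw [Scheme.Opens.range_ι]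
    rintro _ ⟨z, rfl⟩
    exact ⟨(pullback.fst U.ι (clf A f) z).2, hYV ⟨z, rfl⟩⟩
  let u : pullback U.ι (clf A f) ⟶ (W : Scheme.{u}) := IsOpenImmersion.lift W.ι p hpW
  have hu : u ≫ W.ι = p := IsOpenImmersion.lift_fac _ _ _
  obtain ⟨hfull, hfaith⟩ := hV W inf_le_right inf_le_left u hu
  have hout : GrothLib.Depth.DepthTwoOutside WU := by
    intro x hx
    let pp : PrimeSpectrum A := x.1
    have hspec : ∀ r : Ideal A, r.IsPrime → pp.asIdeal ≤ r → f ∈ r → r = 𝔪 := by
      intro r hr hle hfr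
      by_contra hne
      have hq : (⟨r, hr⟩ : PrimeSpectrum A) ∈ (W : Set (Spec (CommRingCat.of A))) := by
        refine (show Set.range p ⊆ (W : Set (Spec (CommRingCat.of A))) from by rwa [Scheme.Opens.range_ι] at hpW) ?_
        rw [show Set.range p = (U : Set (Spec (CommRingCat.of A))) ∩ PrimeSpectrum.zeroLocus {f} from range_slice A f]
        exact ⟨show (⟨r, hr⟩ : PrimeSpectrum A) ∈ (U : Set (Spec (CommRingCat.of A))) from
          fun h => hne (congrArg PrimeSpectrum.asIdeal (show (⟨r, hr⟩ : PrimeSpectrum A) = IsLocalRing.closedPoint A from h)),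
          fun a ha => by rw [Set.mem_singleton_iff.1 ha]; exact hfr⟩
      exact hx (((PrimeSpectrum.le_iff_specializes pp ⟨r, hr⟩).1 hle).mem_open W.2 hq)
    have hfp : f ∉ pp.asIdeal := fun h =>
      (show pp ≠ IsLocalRing.closedPoint A from x.2) (PrimeSpectrum.ext (hspec pp.asIdeal pp.isPrime le_rfl h))
    haveI := pp.isPrime
    refine (two_le_depth hf hdep pp.asIdeal hfp hspec).trans_eq ?_
    rw [← GrothLib.FEt21.depth_stalk_Spec A pp]
    exact (HartogsQC.depth_eq_of_ringEquiv (U.stalkIso x).commRingCatIsoToRingEquiv).symm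
  obtain ⟨hfull', hfaith'⟩ := GrothLib.FEt21.fullyFaithful_of_depthTwo hout
  let g : (WU : Scheme.{u}) ⟶ (W : Scheme.{u}) := IsOpenImmersion.lift W.ι (WU.ι ≫ U.ι) (by
    rintro _ ⟨y, rfl⟩
    rw [Scheme.Opens.range_ι]
    exact y.2)
  have hg : g ≫ W.ι = WU.ι ≫ U.ι := IsOpenImmersion.lift_fac _ _ _
  haveI : IsIso g := by
    haveI : IsOpenImmersion g := by
      have : IsOpenImmersion (g ≫ W.ι) := by rw [hg]; infer_instance
      exact IsOpenImmersion.of_comp g W.ι
    haveI : Epi g.base := (TopCat.epi_iff_surjective _).2 fun y => by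
      refine ⟨⟨⟨y.1, y.2.1⟩, y.2⟩, Subtype.ext ?_⟩
      exact congrArg (fun k => (k : _ ⟶ Spec (CommRingCat.of A)) _) hg
    exact (isIso_iff_isOpenImmersion_and_epi_base g).2 ⟨inferInstance, inferInstance⟩
  have hw : (u ≫ inv g) ≫ WU.ι = pullback.fst U.ι (clf A f) := by
    rw [← cancel_mono U.ι, Category.assoc, Category.assoc, ← hg, IsIso.inv_hom_id_assoc]
    exact hu
  haveI := hfull
  haveI := hfaith
  haveI := hfull'
  haveI := hfaith'
  haveI := PunctPure21.isEquivalence_of_isIso (inv g)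
  let η : FEt.restrict (pullback.fst U.ι (clf A f)) ≅
      FEt.restrict WU.ι ⋙ (FEt.restrict (inv g) ⋙ FEt.restrict u) :=
    MorphismProperty.Over.pullbackCongr (Q := ⊤) hw.symm ≪≫
      MorphismProperty.Over.pullbackComp (P := FEt.prop) (Q := ⊤) (u ≫ inv g) WU.ι ≪≫
      Functor.isoWhiskerLeft _ (MorphismProperty.Over.pullbackComp (P := FEt.prop) (Q := ⊤) u (inv g))
  exact ⟨Functor.Full.of_iso η.symm, Functor.Faithful.of_iso η.symm⟩

end GrothLib.LocFAdic21
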