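import Groth.Agent.Lib.FEt21.Graph
import Groth.Agent.Lib.FEt21.Colimits
import Mathlib.AlgebraicGeometry.Limits

/-!
# Fully faithful restriction is bijective on clopen subsets
-/

set_option autoImplicit false
set_option linter.style.haveILetI false

universe u

open CategoryTheory CategoryTheory.Limits AlgebraicGeometry GrothLib.FEt21

noncomputable section

namespace GrothLib.LocFAdic21

/-- A clopen subset gives a map to two copies. -/
theorem exists_indicatorMap {P Q : Scheme.{u}} (C : Set P) (hC : IsClopen C) (t : P ⟶ Q) :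
    ∃ g : P ⟶ Q ⨿ Q, g ≫ coprod.desc (𝟙 Q) (𝟙 Q) = t ∧
      ∀ p, g p ∈ Set.range (coprod.inl : Q ⟶ Q ⨿ Q) ↔ p ∈ C := by
  let O : P.Opens := ⟨C, hC.isOpen⟩
  let O' : P.Opens := ⟨Cᶜ, hC.compl.isOpen⟩
  have hcompl : IsCompl O.ι.opensRange O'.ι.opensRange := by
    rw [Scheme.Opens.opensRange_ι, Scheme.Opens.opensRange_ι]
    constructor
    · rw [disjoint_iff]
      exact TopologicalSpace.Opens.ext (Set.inter_compl_self C)
    · rw [codisjoint_iff]
      exact TopologicalSpace.Opens.ext (Set.union_compl_self C)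
  obtain ⟨hc⟩ := nonempty_isColimit_binaryCofanMk_of_isCompl O.ι O'.ι hcompl
  obtain ⟨g, h1, h2⟩ := BinaryCofan.IsColimit.desc' hc (O.ι ≫ t ≫ coprod.inl) (O'.ι ≫ t ≫ coprod.inr)
  have h1' : O.ι ≫ g = O.ι ≫ t ≫ coprod.inl := h1
  have h2' : O'.ι ≫ g = O'.ι ≫ t ≫ coprod.inr := h2
  refine ⟨g, BinaryCofan.IsColimit.hom_ext hc ?_ ?_, fun p => ⟨fun ⟨q, hq⟩ => ?_, fun hp => ?_⟩⟩
  · show O.ι ≫ g ≫ _ = O.ι ≫ t
    rw [reassoc_of% h1', coprod.inl_desc, Category.comp_id]
  · show O'.ι ≫ g ≫ _ = O'.ι ≫ t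
    rw [reassoc_of% h2', coprod.inr_desc, Category.comp_id]
  · by_contra hp
    have e : g p = (coprod.inr : Q ⟶ Q ⨿ Q) (t p) :=
      congrArg (fun k => (k : _ ⟶ Q ⨿ Q) (⟨p, hp⟩ : (O' : Scheme.{u}))) h2'
    exact inl_ne_inr Q Q q (t p) (hq.trans e)
  · exact ⟨t p, (congrArg (fun k => (k : _ ⟶ Q ⨿ Q) (⟨p, hp⟩ : (O : Scheme.{u}))) h1').symm⟩

variable {X Y : Scheme.{u}} (f : X ⟶ Y)

theorem desc_comp_hom (A : FEt.Cat Y) :
    coprod.desc (𝟙 A.left) (𝟙 A.left) ≫ A.hom = coprod.desc A.hom A.hom :=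
  coprod.hom_ext (by rw [coprod.inl_desc_assoc, coprod.inl_desc]; exact Category.id_comp _)
    (by rw [coprod.inr_desc_assoc, coprod.inr_desc]; exact Category.id_comp _)

/-- A full restriction lifts clopen subsets. -/
theorem clopenSurj_of_full (h : (FEt.restrict f).Full) (A : FEt.Cat Y) : ClopenSurj f A := by
  haveI := h
  intro C hC
  obtain ⟨g, hg, hgC⟩ := exists_indicatorMap C hC (pullback.fst A.hom f)
  let T := sumCover A A
  let a : pullback A.hom f ⟶ pullback T.hom f :=
    pullback.lift g (pullback.snd A.hom f) (by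
      show g ≫ coprod.desc A.hom A.hom = _
      rw [← desc_comp_hom A, reassoc_of% hg, pullback.condition])
  let s : (FEt.restrict f).obj A ⟶ (FEt.restrict f).obj T :=
    MorphismProperty.Over.homMk a (pullback.lift_snd _ _ _) trivial
  let φ := (FEt.restrict f).preimage s
  have hφ : pullback.fst A.hom f ≫ φ.left = g := by
    have e : ((FEt.restrict f).map φ).left = a := congrArg (fun k => k.left) ((FEt.restrict f).map_preimage s)
    have e2 : ((FEt.restrict f).map φ).left ≫ pullback.fst T.hom f = pullback.fst A.hom f ≫ φ.left :=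
      pullback.lift_fst _ _ _
    rw [← e2, e]
    exact pullback.lift_fst _ _ _
  refine ⟨φ.left ⁻¹' Set.range (coprod.inl : A.left ⟶ A.left ⨿ A.left), ?_, ?_⟩
  · exact (show IsClopen (Set.range (coprod.inl : A.left ⟶ A.left ⨿ A.left)) from
      ⟨⟨by rw [(isCompl_range_inl_inr A.left A.left).compl_eq]
           exact (coprod.inr : A.left ⟶ A.left ⨿ A.left).isOpenEmbedding.isOpen_range⟩,
        (coprod.inl : A.left ⟶ A.left ⨿ A.left).isOpenEmbedding.isOpen_range⟩).preimage φ.left.continuous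
  · refine Set.ext fun p => Iff.trans ?_ (hgC p)
    exact Iff.of_eq (congrArg (fun z : (A.left ⨿ A.left : Scheme.{u}) => z ∈ Set.range (coprod.inl : A.left ⟶ A.left ⨿ A.left))
      (congrArg (fun k : pullback A.hom f ⟶ A.left ⨿ A.left => k p) hφ))

/-- A faithful restriction detects empty clopen subsets. -/
theorem clopenInj_of_faithful (h : (FEt.restrict f).Faithful) (A : FEt.Cat Y) : ClopenInj f A := by
  haveI := h
  intro D hD he
  obtain ⟨g, hg, hgC⟩ := exists_indicatorMap Dᶜ hD.compl (𝟙 A.left)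
  let T := sumCover A A
  let φ : A ⟶ T := MorphismProperty.Over.homMk g (by
    exact (congrArg (g ≫ ·) (desc_comp_hom A).symm).trans
      ((Category.assoc _ _ _).symm.trans ((congrArg (· ≫ A.hom) hg).trans (Category.id_comp _)))) trivial
  let ψ : A ⟶ T := MorphismProperty.Over.homMk coprod.inl (coprod.inl_desc _ _) trivial
  have hfst : pullback.fst A.hom f ≫ g = pullback.fst A.hom f ≫ coprod.inl := by
    let O : A.left.Opens := ⟨Dᶜ, hD.compl.isOpen⟩
    have hr : Set.range (pullback.fst A.hom f) ⊆ Set.range O.ι := by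
      rintro _ ⟨p, rfl⟩
      rw [Scheme.Opens.range_ι]
      exact fun hp => Set.eq_empty_iff_forall_notMem.1 he p hp
    have hO : O.ι ≫ g = O.ι ≫ coprod.inl := by
      haveI : IsOpenImmersion (coprod.inl : A.left ⟶ A.left ⨿ A.left) := inferInstance
      have hrg : Set.range (O.ι ≫ g) ⊆ Set.range (coprod.inl : A.left ⟶ A.left ⨿ A.left) := by
        rintro _ ⟨y, rfl⟩
        exact (hgC _).2 y.2
      have hlift := IsOpenImmersion.lift_fac (coprod.inl : A.left ⟶ A.left ⨿ A.left) (O.ι ≫ g) hrg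
      have hl : IsOpenImmersion.lift (coprod.inl : A.left ⟶ A.left ⨿ A.left) (O.ι ≫ g) hrg = O.ι := by
        have := congrArg (· ≫ coprod.desc (𝟙 A.left) (𝟙 A.left)) hlift
        simp only [Category.assoc, coprod.inl_desc, Category.comp_id, hg] at this
        exact this
      rw [← hlift, hl]
    rw [← IsOpenImmersion.lift_fac O.ι _ hr, Category.assoc, hO, Category.assoc]
    rfl
  have heq : (FEt.restrict f).map φ = (FEt.restrict f).map ψ := by
    refine MorphismProperty.Over.Hom.ext (pullback.hom_ext ?_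
      ((Over.w ((FEt.restrict f).map φ).hom).trans (Over.w ((FEt.restrict f).map ψ).hom).symm))
    exact (pullback.lift_fst _ _ _).trans (hfst.trans (pullback.lift_fst _ _ _).symm)
  have hgi : g = coprod.inl := congrArg (fun k => k.left) ((FEt.restrict f).map_injective heq)
  refine Set.eq_empty_of_forall_notMem fun d hd => ?_
  exact (hgC d).1 (by rw [hgi]; exact ⟨d, rfl⟩) hd

end GrothLib.LocFAdic21
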