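import Groth.Agent.LocFAdic21.Slice
import Groth.Agent.EtAlgz21.Extend
import Groth.Agent.EtAlgz21.Data
import Groth.Agent.Lib.GenT7.GenLevel
import Groth.Agent.Lib.LeffAmp7.Conclude
import Groth.Agent.Lib.FEt21.RegularExtend

/-!
# Extension of finite etale covers of the punctured hypersurface to a neighbourhood
-/

set_option autoImplicit false
set_option linter.style.haveILetI false

universe u

open CategoryTheory CategoryTheory.Limits AlgebraicGeometry TopologicalSpace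

noncomputable section

namespace GrothLib.LocFAdic21

open GrothLib.GenT7 GrothLib.FFormal7 GrothLib.UnifVanish7 GrothLib.Algz56

variable {A : Type u} [CommRing A] [IsNoetherianRing A]

/-- The associated graded of a regular element is free. -/
theorem grFlat_span_singleton {f : A} (hnz : f ∈ nonZeroDivisors A) :
    NFlat7.GrFlat (Ideal.span ({f} : Set A)) := by
  intro n
  let J := Ideal.span ({f} : Set A)
  let N : Submodule A ↥(J ^ n) := J • (⊤ : Submodule A ↥(J ^ n))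
  have hm : ∀ a : A, a * f ^ n ∈ J ^ n := fun a => by
    rw [Ideal.span_singleton_pow]; exact Ideal.mem_span_singleton'.2 ⟨a, rfl⟩
  let m : A →ₗ[A] ↥(J ^ n) := LinearMap.codRestrict (J ^ n) (LinearMap.mulRight A (f ^ n)) hm
  have hmb : Function.Bijective m := by
    refine ⟨fun a b h => ?_, fun x => ?_⟩
    · exact (mul_cancel_right_mem_nonZeroDivisors (pow_mem hnz n)).1 (congrArg Subtype.val h)
    · have hx : x.1 ∈ Ideal.span ({f ^ n} : Set A) := Ideal.span_singleton_pow f n ▸ x.2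
      obtain ⟨a, ha⟩ := Ideal.mem_span_singleton'.1 hx
      exact ⟨a, Subtype.ext ha⟩
  have hk : Submodule.map (LinearEquiv.ofBijective m hmb : A →ₗ[A] ↥(J ^ n)) (J • (⊤ : Submodule A A)) = N := by
    rw [Submodule.map_smul'', Submodule.map_top, LinearEquiv.range]
  let e₀ : (A ⧸ (J • (⊤ : Submodule A A))) ≃ₗ[A] (↥(J ^ n) ⧸ N) :=
    Submodule.Quotient.equiv _ _ (LinearEquiv.ofBijective m hmb) hk
  let e : (A ⧸ J) ≃ₗ[A] (↥(J ^ n) ⧸ N) :=
    (Submodule.quotEquivOfEq _ _ (by rw [smul_eq_mul, Ideal.mul_top])).trans e₀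
  exact Module.Flat.of_linearEquiv (LinearEquiv.extendScalarsOfSurjective
    (R := A) (S := A ⧸ J) Ideal.Quotient.mk_surjective e).symm

variable [IsLocalRing A] {f : A} [IsAdicComplete (Ideal.span ({f} : Set A)) A]

/-- A finite etale cover of the punctured hypersurface extends to an open neighbourhood. -/
theorem exists_extension (hnz : f ∈ nonZeroDivisors A)
    (h1 : Module.Finite A (LocCoh.H (IsLocalRing.maximalIdeal A) 1 (A ⧸ Ideal.span ({f} : Set A))))
    (h2 : Module.Finite A (LocCoh.H (IsLocalRing.maximalIdeal A) 2 (A ⧸ Ideal.span ({f} : Set A))))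
    (V₀ : FEt.Cat (pullback (FEt.puncturedSpec A).ι (clf A f))) :
    ∃ (U' : (Spec (CommRingCat.of A)).Opens) (_ : U' ≤ FEt.puncturedSpec A)
      (u' : pullback (FEt.puncturedSpec A).ι (clf A f) ⟶ (U' : Scheme.{u}))
      (_ : u' ≫ U'.ι = pullback.fst (FEt.puncturedSpec A).ι (clf A f) ≫ (FEt.puncturedSpec A).ι)
      (V' : FEt.Cat (U' : Scheme.{u})), Nonempty ((FEt.restrict u').obj V' ≅ V₀) := by
  obtain ⟨V, hVU, hYV, hbij⟩ := exists_small_nhd hnz h1
  let J := Ideal.span ({f} : Set A)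
  let PO := LocCoh.puncturedOpen A (IsLocalRing.maximalIdeal A)
  have hPO : FEt.puncturedSpec A = PO := puncturedSpec_eq A
  haveI : IsClosedImmersion (clf A f) := IsClosedImmersion.spec_of_surjective _ Ideal.Quotient.mk_surjective
  haveI : IsLocallyNoetherian (PO : Scheme.{u}) := isLocallyNoetherian_of_isOpenImmersion PO.ι
  let 𝓘 : (PO : Scheme.{u}).IdealSheafData := (clf A f).ker.comap PO.ι
  let p := pullback.fst (FEt.puncturedSpec A).ι (clf A f) ≫ (FEt.puncturedSpec A).ι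
  have hpPO : Set.range p ⊆ Set.range PO.ι := by
    rw [Scheme.Opens.range_ι]
    exact hYV.trans (hVU.trans hPO.le)
  obtain ⟨φ, hφi, hφ⟩ := exists_slice_iso (FEt.puncturedSpec A) (clf A f) PO.ι
    ((Scheme.Opens.opensRange_ι PO).le.trans hPO.ge) (IsOpenImmersion.lift PO.ι p hpPO)
    (IsOpenImmersion.lift_fac _ _ _)
  haveI := PunctPure21.isEquivalence_of_isIso φ
  let R : FEt.Cat 𝓘.subscheme := (FEt.restrict φ).objPreimage V₀
  obtain ⟨F, hF, ⟨e⟩⟩ := Gen.exists_algebraization (I := IsLocalRing.maximalIdeal A) (J := J)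
    (grFlat_span_singleton hnz) h1 h2 (EtAlgz21.sys 𝓘 R) (EtAlgz21.sys_finLocFree 𝓘 R)
  have hlev : ∀ n, FlatMod.IsFinLocFree ((Scheme.Modules.pullback (𝓘 ^ (n + 1)).subschemeι).obj F) := fun n =>
    HilbDesc10.isFinLocFree_congr
      ⟨e.inv.app n, e.hom.app n, congrArg (fun k => FSch.ModSys.Hom.app k n) e.inv_hom_id,
        congrArg (fun k => FSch.ModSys.Hom.app k n) e.hom_inv_id⟩ (EtAlgz21.sys_finLocFree 𝓘 R n)
  let U₀ : (PO : Scheme.{u}).Opens :=
    ⟨_, Ref1.isOpen_free (HomSh.hasRel_of_isCoh hF)⟩ ⊓ PO.ι ⁻¹ᵁ V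
  have hsupp : ∀ y : (PO : Scheme.{u}), y ∈ (𝓘.support : Set (PO : Scheme.{u})) → PO.ι y ∈ Set.range p := by
    intro y hy
    rw [← Scheme.IdealSheafData.range_subschemeι] at hy
    obtain ⟨z, rfl⟩ := hy
    obtain ⟨w, rfl⟩ := φ.surjective z
    refine ⟨w, ?_⟩
    show p w = ((φ ≫ 𝓘.subschemeι) ≫ PO.ι) w
    rw [hφ, IsOpenImmersion.lift_fac]
  have hUI : (𝓘.support : Set (PO : Scheme.{u})) ⊆ U₀ := fun y hy =>
    ⟨LeffAmp7.free_stalk_of_levels hF 𝓘 hlev hy, hYV (hsupp y hy)⟩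
  have hE : FlatMod.IsFinLocFree ((Scheme.Modules.pullback U₀.ι).obj F) :=
    HilbDesc10.isFinLocFree_congr ((Scheme.Modules.restrictFunctorIsoPullback U₀.ι).app F)
      (Ref1.isFinLocFree_restrict_of_free (HomSh.hasRel_of_isCoh hF) U₀ fun x hx => hx.1)
  obtain ⟨e'⟩ := LeffAmp7.nonempty_completion_iso_push 𝓘 U₀ hUI F
  have hrangeU : ∀ W : (PO : Scheme.{u}).Opens, (𝓘.support : Set (PO : Scheme.{u})) ⊆ W →
      Set.range p ⊆ Set.range (W.ι ≫ PO.ι) := by
    rintro W hW _ ⟨w, rfl⟩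
    have hy : IsOpenImmersion.lift PO.ι p hpPO w ∈ W := hW (by
      rw [← Scheme.IdealSheafData.range_subschemeι]
      exact ⟨φ w, congrArg (fun g => (g : _ ⟶ (PO : Scheme.{u})) w) hφ⟩)
    exact ⟨⟨_, hy⟩, congrArg (fun g => (g : _ ⟶ Spec (CommRingCat.of A)) w) (IsOpenImmersion.lift_fac PO.ι p hpPO)⟩
  have hL : ∀ M : (U₀ : Scheme.{u}).Modules, FlatMod.IsFinLocFree M →
      Lef.HomToFormalBijective (𝓘.comap U₀.ι) M := fun M hM => by
    haveI : Coh.IsQCoh M := (Euler.isCoh_of_isFinLocFree hM).1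
    have h := hbij _ (U₀.ι ≫ PO.ι) (by
      rintro _ ⟨y, rfl⟩
      exact y.2.2) (hrangeU U₀ hUI) M
    rwa [Scheme.IdealSheafData.comap_comp] at h
  obtain ⟨U, R', hU, hUU, hiso⟩ := EtAlgz21.exists_cover_nhd 𝓘 R U₀ _ hUI hE ⟨e' ≪≫ e⟩ hL
  let U' : (Spec (CommRingCat.of A)).Opens := PO.ι ''ᵁ U
  let g : (U : Scheme.{u}) ≅ U'.toScheme := PO.ι.isoImage U
  haveI := PunctPure21.isEquivalence_of_isIso g.hom
  let i : 𝓘.subscheme ⟶ (U : Scheme.{u}) := IsOpenImmersion.lift U.ι 𝓘.subschemeι (by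
    rw [Scheme.Opens.range_ι, Scheme.IdealSheafData.range_subschemeι]; exact hU)
  have hi : i ≫ U.ι = 𝓘.subschemeι := IsOpenImmersion.lift_fac _ _ _
  obtain ⟨eR⟩ := hiso i hi
  have hu : (φ ≫ i ≫ g.hom) ≫ U'.ι = p := by
    rw [Category.assoc, Category.assoc, Scheme.Hom.isoImage_hom_ι, reassoc_of% hi, reassoc_of% hφ,
      IsOpenImmersion.lift_fac]
  refine ⟨U', fun x hx => ?_, φ ≫ i ≫ g.hom, hu, (FEt.restrict g.hom).objPreimage R', ⟨?_⟩⟩
  · obtain ⟨y, -, rfl⟩ := hx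
    exact hPO.ge y.2
  · exact FEt21.restrictCompIso φ (i ≫ g.hom) _ rfl _ ≪≫
      (FEt.restrict φ).mapIso (FEt21.restrictCompIso i g.hom _ rfl _ ≪≫
        (FEt.restrict i).mapIso ((FEt.restrict g.hom).objObjPreimageIso R') ≪≫ eR) ≪≫
      (FEt.restrict φ).objObjPreimageIso V₀

end GrothLib.LocFAdic21
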