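import Groth.Agent.LocFAdic21.Sections
import Groth.Agent.Lib.NFlat7.Main
import Groth.Agent.Lib.PunctSec7.Lef
import Groth.Agent.Lib.LefEt7.QuasiAffine

/-!
# Bijectivity with the formal sections on the small neighbourhoods
-/

set_option autoImplicit false
set_option linter.style.haveILetI false
set_option linter.unusedSectionVars false

universe u

open CategoryTheory CategoryTheory.Limits AlgebraicGeometry Opposite Formal2 TopologicalSpace

noncomputable section

namespace GrothLib.LocFAdic21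

open GrothLib.Formal2Sec7

variable {A : Type u} [CommRing A] [IsNoetherianRing A] {𝔞 𝔟 : Ideal A} {f : A}

/-- An element killed by a power of the ideal is zero on sections. -/
theorem eq_zero_of_pow_smul {M : Type u} [AddCommGroup M] [Module A M] (s : Sc 𝔟 M) (n : ℕ)
    (h : ∀ r ∈ 𝔟 ^ n, r • s = 0) : s = 0 :=
  Punctured.eq_zero_of_forall_smul (R := CommRingCat.of A) (ModuleCat.of (CommRingCat.of A) M) 𝔟
    subset_rfl s n h

theorem exists_pow_range {M : Type u} [AddCommGroup M] [Module A M] (s : Sc 𝔟 M) :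
    ∃ N : ℕ, ∀ r ∈ 𝔟 ^ N, ∃ m, j 𝔟 M m = r • s := by
  obtain ⟨S, hS, hX, hE⟩ := Punctured.exists_mono_injective' (ModuleCat.of (CommRingCat.of A) M)
  obtain ⟨e⟩ := Punctured.nonempty_coker_equiv 𝔟 hS hE
  rw [hX] at e
  haveI : IsNoetherianRing (CommRingCat.of A) := inferInstanceAs (IsNoetherianRing A)
  obtain ⟨N, hN⟩ := LC.isPowerTorsion (R := CommRingCat.of A) 𝔟 1 (ModuleCat.of (CommRingCat.of A) M)
    (e (Submodule.Quotient.mk s))
  refine ⟨N, fun r hr => (Submodule.Quotient.mk_eq_zero _).1 (e.injective ?_)⟩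
  rw [Submodule.Quotient.mk_smul, map_smul, map_zero]
  exact hN r hr

variable (I : NhdIdeal 𝔞 f) (hle : LocCoh.puncturedOpen A 𝔟 ≤ LocCoh.puncturedOpen A 𝔞)
  (hbe : 𝔟 ≤ I.e.radical) (hrad : 𝔞 ≤ (𝔟 ⊔ Ideal.span {f}).radical)

include hle hbe hrad in
theorem bijective_sections :
    (∀ s : Sc 𝔟 A, (∀ n, sm 𝔟 (π f n) s = 0) → s = 0) ∧
      ∀ y : ∀ n, Sc 𝔟 (q f n), (∀ n, sm 𝔟 (tq f n) (y (n + 1)) = y n) →
        ∃ x : Sc 𝔟 A, ∀ n, sm 𝔟 (π f n) x = y n := by
  have hinj : ∀ n, Function.Injective (res hle (q f n)) := fun n =>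
    res_injective f hle hrad (c := n + 1) (pow_smul_q f n)
  have hsurj : ∀ n, Function.Surjective (res hle (q f n)) := fun n =>
    res_surjective f hle hrad (c := n + 1) (pow_smul_q f n)
  obtain ⟨K, hK⟩ := Ideal.exists_pow_le_of_le_radical_of_fg hbe (IsNoetherian.noetherian 𝔟)
  refine ⟨fun s hs => ?_, fun y hy => ?_⟩
  · obtain ⟨N, hN⟩ := exists_pow_range s
    refine eq_zero_of_pow_smul s (K + N) fun r hr => ?_
    rw [pow_add] at hr
    refine Submodule.mul_induction_on hr (fun a ha b hb => ?_) fun a b h1 h2 => by rw [add_smul, h1, h2, add_zero]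
    obtain ⟨m, hm⟩ := hN b hb
    have h0 : toP 𝔞 f m = 0 := Subtype.ext (funext fun n => hinj n (by
      rw [toP_apply, res_j, ← sm_j, hm, map_smul, hs n, smul_zero]
      exact (map_zero (res hle (q f n))).symm))
    rw [mul_smul, ← hm, ← map_smul, smul_eq_mul, I.kill m h0 a (hK ha), map_zero]
  · choose x hx using fun n => hsurj n (y n)
    let s : P 𝔞 f := ⟨x, fun n => hinj n (by rw [res_sm, hx, hy n, hx])⟩
    choose φ hφd hφ using fun e : I.e => I.lift e.1 e.2 s
    have hu : ∀ (e : I.e) (a : A), a ∈ I.d → toP 𝔞 f a = e.1 • s → a = φ e := fun e a ha h =>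
      sub_eq_zero.1 (I.uniq _ (sub_mem ha (hφd e)) (by rw [map_sub, h, hφ e, sub_self]))
    let φₗ : I.e →ₗ[A] A :=
      { toFun := φ
        map_add' := fun a b => (hu _ _ (add_mem (hφd a) (hφd b))
          (by rw [map_add, hφ a, hφ b, Submodule.coe_add, add_smul])).symm
        map_smul' := fun c a => (hu _ _ (Submodule.smul_mem _ c (hφd a))
          (by rw [map_smul, hφ a, smul_smul, SetLike.val_smul, smul_eq_mul])).symm }
    let ι : I.e →ₗ[A] A := Submodule.subtype I.e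
    obtain ⟨w, hw⟩ := exists_sm_eq 𝔟 ι (Submodule.mkQ I.e) Subtype.val_injective
      ((Submodule.range_subtype _).trans (Submodule.ker_mkQ _).symm) (y := j 𝔟 A 1) (by
        rw [sm_j]
        refine eq_zero_of_pow_smul _ K fun r hr => ?_
        rw [← map_smul, ← map_smul, smul_eq_mul, mul_one, Submodule.mkQ_apply, (Submodule.Quotient.mk_eq_zero _).2 (hK hr), map_zero])
    refine ⟨sm 𝔟 φₗ w, fun n => sub_eq_zero.1 (eq_zero_of_pow_smul _ K fun r hr => ?_)⟩
    have h1 : r • w = j 𝔟 I.e ⟨r, hK hr⟩ := sm_injective 𝔟 ι Subtype.val_injective (by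
      rw [map_smul, hw, sm_j, ← map_smul, smul_eq_mul, mul_one]
      rfl)
    rw [smul_sub, sub_eq_zero, ← map_smul, ← map_smul, h1, sm_j, sm_j]
    have h2 : j 𝔞 _ (π f n (φ ⟨r, hK hr⟩)) = r • x n :=
      congrArg (fun t : P 𝔞 f => t.1 n) (hφ ⟨r, hK hr⟩)
    rw [← hx n, ← map_smul, ← h2, res_j]
    rfl

set_option quotPrecheck false
local notation "UU" => LocCoh.puncturedOpen A 𝔟

open GrothLib.PunctSec7 GrothLib.NFlat7 in
/-- Bijectivity on sections gives the scheme statement. -/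
theorem secBij_of_bijective {T : Scheme.{u}} (i : T ⟶ Spec (CommRingCat.of A)) [IsOpenImmersion i]
    (hi : i.opensRange = UU) (J : Ideal A)
    (h : (∀ s : Sc 𝔟 A, (∀ n, sm 𝔟 (quotPowπ A J A n) s = 0) → s = 0) ∧
      ∀ y : ∀ n, Sc 𝔟 (quotPow A J A n), (∀ n, sm 𝔟 (quotPowTrans A J A n) (y (n + 1)) = y n) →
        ∃ x : Sc 𝔟 A, ∀ n, sm 𝔟 (quotPowπ A J A n) x = y n) :
    LefEt7.SecBij (V := T) (fun n => ((KI J).comap i) ^ (n + 1))
      (fun n => Lef.pow_succ_le ((KI J).comap i) n) := by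
  obtain ⟨inj, surj⟩ := h
  choose θ hθ hθπ using exists_θI J
  let K : ℕ → (Spec (CommRingCat.of A)).IdealSheafData := fun n => (KI J) ^ (n + 1)
  let JJ : ℕ → T.IdealSheafData := fun n => ((KI J).comap i) ^ (n + 1)
  -- the open immersions of the thickenings
  have hk : ∀ n, ∃ k : (JJ n).subscheme ⟶ (K n).subscheme, IsOpenImmersion k ∧
      k ≫ (K n).subschemeι = (JJ n).subschemeι ≫ i ∧ (↑((K n).subschemeι ⁻¹ᵁ UU) : Set (K n).subscheme) ⊆ Set.range k := fun n => by
    have hJ : JJ n = (K n).comap i := (GrothLib.FSchSys.comap_pow _ _ _).symm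
    rw [hJ]
    refine ⟨((K n).comapIso i).hom ≫ Limits.pullback.snd i (K n).subschemeι, ?_, ?_, fun z hz => ?_⟩
    · haveI : IsOpenImmersion (Limits.pullback.snd i (K n).subschemeι) := inferInstance
      infer_instance
    · rw [Category.assoc, ← Limits.pullback.condition, ← Category.assoc]
      congr 1
      exact (K n).comapIso_hom_fst i
    · obtain ⟨y, hy⟩ := hi.ge hz
      obtain ⟨w, -, hw⟩ := Scheme.Pullback.exists_preimage_pullback (f := i) (g := (K n).subschemeι) y z hy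
      obtain ⟨w', rfl⟩ := ((K n).comapIso i).hom.surjective w
      exact ⟨w', hw⟩
  choose k hk hkι hkr using hk
  have hke : ∀ n, (⊤ : (JJ n).subscheme.Opens) ≤ k n ⁻¹ᵁ ((K n).subschemeι ⁻¹ᵁ UU) := fun n z _ => by
    show ((k n) ≫ (K n).subschemeι) z ∈ UU
    rw [hkι]
    rw [← hi]
    exact ⟨_, rfl⟩
  have hιe : (⊤ : T.Opens) ≤ i ⁻¹ᵁ UU := fun z _ => hi.le ⟨z, rfl⟩
  have hkb : ∀ n, Function.Bijective ((k n).appLE _ ⊤ (hke n)) := fun n =>
    haveI := hk n
    appLE_bijective (k n) _ (hkr n) (hke n)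
  have hιb : Function.Bijective (i.appLE UU ⊤ hιe) :=
    appLE_bijective i _ hi.ge hιe
  -- the comparisons
  let E : ∀ n, Sc 𝔟 (quotPow A (J) A n) → Γ((JJ n).subscheme, ⊤) := fun n w =>
    (k n).appLE _ ⊤ (hke n) ((θ n).app UU w)
  let F : Sc 𝔟 A → Γ(T, ⊤) := fun s => i.appLE UU ⊤ hιe (θ₀.app UU s)
  have hE : ∀ n, Function.Bijective (E n) := fun n => (hkb n).comp (hθ n UU)
  have hF : Function.Bijective F := hιb.comp (θ₀_bijective UU)
  have hEF : ∀ n s, E n (sm 𝔟 (quotPowπ A (J) A n) s) = (JJ n).subschemeι.appTop (F s) := by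
    intro n s
    have h1 : (θ n).app UU (sm 𝔟 (quotPowπ A (J) A n) s) =
        (K n).subschemeι.app UU (θ₀.app UU s) :=
      congrArg (fun φ => φ.app UU s) (hθπ n)
    show (k n).appLE _ ⊤ (hke n) _ = (JJ n).subschemeι.appTop (i.appLE UU ⊤ hιe (θ₀.app UU s))
    rw [h1, Scheme.Hom.app_eq_appLE, Scheme.Hom.appTop, Scheme.Hom.app_eq_appLE]
    refine (appLE_comp_apply _ _ _ _ _ _ _ _).trans ?_
    refine Eq.trans ?_ (appLE_comp_apply _ _ _ _ _ _ _ _).symm
    exact appLE_congr_apply (hkι n) _ _ _ _ _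
  have hEtr : ∀ n w, (Scheme.IdealSheafData.inclusion (Lef.pow_succ_le ((KI J).comap i) n)).appTop (E (n + 1) w) =
      E n (sm 𝔟 (quotPowTrans A (J) A n) w) := by
    intro n w
    have hnat : tilde.map (ModuleCat.ofHom (R := CommRingCat.of A) (quotPowTrans A (J) A n)) ≫ θ n =
        θ (n + 1) ≫ Lef.quotMap (Lef.pow_succ_le (KI J) n) := by
      haveI : Epi (ModuleCat.ofHom (R := CommRingCat.of A) (quotPowπ A (J) A (n + 1))) :=
        (ModuleCat.epi_iff_surjective _).2 (Submodule.mkQ_surjective _)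
      haveI : Epi (tilde.map (ModuleCat.ofHom (R := CommRingCat.of A) (quotPowπ A (J) A (n + 1)))) :=
        inferInstanceAs (Epi ((tilde.functor (CommRingCat.of A)).map
          (ModuleCat.ofHom (R := CommRingCat.of A) (quotPowπ A (J) A (n + 1)))))
      refine (cancel_epi (tilde.map (ModuleCat.ofHom (R := CommRingCat.of A) (quotPowπ A (J) A (n + 1))))).1 ?_
      rw [← Category.assoc, ← Category.assoc, hθπ (n + 1), ← tilde.map_comp, Category.assoc,
        LefEt7.toSubscheme_quotMap, ← hθπ n]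
      exact congrArg (fun φ => tilde.map φ ≫ θ n) (ModuleCat.hom_ext (LinearMap.ext fun a => rfl))
    let inc := Scheme.IdealSheafData.inclusion (Lef.pow_succ_le (KI J) n)
    have hincι : inc ≫ (K (n + 1)).subschemeι = (K n).subschemeι := Scheme.IdealSheafData.inclusion_subschemeι _
    have he : (K n).subschemeι ⁻¹ᵁ UU ≤ inc ⁻¹ᵁ ((K (n + 1)).subschemeι ⁻¹ᵁ UU) := by
      rw [← Scheme.Hom.comp_preimage, hincι]
    have h1 : (θ n).app UU (sm 𝔟 (quotPowTrans A (J) A n) w) =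
        inc.appLE _ _ he ((θ (n + 1)).app UU w) :=
      (congrArg (fun φ => φ.app UU w) hnat).trans (quotMap_app _ UU _ he)
    show _ = (k n).appLE _ ⊤ (hke n) _
    rw [h1, Scheme.Hom.appTop, Scheme.Hom.app_eq_appLE]
    refine (appLE_comp_apply _ _ _ _ _ _ _ _).trans ?_
    refine Eq.trans ?_ (appLE_comp_apply _ _ _ _ _ _ _ _).symm
    refine appLE_congr_apply ?_ _ _ _ _ _
    rw [← cancel_mono (K (n + 1)).subschemeι, Category.assoc, Category.assoc, hkι, hincι, hkι,
      ← Category.assoc]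
    congr 1
    exact Scheme.IdealSheafData.inclusion_subschemeι _
  refine ⟨fun x hx => ?_, fun e he => ?_⟩
  · obtain ⟨s, rfl⟩ := hF.2 x
    have h0 : s = 0 := inj s fun n => (hE n).1 ((hEF n s).trans ((hx n).trans
      ((congrArg _ (map_zero ((θ n).app UU).hom)).trans (map_zero _)).symm))
    rw [h0]
    exact (congrArg _ (map_zero (θ₀.app UU).hom)).trans (map_zero _)
  · choose w hw using fun n => (hE n).2 (e n)
    obtain ⟨s, hs⟩ := surj w fun n => (hE n).1 (by rw [← hEtr, hw (n + 1), he n, hw n])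
    exact ⟨F s, fun n => by rw [← hEF, hs, hw]⟩

open GrothLib.NFlat7 in
/-- Near the hypersurface, formal homomorphisms are the homomorphisms. -/
theorem exists_nhd_homBij [IsAdicComplete (Ideal.span ({f} : Set A)) A] (hnz : f ∈ nonZeroDivisors A)
    (𝔞 : Ideal A) (h : Module.Finite A (LocCoh.H 𝔞 1 (A ⧸ Ideal.span ({f} : Set A)))) :
    ∃ V : (Spec (CommRingCat.of A)).Opens, V ≤ LocCoh.puncturedOpen A 𝔞 ∧
      (LocCoh.puncturedOpen A 𝔞 : Set (Spec (CommRingCat.of A))) ∩ PrimeSpectrum.zeroLocus {f} ⊆ V ∧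
      ∀ (T : Scheme.{u}) (i : T ⟶ Spec (CommRingCat.of A)) [IsOpenImmersion i], i.opensRange ≤ V →
        (LocCoh.puncturedOpen A 𝔞 : Set (Spec (CommRingCat.of A))) ∩ PrimeSpectrum.zeroLocus {f} ⊆ Set.range i →
        ∀ (D : T.Modules) [Coh.IsQCoh D],
          Lef.HomToFormalBijective ((KI (Ideal.span ({f} : Set A))).comap i) D := by
  obtain ⟨I⟩ := exists_nhdIdeal 𝔞 f hnz h
  refine ⟨LocCoh.puncturedOpen A 𝔞 ⊓ LocCoh.puncturedOpen A I.e, inf_le_left,
    fun p ⟨hp, hpf⟩ => ⟨hp, fun hpe => hp (I.le_rad.trans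
      ((Ideal.IsPrime.radical_le_iff (p : PrimeSpectrum A).isPrime).2
        (sup_le hpe ((Ideal.span_singleton_le_iff_mem _).2 (hpf (Set.mem_singleton f))))))⟩, ?_⟩
  intro T i _ hW hY D hD
  let Z : Set (PrimeSpectrum A) := (i.opensRange : Set (Spec (CommRingCat.of A)))ᶜ
  obtain ⟨𝔟, h𝔟⟩ := (PrimeSpectrum.isClosed_iff_zeroLocus_ideal Z).1 i.opensRange.2.isClosed_compl
  have hW' : i.opensRange = LocCoh.puncturedOpen A 𝔟 := Opens.ext (by
    show (i.opensRange : Set (Spec (CommRingCat.of A))) = (PrimeSpectrum.zeroLocus (𝔟 : Set A))ᶜ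
    rw [← h𝔟]; exact (compl_compl _).symm)
  rw [hW'] at hW
  rw [← Scheme.Hom.coe_opensRange, hW'] at hY
  have hle : LocCoh.puncturedOpen A 𝔟 ≤ LocCoh.puncturedOpen A 𝔞 := hW.trans inf_le_left
  have hbe : 𝔟 ≤ I.e.radical := (PrimeSpectrum.zeroLocus_subset_zeroLocus_iff I.e 𝔟).1
    (Set.compl_subset_compl.1 (fun p hp => (hW hp).2))
  have hrad : 𝔞 ≤ (𝔟 ⊔ Ideal.span {f}).radical := by
    rw [Ideal.radical_eq_sInf]
    refine le_sInf fun p ⟨hp, hpp⟩ => ?_
    by_contra hap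
    exact hY (show (⟨p, hpp⟩ : PrimeSpectrum A) ∈ _ from ⟨hap, fun x hx => by
      rw [Set.mem_singleton_iff.1 hx]; exact hp (Ideal.mem_sup_right (Ideal.mem_span_singleton_self f))⟩)
      fun x hx => hp (Ideal.mem_sup_left hx)
  haveI : IsLocallyNoetherian T := isLocallyNoetherian_of_isOpenImmersion i
  haveI : CompactSpace T := by
    have hc : IsCompact (Set.range i) := TopologicalSpace.NoetherianSpace.isCompact _
    exact ⟨i.isOpenEmbedding.isEmbedding.isCompact_iff.2 (by rwa [Set.image_univ])⟩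
  haveI : IsNoetherian T := {}
  haveI : T.IsQuasiAffine := Scheme.IsQuasiAffine.of_isImmersion i
  exact LefEt7.homToFormalBijective_of_unit_of_quasiAffine _
    (PunctSec7.homBij_of_secBij _ (secBij_of_bijective i hW' _ (bijective_sections I hle hbe hrad))) D

end GrothLib.LocFAdic21
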