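import Groth.Agent.LocFAdic21.PunctFF
import Groth.Agent.S0376
import Groth.Agent.S0262
import Groth.Agent.PurityLef21.GrFree
import Groth.Agent.Lib.FEt21.Henselian

/-!
# Full faithfulness after completion
-/

set_option autoImplicit false
set_option linter.style.haveILetI false
set_option linter.unusedSectionVars false

universe u

open CategoryTheory CategoryTheory.Limits AlgebraicGeometry TopologicalSpace

attribute [local instance] HasDerivedCategory.standard

noncomputable section

namespace GrothLib.LocFAdic21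

variable (A : Type u) [CommRing A] [IsNoetherianRing A] [IsLocalRing A]

/-- The map from the completion. -/
abbrev cp : Spec (CommRingCat.of (AdicCompletion (IsLocalRing.maximalIdeal A) A)) ⟶ Spec (CommRingCat.of A) :=
  Spec.map (CommRingCat.ofHom (algebraMap A (AdicCompletion (IsLocalRing.maximalIdeal A) A)))

variable {A}

local notation "𝔪" => IsLocalRing.maximalIdeal A

/-- Restriction after completion is fully faithful. -/
theorem fullyFaithful_completion {f : A} (hf : f ∈ 𝔪)
    (h1 : ∃ n : ℕ, ∀ x : LocCoh.H 𝔪 1 A, f ^ n • x = 0) (h2 : ∃ n : ℕ, ∀ x : LocCoh.H 𝔪 2 A, f ^ n • x = 0) :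
    (FEt.restrict (pullback.fst (pullback.fst (FEt.puncturedSpec A).ι (cp A))
      (pullback.fst (FEt.puncturedSpec A).ι (clf A f)))).Full ∧
    (FEt.restrict (pullback.fst (pullback.fst (FEt.puncturedSpec A).ι (cp A))
      (pullback.fst (FEt.puncturedSpec A).ι (clf A f)))).Faithful := by
  let A' := AdicCompletion 𝔪 A
  haveI : IsNoetherianRing A' := GrothLib.AdicExtra.isNoetherianRing_adicCompletion _
  haveI : Module.Flat A A' := AdicCompletion.flat_of_isNoetherian _
  haveI : IsLocalHom (algebraMap A A') := inferInstance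
  have hm : (𝔪).map (algebraMap A A') = IsLocalRing.maximalIdeal A' :=
    (AdicCompletion.maximalIdeal_eq_map (R := A)).symm
  haveI : IsAdicComplete (IsLocalRing.maximalIdeal A') A' := by
    rw [← hm]
    exact AdicCompletion.isAdicComplete_self _ (IsNoetherian.noetherian _)
  let g : A' := algebraMap A A' f
  have hg : g ∈ IsLocalRing.maximalIdeal A' := hm ▸ Ideal.mem_map_of_mem _ hf
  haveI : IsAdicComplete (Ideal.span ({g} : Set A')) A' :=
    GrothLib.AdicExtra.isAdicComplete_of_le (J := IsLocalRing.maximalIdeal A')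
      ((Ideal.span_singleton_le_iff_mem _).2 hg) (IsNoetherian.noetherian _)
  have hk : ∀ i, (∃ n : ℕ, ∀ x : LocCoh.H 𝔪 i A, f ^ n • x = 0) →
      ∃ n : ℕ, ∀ x : LocCoh.H (IsLocalRing.maximalIdeal A') i A', g ^ n • x = 0 := by
    rintro i ⟨n, hn⟩
    refine ⟨n, ?_⟩
    rw [← hm, show g ^ n = algebraMap A A' (f ^ n) from (map_pow _ _ _).symm]
    exact smul_H_baseChange_eq_zero A' 𝔪 i (f ^ n) hn
  have hd : ∃ ω : Dual.D A', Dual.IsDualizing A' ω := Groth.Agent.S0376.result A'
  obtain ⟨hfull, hfaith⟩ := fullyFaithful_punctured hd hg (depth_of_pow_kill hd hg (hk 1 h1) (hk 2 h2))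
  let U := FEt.puncturedSpec A
  let U₁ := FEt.puncturedSpec A'
  let f₁ := pullback.fst U.ι (cp A)
  let j' := pullback.snd U.ι (cp A)
  let q₀ := pullback.fst U.ι (clf A f)
  have hc : cp A (IsLocalRing.closedPoint A') = IsLocalRing.closedPoint A := IsLocalRing.comap_closedPoint _
  have hpre : cp A ⁻¹ᵁ U = U₁ := by
    ext p
    show cp A p ≠ IsLocalRing.closedPoint A ↔ p ≠ IsLocalRing.closedPoint A'
    refine not_congr ⟨fun h => PrimeSpectrum.ext ?_, fun h => h ▸ hc⟩
    refine le_antisymm (IsLocalRing.le_maximalIdeal (p : PrimeSpectrum A').isPrime.ne_top) ?_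
    show IsLocalRing.maximalIdeal A' ≤ (p : PrimeSpectrum A').asIdeal
    rw [← hm, Ideal.map_le_iff_le_comap]
    exact (congrArg PrimeSpectrum.asIdeal h).ge
  let θ : pullback U.ι (cp A) ⟶ (U₁ : Scheme.{u}) := IsOpenImmersion.lift U₁.ι j' (by
    rintro _ ⟨z, rfl⟩
    rw [Scheme.Opens.range_ι]
    refine hpre.le (show (j' ≫ cp A) z ∈ U from ?_)
    rw [← pullback.condition]
    exact (f₁ z).2)
  have hθ : θ ≫ U₁.ι = j' := IsOpenImmersion.lift_fac _ _ _
  haveI : IsIso θ := by
    haveI : IsOpenImmersion θ := by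
      have : IsOpenImmersion (θ ≫ U₁.ι) := by rw [hθ]; infer_instance
      exact IsOpenImmersion.of_comp θ U₁.ι
    haveI : Epi θ.base := (TopCat.epi_iff_surjective _).2 fun y => by
      obtain ⟨w, -, hw⟩ := Scheme.Pullback.exists_preimage_pullback (f := U.ι) (g := cp A)
        ⟨cp A y.1, hpre.ge y.2⟩ y.1 rfl
      exact ⟨w, Subtype.ext ((congrArg (fun k => (k : _ ⟶ Spec (CommRingCat.of A')) w) hθ).trans hw)⟩
    exact (isIso_iff_isOpenImmersion_and_epi_base θ).2 ⟨inferInstance, inferInstance⟩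
  have hJ : Ideal.span ({g} : Set A') = (Ideal.span ({f} : Set A)).map (algebraMap A A') := by
    rw [Ideal.map_span, Set.image_singleton]
  let κ : Spec (CommRingCat.of (A' ⧸ Ideal.span ({g} : Set A'))) ⟶ Spec (CommRingCat.of (A ⧸ Ideal.span ({f} : Set A))) :=
    Spec.map (CommRingCat.ofHom (Ideal.quotientMap _ (algebraMap A A') (hJ ▸ Ideal.le_comap_map)))
  have HZ : IsPullback (clf A' g) κ (cp A) (clf A f) := by
    have h := Groth.Agent.PurityLef21.isPullback_SpecMap_quotient (CommRingCat.ofHom (algebraMap A A')) (Ideal.span ({f} : Set A))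
    revert κ
    rw [show clf A' g = Spec.map (CommRingCat.ofHom (Ideal.Quotient.mk (Ideal.span ({g} : Set A')))) from rfl]
    revert h
    generalize Ideal.span ({g} : Set A') = J at hJ
    subst hJ
    exact fun h => h
  let P := pullback f₁ q₀
  let a : P ⟶ pullback U.ι (cp A) := pullback.fst f₁ q₀
  have H1 : IsPullback (pullback.snd f₁ q₀ ≫ pullback.snd U.ι (clf A f)) a (clf A f) (f₁ ≫ U.ι) :=
    (IsPullback.of_hasPullback f₁ q₀).flip.paste_horiz (IsPullback.of_hasPullback U.ι (clf A f)).flip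
  have hcond : (pullback.snd f₁ q₀ ≫ pullback.snd U.ι (clf A f)) ≫ clf A f = (a ≫ j') ≫ cp A := by
    rw [H1.w, Category.assoc, pullback.condition]
  let l : P ⟶ Spec (CommRingCat.of (A' ⧸ Ideal.span ({g} : Set A'))) :=
    HZ.lift (a ≫ j') (pullback.snd f₁ q₀ ≫ pullback.snd U.ι (clf A f)) hcond.symm
  have H2 : IsPullback l a (clf A' g) j' := by
    refine IsPullback.of_right (h₁₂ := κ) (v₁₃ := clf A f) (h₂₂ := cp A) ?_ (HZ.lift_fst _ _ _) HZ.flip
    rw [HZ.lift_snd, ← show f₁ ≫ U.ι = j' ≫ cp A from pullback.condition]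
    exact H1
  have H3 : IsPullback l (a ≫ θ) (clf A' g) U₁.ι :=
    H2.of_iso (Iso.refl _) (Iso.refl _) (asIso θ) (Iso.refl _) (by simp) (by simp) (by simp) (by simp [hθ])
  let e := H3.flip.isoPullback
  have he : e.hom ≫ pullback.fst U₁.ι (clf A' g) = a ≫ θ := H3.flip.isoPullback_hom_fst
  have ha : a = (e.hom ≫ pullback.fst U₁.ι (clf A' g)) ≫ inv θ := by
    rw [he, Category.assoc, IsIso.hom_inv_id, Category.comp_id]
  haveI := hfull
  haveI := hfaith
  haveI := PunctPure21.isEquivalence_of_isIso e.hom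
  have hff : (FEt.restrict (e.hom ≫ pullback.fst U₁.ι (clf A' g))).Full ∧
      (FEt.restrict (e.hom ≫ pullback.fst U₁.ι (clf A' g))).Faithful := by
    let η : FEt.restrict (e.hom ≫ pullback.fst U₁.ι (clf A' g)) ≅
        FEt.restrict (pullback.fst U₁.ι (clf A' g)) ⋙ FEt.restrict e.hom :=
      MorphismProperty.Over.pullbackComp (P := FEt.prop) (Q := ⊤) e.hom _
    exact ⟨Functor.Full.of_iso η.symm, Functor.Faithful.of_iso η.symm⟩
  have := fullyFaithful_comp (e.hom ≫ pullback.fst U₁.ι (clf A' g)) (inv θ)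
    (PunctPure21.isEquivalence_of_isIso (inv θ)) hff.1 hff.2
  rw [← ha] at this
  exact this

/-- Extension from the hypersurface when a power kills the cohomology. -/
theorem exists_extension_of_pow_kill {f : A} (hf : f ∈ 𝔪)
    (h1 : ∃ n : ℕ, ∀ x : LocCoh.H 𝔪 1 A, f ^ n • x = 0) (h2 : ∃ n : ℕ, ∀ x : LocCoh.H 𝔪 2 A, f ^ n • x = 0)
    (V : FEt.Cat (FEt.puncturedSpec A : Scheme.{u}))
    (Y₀ : FEt.Cat (Spec (CommRingCat.of (A ⧸ Ideal.span {f}))))
    (e₀ : (FEt.restrict (pullback.snd (FEt.puncturedSpec A).ι (clf A f))).obj Y₀ ≅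
      (FEt.restrict (pullback.fst (FEt.puncturedSpec A).ι (clf A f))).obj V) :
    ∃ Y : FEt.Cat (Spec (CommRingCat.of A)), Nonempty ((FEt.restrict (FEt.puncturedSpec A).ι).obj Y ≅ V) := by
  obtain ⟨hfull, hfaith⟩ := fullyFaithful_completion hf h1 h2
  haveI := hfull
  haveI := hfaith
  let A' := AdicCompletion 𝔪 A
  let J := (Ideal.span ({f} : Set A)).map (algebraMap A A')
  haveI : IsNoetherianRing A' := GrothLib.AdicExtra.isNoetherianRing_adicCompletion _
  haveI : IsAdicComplete ((𝔪).map (algebraMap A A')) A' :=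
    AdicCompletion.isAdicComplete_self _ (IsNoetherian.noetherian _)
  haveI : IsAdicComplete J A' :=
    GrothLib.AdicExtra.isAdicComplete_of_le (J := (𝔪).map (algebraMap A A'))
      (Ideal.map_mono ((Ideal.span_singleton_le_iff_mem _).2 hf)) (IsNoetherian.noetherian _)
  let U := FEt.puncturedSpec A
  let f₁ := pullback.fst U.ι (cp A)
  let j' := pullback.snd U.ι (cp A)
  let q₀ := pullback.fst U.ι (clf A f)
  let cl := Spec.map (CommRingCat.ofHom (Ideal.Quotient.mk J))
  let κ := Spec.map (CommRingCat.ofHom (Ideal.quotientMap J (algebraMap A A') Ideal.le_comap_map))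
  have HZ : IsPullback cl κ (cp A) (clf A f) :=
    Groth.Agent.PurityLef21.isPullback_SpecMap_quotient (CommRingCat.ofHom (algebraMap A A')) (Ideal.span ({f} : Set A))
  haveI : (FEt.restrict cl).EssSurj := GrothLib.FEt21.essSurj_of_henselian A' J
  let Y' := (FEt.restrict cl).objPreimage ((FEt.restrict κ).obj Y₀)
  let eY := (FEt.restrict cl).objObjPreimageIso ((FEt.restrict κ).obj Y₀)
  let a := pullback.fst f₁ q₀
  let b := pullback.snd f₁ q₀
  have hcond : (a ≫ j') ≫ cp A = (b ≫ pullback.snd U.ι (clf A f)) ≫ clf A f := by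
    rw [Category.assoc, Category.assoc, ← pullback.condition, ← pullback.condition, ← Category.assoc, pullback.condition,
      Category.assoc]
  let l := HZ.lift (a ≫ j') (b ≫ pullback.snd U.ι (clf A f)) hcond
  let θ : (FEt.restrict a).obj ((FEt.restrict j').obj Y') ≅ (FEt.restrict a).obj ((FEt.restrict f₁).obj V) :=
    (GrothLib.FEt21.restrictCompIso a j' (l ≫ cl) (HZ.lift_fst _ _ _).symm Y').symm ≪≫
      GrothLib.FEt21.restrictCompIso l cl _ rfl Y' ≪≫ (FEt.restrict l).mapIso eY ≪≫
      (GrothLib.FEt21.restrictCompIso l κ (b ≫ pullback.snd U.ι (clf A f)) (HZ.lift_snd _ _ _) Y₀).symm ≪≫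
      GrothLib.FEt21.restrictCompIso b (pullback.snd U.ι (clf A f)) _ rfl Y₀ ≪≫
      (FEt.restrict b).mapIso e₀ ≪≫
      (GrothLib.FEt21.restrictCompIso b q₀ (a ≫ f₁) pullback.condition.symm V).symm ≪≫
      GrothLib.FEt21.restrictCompIso a f₁ _ rfl V
  exact (Groth.Agent.S0262.result A V).2 ⟨Y', ⟨(FEt.restrict a).preimageIso θ⟩⟩

end GrothLib.LocFAdic21
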