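import Mathlib.RingTheory.AdicCompletion.Noetherian
import Mathlib.RingTheory.Finiteness.Descent
import Mathlib.RingTheory.Flat.FaithfullyFlat.Algebra
import Mathlib.RingTheory.IntegralClosure.IsIntegral.Basic
import Mathlib.RingTheory.TensorProduct.Maps
import Mathlib.RingTheory.IntegralClosure.IsIntegralClosure.Basic

/-!
# Descent of idempotents along a completion
-/

set_option autoImplicit false
set_option linter.style.haveILetI false
set_option linter.unusedSectionVars false

universe u

open TensorProduct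

noncomputable section

namespace GrothLib.LocFAdic21

variable {A A' : Type u} [CommRing A] [CommRing A'] [Algebra A A'] {m : Ideal A}
  (happ : ∀ (k : ℕ) (a' : A'), ∃ a : A, a' - algebraMap A A' a ∈ (m ^ k).map (algebraMap A A'))

include happ in
/-- Modulo a submodule with torsion quotient, a tensor comes from the module. -/
theorem exists_eq_tmul_add {N M : Type u} [AddCommGroup N] [Module A N] [AddCommGroup M] [Module A M]
    (ι : N →ₗ[A] M) (htor : ∀ g : M, ∃ K : ℕ, ∀ r ∈ m ^ K, r • g ∈ LinearMap.range ι) (w : A' ⊗[A] M) :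
    ∃ g : M, w - (1 : A') ⊗ₜ g ∈ LinearMap.range (ι.baseChange A') := by
  induction w using TensorProduct.induction_on with
  | zero => exact ⟨0, by simp⟩
  | tmul a g =>
    obtain ⟨K, hK⟩ := htor g
    obtain ⟨α, hα⟩ := happ K a
    refine ⟨α • g, ?_⟩
    rw [TensorProduct.tmul_smul, TensorProduct.smul_tmul', ← Algebra.algebraMap_eq_smul_one, ← TensorProduct.sub_tmul]
    generalize a - algebraMap A A' α = d at hα
    induction hα using Submodule.span_induction with
    | mem x hx =>
      obtain ⟨r, hr, rfl⟩ := hx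
      obtain ⟨n, hn⟩ := hK r hr
      exact ⟨(1 : A') ⊗ₜ n, by
        rw [LinearMap.baseChange_tmul, hn, TensorProduct.tmul_smul, TensorProduct.smul_tmul',
          Algebra.algebraMap_eq_smul_one]⟩
    | zero => rw [TensorProduct.zero_tmul]; exact zero_mem _
    | add x y _ _ hx hy => rw [TensorProduct.add_tmul]; exact add_mem hx hy
    | smul c x _ hx =>
      rw [show (c • x) ⊗ₜ[A] g = c • (x ⊗ₜ[A] g) from (TensorProduct.smul_tmul' c x g).symm]
      exact Submodule.smul_mem _ c hx
  | add p q hp hq =>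
    obtain ⟨g, hg⟩ := hp
    obtain ⟨g', hg'⟩ := hq
    refine ⟨g + g', ?_⟩
    rw [TensorProduct.tmul_add, show p + q - ((1 : A') ⊗ₜ[A] g + (1 : A') ⊗ₜ[A] g') =
      (p - (1 : A') ⊗ₜ[A] g) + (q - (1 : A') ⊗ₜ[A] g') by abel]
    exact add_mem hg hg'

/-- The base change of an algebra map on elements. -/
theorem map_eq_baseChange {P Q : Type u} [CommRing P] [Algebra A P] [CommRing Q] [Algebra A Q]
    (φ : P →ₐ[A] Q) (z : A' ⊗[A] P) :
    Algebra.TensorProduct.map (AlgHom.id A' A') φ z = φ.toLinearMap.baseChange A' z := by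
  induction z using TensorProduct.induction_on with
  | zero => simp
  | tmul a p => simp
  | add p r hp hr => rw [map_add, map_add, hp, hr]

variable [Module.FaithfullyFlat A A']

/-- Membership in a submodule is detected after base change. -/
theorem mem_range_of_tmul_mem {N M : Type u} [AddCommGroup N] [Module A N] [AddCommGroup M] [Module A M]
    (ι : N →ₗ[A] M) (g : M) (h : (1 : A') ⊗ₜ[A] g ∈ LinearMap.range (ι.baseChange A')) :
    g ∈ LinearMap.range ι := by
  let q := (LinearMap.range ι).mkQ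
  obtain ⟨w, hw⟩ := h
  have h0 : ∀ w : A' ⊗[A] N, q.baseChange A' (ι.baseChange A' w) = 0 := fun w => by
    induction w using TensorProduct.induction_on with
    | zero => simp
    | tmul a n =>
      rw [LinearMap.baseChange_tmul, LinearMap.baseChange_tmul,
        show q (ι n) = 0 from (Submodule.Quotient.mk_eq_zero _).2 ⟨n, rfl⟩, TensorProduct.tmul_zero]
    | add p r hp hr => rw [map_add, map_add, hp, hr, add_zero]
  have h1 : (1 : A') ⊗ₜ[A] q g = 0 := by rw [← LinearMap.baseChange_tmul, ← hw, h0]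
  have h2 : q g = 0 := Module.FaithfullyFlat.tensorProduct_mk_injective (A := A) (B := A')
    (M ⧸ LinearMap.range ι) (by simpa using h1)
  exact (Submodule.Quotient.mk_eq_zero _).1 h2

include happ in
/-- An idempotent over the completion with rational image comes from an idempotent. -/
theorem exists_idempotent {P Γ₀ : Type u} [CommRing P] [Algebra A P] [CommRing Γ₀] [Algebra A Γ₀]
    (φ : P →ₐ[A] Γ₀) (htor : ∀ κ : P, φ κ = 0 → ∃ K : ℕ, ∀ r ∈ m ^ K, r • κ = 0)
    (x : A' ⊗[A] P) (hx : IsIdempotentElem x) (c : Γ₀)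
    (hxc : Algebra.TensorProduct.map (AlgHom.id A' A') φ x = (1 : A') ⊗ₜ c) :
    ∃ b : P, IsIdempotentElem b ∧ φ b = c := by
  have hmap : ∀ z, Algebra.TensorProduct.map (AlgHom.id A' A') φ z = φ.toLinearMap.baseChange A' z :=
    map_eq_baseChange φ
  obtain ⟨b₀, hb₀⟩ := mem_range_of_tmul_mem φ.toLinearMap c ⟨x, (hmap x).symm.trans hxc⟩
  let K := LinearMap.ker φ.toLinearMap
  have hex : Function.Exact (K.subtype.baseChange A') (φ.toLinearMap.baseChange A') :=
    Module.Flat.lTensor_exact A' (LinearMap.exact_subtype_ker_map φ.toLinearMap)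
  have h0 : φ.toLinearMap.baseChange A' (x - (1 : A') ⊗ₜ b₀) = 0 := by
    rw [map_sub, LinearMap.baseChange_tmul, hb₀, ← hmap, hxc, sub_self]
  obtain ⟨k, hk⟩ := (hex _).1 h0
  obtain ⟨κ, hκ⟩ := exists_eq_tmul_add happ (0 : PUnit.{u + 1} →ₗ[A] K) (fun g => by
    obtain ⟨n, hn⟩ := htor g.1 g.2
    exact ⟨n, fun r hr => ⟨0, Subtype.ext (hn r hr).symm⟩⟩) k
  have hk' : k = (1 : A') ⊗ₜ κ := by
    obtain ⟨z, hz⟩ := hκ
    rw [LinearMap.baseChange_zero, LinearMap.zero_apply] at hz
    exact sub_eq_zero.1 hz.symm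
  have hb : x = (1 : A') ⊗ₜ[A] (b₀ + κ.1) := by
    rw [TensorProduct.tmul_add, show (1 : A') ⊗ₜ[A] κ.1 = K.subtype.baseChange A' k by
      rw [hk', LinearMap.baseChange_tmul]; rfl, hk, add_sub_cancel]
  refine ⟨b₀ + κ.1, ?_, ?_⟩
  · refine Module.FaithfullyFlat.tensorProduct_mk_injective (A := A) (B := A') P ?_
    rw [hb] at hx
    have := hx.eq
    rw [Algebra.TensorProduct.tmul_mul_tmul, one_mul] at this
    exact this
  · show φ.toLinearMap (b₀ + κ.1) = c
    rw [map_add, hb₀, show φ.toLinearMap κ.1 = 0 from κ.2, add_zero]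

include happ in
/-- An idempotent over the completion lives over a finite subalgebra. -/
theorem exists_finite_subalgebra [IsNoetherianRing A'] {R : Type u} [CommRing R] [Algebra A R]
    (B : Subalgebra A R) [Module.Finite A B] (htor : ∀ g : R, ∃ K : ℕ, ∀ r ∈ m ^ K, r • g ∈ B)
    (x : A' ⊗[A] R) (hx : IsIdempotentElem x) :
    ∃ B' : Subalgebra A R, B ≤ B' ∧ Module.Finite A B' ∧
      ∃ y : A' ⊗[A] B', Algebra.TensorProduct.map (AlgHom.id A' A') B'.val y = x := by
  let ιB : A' ⊗[A] B →ₐ[A'] A' ⊗[A] R := Algebra.TensorProduct.map (AlgHom.id A' A') B.val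
  obtain ⟨g, w, hw⟩ := exists_eq_tmul_add happ B.val.toLinearMap (fun g => by
    obtain ⟨K, hK⟩ := htor g
    exact ⟨K, fun r hr => ⟨⟨_, hK r hr⟩, rfl⟩⟩) x
  have hιw : ιB w = x - (1 : A') ⊗ₜ g := (map_eq_baseChange B.val w).trans hw
  have hxint : IsIntegral A' x := by
    refine ⟨Polynomial.X ^ 2 - Polynomial.X, Polynomial.monic_X_pow_sub (lt_of_le_of_lt Polynomial.degree_X_le (by norm_num)), ?_⟩
    simp [pow_two, hx.eq]
  have hgint : IsIntegral A' ((1 : A') ⊗ₜ[A] g : A' ⊗[A] R) := by
    rw [show (1 : A') ⊗ₜ[A] g = x - ιB w by rw [hιw, sub_sub_cancel]]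
    exact hxint.sub ((Algebra.IsIntegral.isIntegral w).map ιB)
  let P := Algebra.adjoin A ({g} : Set R)
  let ιP : A' ⊗[A] P →ₐ[A'] A' ⊗[A] R := Algebra.TensorProduct.map (AlgHom.id A' A') P.val
  let Q := Algebra.adjoin A' ({(1 : A') ⊗ₜ[A] g} : Set (A' ⊗[A] R))
  have hPQ : ∀ z, ιP z ∈ Q := fun z => by
    induction z using TensorProduct.induction_on with
    | zero => rw [map_zero]; exact zero_mem _
    | tmul a p =>
      obtain ⟨p, hp⟩ := p
      have h1 : (1 : A') ⊗ₜ[A] p ∈ Q := by
        induction hp using Algebra.adjoin_induction with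
        | mem y hy => rw [Set.mem_singleton_iff.1 hy]; exact Algebra.subset_adjoin rfl
        | algebraMap r =>
          rw [Algebra.algebraMap_eq_smul_one, TensorProduct.tmul_smul, ← algebraMap_smul A' r]
          exact Subalgebra.smul_mem _ (one_mem _) _
        | add y z _ _ hy hz => rw [TensorProduct.tmul_add]; exact add_mem hy hz
        | mul y z _ _ hy hz =>
          rw [show (1 : A') ⊗ₜ[A] (y * z) = (1 : A') ⊗ₜ[A] y * (1 : A') ⊗ₜ[A] z by
            rw [Algebra.TensorProduct.tmul_mul_tmul, one_mul]]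
          exact mul_mem hy hz
      rw [show ιP (a ⊗ₜ[A] (⟨p, hp⟩ : P)) = a • ((1 : A') ⊗ₜ[A] p) by
        rw [TensorProduct.smul_tmul', smul_eq_mul, mul_one]; rfl]
      exact Subalgebra.smul_mem _ h1 _
    | add p r hp hr => rw [map_add]; exact add_mem hp hr
  have hinj : Function.Injective ιP := by
    intro z z' h
    rw [map_eq_baseChange, map_eq_baseChange] at h
    exact Module.Flat.lTensor_preserves_injective_linearMap (M := A') P.val.toLinearMap Subtype.val_injective h
  haveI : Module.Finite A' Q := Module.Finite.iff_fg.2 hgint.fg_adjoin_singleton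
  haveI : Module.Finite A' (A' ⊗[A] P) := Module.Finite.of_injective
    (ιP.toLinearMap.codRestrict (Subalgebra.toSubmodule Q) hPQ) fun z z' h => hinj (congrArg Subtype.val h)
  haveI : Module.Finite A P := Module.Finite.of_finite_tensorProduct_of_faithfullyFlat A'
  refine ⟨B ⊔ P, le_sup_left, Subalgebra.finite_sup B P,
    Algebra.TensorProduct.map (AlgHom.id A' A') (Subalgebra.inclusion (le_sup_left : B ≤ B ⊔ P)) w +
      (1 : A') ⊗ₜ ⟨g, (le_sup_right : P ≤ B ⊔ P) (Algebra.subset_adjoin rfl)⟩, ?_⟩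
  rw [map_add, Algebra.TensorProduct.map_tmul, ← AlgHom.comp_apply, ← Algebra.TensorProduct.map_comp,
    AlgHom.comp_id]
  show ιB w + (1 : A') ⊗ₜ[A] g = x
  rw [hιw, sub_add_cancel]

end GrothLib.LocFAdic21
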