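import Groth.Agent.GlueCompl21.Scheme
import Groth.Agent.PurityLef21.GrFree
import Mathlib.AlgebraicGeometry.Morphisms.Finite

/-!
# Finite generation of sections away from a closed subset
-/

set_option autoImplicit false
set_option linter.style.haveILetI false

universe u

open CategoryTheory CategoryTheory.Limits AlgebraicGeometry TopologicalSpace Groth.Agent.GlueCompl21

noncomputable section

namespace GrothLib.LocFAdic21

variable {A : Type u} [CommRing A]

/-- Scaling a generating set gives integral generators. -/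
theorem exists_finite_adjoin {R : Type u} [CommRing R] [Algebra A R] (y : A) (G : Finset R)
    (hG : ∀ g : R, ∃ N : ℕ, y ^ N • g ∈ Submodule.span A (G : Set R)) :
    ∃ B : Subalgebra A R, Module.Finite A B ∧ ∀ g : R, ∃ N : ℕ, y ^ N • g ∈ B := by
  classical
  have hall : ∀ S : Finset R, ∃ N : ℕ, ∀ g ∈ S, y ^ N • g ∈ Submodule.span A (G : Set R) := by
    intro S
    choose n hn using hG
    exact ⟨S.sup n, fun g hg => by
      rw [← Nat.sub_add_cancel (Finset.le_sup (f := n) hg), pow_add, mul_smul]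
      exact Submodule.smul_mem _ _ (hn g)⟩
  obtain ⟨N, hN⟩ := hall (G ×ˢ G |>.image fun p => p.1 * p.2)
  let H : Finset R := insert 1 (G.image fun g => y ^ N • g)
  let M : Submodule A R := Submodule.span A (H : Set R)
  have hsc : ∀ g ∈ Submodule.span A (G : Set R), y ^ N • g ∈ M := fun g hg => by
    induction hg using Submodule.span_induction with
    | mem x hx => exact Submodule.subset_span (Finset.mem_insert_of_mem (Finset.mem_image_of_mem _ hx))
    | zero => rw [smul_zero]; exact zero_mem _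
    | add a b _ _ ha hb => rw [smul_add]; exact add_mem ha hb
    | smul c a _ ha => rw [smul_comm]; exact Submodule.smul_mem _ _ ha
  have h1 : (1 : R) ∈ M := Submodule.subset_span (Finset.mem_insert_self _ _)
  have hmul : ∀ a b, a ∈ M → b ∈ M → a * b ∈ M := by
    intro a b ha hb
    have hHH : ∀ x ∈ H, ∀ z ∈ H, x * z ∈ M := by
      intro x hx z hz
      rcases Finset.mem_insert.1 hx with rfl | hx
      · rw [one_mul]; exact Submodule.subset_span hz
      rcases Finset.mem_insert.1 hz with rfl | hz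
      · rw [mul_one]; exact Submodule.subset_span (Finset.mem_insert_of_mem hx)
      obtain ⟨g, hg, rfl⟩ := Finset.mem_image.1 hx
      obtain ⟨g', hg', rfl⟩ := Finset.mem_image.1 hz
      rw [smul_mul_assoc, mul_smul_comm]
      exact hsc _ (hN _ (Finset.mem_image.2 ⟨(g, g'), Finset.mem_product.2 ⟨hg, hg'⟩, rfl⟩))
    induction ha using Submodule.span_induction with
    | mem x hx =>
      induction hb using Submodule.span_induction with
      | mem z hz => exact hHH x hx z hz
      | zero => rw [mul_zero]; exact zero_mem _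
      | add p q _ _ hp hq => rw [mul_add]; exact add_mem hp hq
      | smul c p _ hp => rw [mul_smul_comm]; exact Submodule.smul_mem _ _ hp
    | zero => rw [zero_mul]; exact zero_mem _
    | add p q _ _ hp hq => rw [add_mul]; exact add_mem hp hq
    | smul c p _ hp => rw [smul_mul_assoc]; exact Submodule.smul_mem _ _ hp
  refine ⟨M.toSubalgebra h1 hmul, Module.Finite.iff_fg.2 (Submodule.fg_span H.finite_toSet), fun g => ?_⟩
  obtain ⟨n, hn⟩ := hG g
  exact ⟨N + n, by rw [pow_add, mul_smul]; exact hsc _ hn⟩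

variable {V : Scheme.{u}} (a : V ⟶ Spec (CommRingCat.of A))

theorem basicOpen_structHom (y : A) : V.basicOpen (structHom a y) = a ⁻¹ᵁ PrimeSpectrum.basicOpen y := by
  rw [← basicOpen_eq_of_affine (R := CommRingCat.of A), Scheme.preimage_basicOpen_top]
  rfl

/-- A basic open of the base. -/
abbrev bo (y : A) : (Spec (CommRingCat.of A)).Opens := PrimeSpectrum.basicOpen y

theorem isAffineOpen_bo (y : A) : IsAffineOpen (bo y) := by
  rw [show bo y = (Spec (CommRingCat.of A)).basicOpen ((Scheme.ΓSpecIso (CommRingCat.of A)).inv y) from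
    (basicOpen_eq_of_affine (R := CommRingCat.of A) y).symm]
  exact (isAffineOpen_top _).basicOpen _

theorem res_structHom (y : A) (W : V.Opens) (D : (Spec (CommRingCat.of A)).Opens) (e : W ≤ a ⁻¹ᵁ D) :
    (a.appLE D W e).hom (((Spec (CommRingCat.of A)).presheaf.map (homOfLE (le_top : D ≤ ⊤)).op).hom
      ((Scheme.ΓSpecIso (CommRingCat.of A)).inv y)) =
      (V.presheaf.map (homOfLE (le_top : W ≤ ⊤)).op).hom (structHom a y) := by
  have h := Scheme.Hom.map_appLE a e (homOfLE (le_top : D ≤ ⊤)).op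
  exact congrArg (fun k => (k : _ ⟶ Γ(V, W)).hom ((Scheme.ΓSpecIso (CommRingCat.of A)).inv y)) h

/-- Sections are finitely generated at an element over which the morphism is finite. -/
theorem exists_span_away [QuasiCompact a] [QuasiSeparated a] (y : A)
    [IsFinite (a ∣_ bo y)] :
    ∃ G : Finset Γ(V, ⊤), ∀ g : Γ(V, ⊤), ∃ N : ℕ,
      structHom a (y ^ N) * g ∈ @Submodule.span A Γ(V, ⊤) _ _ (structHom a).toAlgebra.toModule G := by
  letI : Algebra A Γ(V, ⊤) := (structHom a).toAlgebra
  classical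
  haveI : CompactSpace V := QuasiCompact.compactSpace_of_compactSpace a
  haveI : QuasiSeparatedSpace V := quasiSeparatedSpace_of_quasiSeparated a
  let D : (Spec (CommRingCat.of A)).Opens := bo y
  let s := structHom a y
  let W := V.basicOpen s
  have hW : W = a ⁻¹ᵁ D := basicOpen_structHom a y
  have hD : IsAffineOpen D := isAffineOpen_bo y
  haveI : IsAffine D.toScheme := hD
  have h0 : ∀ (U₁ : (Spec (CommRingCat.of A)).Opens) (U₂ : V.Opens) (e : U₂ ≤ a ⁻¹ᵁ U₁),
      U₁ = D → U₂ = a ⁻¹ᵁ D → (a.appLE U₁ U₂ e).hom.Finite := by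
    rintro _ _ e rfl rfl
    have h := (a ∣_ D).finite_appTop
    rw [Scheme.Hom.appTop, Scheme.Hom.app_eq_appLE, morphismRestrict_appLE] at h
    have key : ∀ (U₁' : (Spec (CommRingCat.of A)).Opens) (U₂' : V.Opens) (e' : U₂' ≤ a ⁻¹ᵁ U₁'),
        U₁' = D → U₂' = a ⁻¹ᵁ D → (a.appLE U₁' U₂' e').hom.Finite → (a.appLE D (a ⁻¹ᵁ D) e).hom.Finite := by
      rintro _ _ e' rfl rfl h'
      exact h'
    exact key _ _ _ D.ι_image_top (a ⁻¹ᵁ D).ι_image_top h
  have hfin := h0 D W hW.le rfl hW
  let ρ := (a.appLE D W hW.le).hom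
  letI : Algebra Γ(Spec (CommRingCat.of A), D) Γ(V, W) := ρ.toAlgebra
  haveI : Module.Finite Γ(Spec (CommRingCat.of A), D) Γ(V, W) := hfin
  obtain ⟨S, hS⟩ := Module.Finite.fg_top (R := Γ(Spec (CommRingCat.of A), D)) (M := Γ(V, W))
  let res := (V.presheaf.map (homOfLE (le_top : W ≤ ⊤)).op).hom
  let resA := ((Spec (CommRingCat.of A)).presheaf.map (homOfLE (le_top : D ≤ ⊤)).op).hom.comp
    (Scheme.ΓSpecIso (CommRingCat.of A)).inv.hom
  haveI hlocV : @IsLocalization.Away _ _ s Γ(V, W) _ res.toAlgebra :=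
    isLocalization_basicOpen_of_qcqs isCompact_univ isQuasiSeparated_univ s
  have hsurj : ∀ w : Γ(V, W), ∃ (n : ℕ) (g : Γ(V, ⊤)), res g = res (structHom a (y ^ n)) * w := fun w => by
    letI := res.toAlgebra
    obtain ⟨⟨g, ⟨_, n, rfl⟩⟩, hg⟩ := IsLocalization.surj (Submonoid.powers s) w
    refine ⟨n, g, ?_⟩
    rw [map_pow, mul_comm]
    exact hg.symm
  have hker : ∀ g g' : Γ(V, ⊤), res g = res g' → ∃ n : ℕ, structHom a (y ^ n) * g = structHom a (y ^ n) * g' :=
    fun g g' h => by
    letI := res.toAlgebra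
    obtain ⟨⟨_, n, rfl⟩, hc⟩ := (IsLocalization.eq_iff_exists (Submonoid.powers s) Γ(V, W)).1 h
    exact ⟨n, by rw [map_pow]; exact hc⟩
  have hρ : ∀ t : Γ(Spec (CommRingCat.of A), D), ∃ (l : ℕ) (α : A),
      res (structHom a (y ^ l)) * ρ t = res (structHom a α) := fun t => by
    have hmem : ∀ (U : (Spec (CommRingCat.of A)).Opens) (t : Γ(Spec (CommRingCat.of A), U)),
        U = (Spec (CommRingCat.of A)).basicOpen ((Scheme.ΓSpecIso (CommRingCat.of A)).inv y) →
        ∃ (l : ℕ) (α : A), t * ((Spec (CommRingCat.of A)).presheaf.map (homOfLE (le_top : U ≤ ⊤)).op).hom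
          ((Scheme.ΓSpecIso (CommRingCat.of A)).inv (y ^ l)) =
          ((Spec (CommRingCat.of A)).presheaf.map (homOfLE (le_top : U ≤ ⊤)).op).hom
            ((Scheme.ΓSpecIso (CommRingCat.of A)).inv α) := by
      rintro _ t rfl
      haveI := isLocalization_basicOpen_of_qcqs (X := Spec (CommRingCat.of A)) (U := ⊤) isCompact_univ
        isQuasiSeparated_univ ((Scheme.ΓSpecIso (CommRingCat.of A)).inv y)
      obtain ⟨⟨x, ⟨_, l, rfl⟩⟩, hx⟩ :=
        IsLocalization.surj (Submonoid.powers ((Scheme.ΓSpecIso (CommRingCat.of A)).inv y)) t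
      obtain ⟨α, rfl⟩ := (ConcreteCategory.bijective_of_isIso (Scheme.ΓSpecIso (CommRingCat.of A)).inv).2 x
      exact ⟨l, α, by rw [map_pow]; exact hx⟩
    obtain ⟨l, α, h⟩ := hmem D t (basicOpen_eq_of_affine (R := CommRingCat.of A) y).symm
    refine ⟨l, α, ?_⟩
    have h2 := congrArg ρ h
    rw [map_mul, res_structHom a (y ^ l) W D hW.le, res_structHom a α W D hW.le] at h2
    rw [mul_comm]
    exact h2
  choose n g hg using hsurj
  refine ⟨S.image g, fun g₀ => ?_⟩
  suffices h : ∀ w ∈ Submodule.span Γ(Spec (CommRingCat.of A), D) (S : Set Γ(V, W)), ∃ (N : ℕ),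
      ∃ v ∈ Submodule.span A ((S.image g : Finset Γ(V, ⊤)) : Set Γ(V, ⊤)), res (structHom a (y ^ N)) * w = res v by
    obtain ⟨N, v, hv, h⟩ := h (res g₀) (hS ▸ Submodule.mem_top)
    rw [← map_mul] at h
    obtain ⟨k, hk⟩ := hker _ _ h
    refine ⟨k + N, ?_⟩
    rw [pow_add, map_mul, mul_assoc, hk]
    exact Submodule.smul_mem _ (y ^ k) hv
  intro w hw
  induction hw using Submodule.span_induction with
  | mem x hx => exact ⟨n x, g x, Submodule.subset_span (Finset.mem_image_of_mem g hx), (hg x).symm⟩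
  | zero => exact ⟨0, 0, zero_mem _, by rw [mul_zero, map_zero]⟩
  | add p q _ _ hp hq =>
    obtain ⟨N, v, hv, h⟩ := hp
    obtain ⟨N', v', hv', h'⟩ := hq
    refine ⟨N + N', structHom a (y ^ N') * v + structHom a (y ^ N) * v',
      add_mem (Submodule.smul_mem _ (y ^ N') hv) (Submodule.smul_mem _ (y ^ N) hv'), ?_⟩
    rw [map_add, map_mul res, map_mul res, ← h, ← h', pow_add, map_mul, map_mul]
    ring
  | smul t p _ hp =>
    obtain ⟨N, v, hv, h⟩ := hp
    obtain ⟨l, α, hl⟩ := hρ t
    refine ⟨l + N, structHom a α * v, Submodule.smul_mem _ α hv, ?_⟩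
    rw [map_mul res, ← h, ← hl, pow_add, map_mul, map_mul, show t • p = ρ t * p from rfl]
    ring

/-- Sections vanishing on the hypersurface are locally multiples of its equation. -/
theorem exists_pow_eq_mul [QuasiCompact a] [QuasiSeparated a] (y f : A)
    [IsFinite (a ∣_ bo y)] (β : Γ(V, ⊤))
    (hβ : (pullback.fst a (Spec.map (CommRingCat.ofHom (Ideal.Quotient.mk (Ideal.span ({f} : Set A)))))).appTop β = 0) :
    ∃ (n : ℕ) (g : Γ(V, ⊤)), structHom a (y ^ n) * β = structHom a f * g := by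
  haveI : CompactSpace V := QuasiCompact.compactSpace_of_compactSpace a
  haveI : QuasiSeparatedSpace V := quasiSeparatedSpace_of_quasiSeparated a
  let cl := Spec.map (CommRingCat.ofHom (Ideal.Quotient.mk (Ideal.span ({f} : Set A))))
  let s := structHom a y
  let W := V.basicOpen s
  have hWaff : IsAffineOpen W := by
    show IsAffineOpen (V.basicOpen (structHom a y))
    rw [basicOpen_structHom]
    haveI : IsAffine (bo y).toScheme := isAffineOpen_bo y
    exact isAffine_of_isAffineHom (a ∣_ bo y)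
  haveI : IsAffine W.toScheme := hWaff
  have hker := Groth.Agent.PurityLef21.ker_fst_appTop (W.ι ≫ a) (Ideal.span ({f} : Set A))
  let w : pullback (W.ι ≫ a) cl ⟶ pullback a cl :=
    pullback.lift (pullback.fst _ _ ≫ W.ι) (pullback.snd _ _) (by rw [Category.assoc, pullback.condition])
  have h0 : W.ι.appTop β ∈ RingHom.ker (pullback.fst (W.ι ≫ a) cl).appTop.hom := by
    rw [RingHom.mem_ker]
    show (W.ι.appTop ≫ (pullback.fst (W.ι ≫ a) cl).appTop) β = 0
    rw [← Scheme.Hom.comp_appTop, show pullback.fst (W.ι ≫ a) cl ≫ W.ι = w ≫ pullback.fst a cl from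
      (pullback.lift_fst _ _ _).symm, Scheme.Hom.comp_appTop, ConcreteCategory.comp_apply, hβ, map_zero]
  rw [hker, Ideal.map_span, Set.image_singleton, Ideal.mem_span_singleton'] at h0
  obtain ⟨c, hc⟩ := h0
  have hst : ((W.ι ≫ a).appTop.hom.comp (Scheme.ΓSpecIso (CommRingCat.of A)).inv.hom) f =
      W.ι.appTop (structHom a f) := by
    rw [Scheme.Hom.comp_appTop]; rfl
  rw [hst] at hc
  let res := (V.presheaf.map (homOfLE (le_top : W ≤ ⊤)).op).hom
  letI := res.toAlgebra
  haveI hlocV : IsLocalization.Away s Γ(V, W) :=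
    isLocalization_basicOpen_of_qcqs isCompact_univ isQuasiSeparated_univ s
  let E : Γ(W.toScheme, ⊤) →+* Γ(V, W) := W.topIso.hom.hom
  have hE : ∀ z, E (W.ι.appTop z) = res z := fun z => by
    show (W.ι.appTop ≫ W.topIso.hom) z = _
    rw [Scheme.Opens.ι_appTop, Scheme.Opens.topIso_hom]
    erw [← V.presheaf.map_comp]
    rfl
  have hc' := congrArg E hc
  rw [map_mul, hE, hE] at hc'
  obtain ⟨⟨g, ⟨_, l, rfl⟩⟩, hg⟩ := IsLocalization.surj (Submonoid.powers s) (E c)
  have hg' : E c * res (s ^ l) = res g := hg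
  have h2 : res (s ^ l * β) = res (structHom a f * g) := by
    rw [map_mul res, map_mul res, ← hc', ← hg']
    ring
  obtain ⟨⟨_, k, rfl⟩, hk⟩ := (IsLocalization.eq_iff_exists (Submonoid.powers s) Γ(V, W)).1 h2
  refine ⟨k + l, structHom a (y ^ k) * g, ?_⟩
  rw [pow_add, map_mul, map_pow, map_pow]
  linear_combination hk

end GrothLib.LocFAdic21
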