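import Groth.Agent.LocFAdic21.DescAlg
import Groth.Agent.LocFAdic21.Model
import Groth.Agent.LocFAdic21.ClopenFF
import Groth.Agent.Lib.LefEt7.Clopen
import Groth.Agent.Lib.FEt21.Henselian

/-!
# Full faithfulness descends from the completion
-/

set_option autoImplicit false
set_option linter.style.haveILetI false
set_option linter.unusedSectionVars false

universe u

open CategoryTheory CategoryTheory.Limits AlgebraicGeometry TopologicalSpace TensorProduct Groth.Agent.GlueCompl21
open GrothLib.FEt21 (ClopenInj ClopenSurj)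

noncomputable section

namespace GrothLib.LocFAdic21

/-- Sections after flat base change as a tensor product. -/
theorem exists_sections_equiv {A A' : Type u} [CommRing A] [CommRing A'] [Algebra A A'] [Module.Flat A A']
    {P P' : Scheme.{u}} (p : P ⟶ Spec (CommRingCat.of A)) [QuasiCompact p] [QuasiSeparated p]
    (z : P' ⟶ P) (p' : P' ⟶ Spec (CommRingCat.of A'))
    (sq : IsPullback z p' p (Spec.map (CommRingCat.ofHom (algebraMap A A')))) :
    letI := (structHom p).toAlgebra
    ∃ ψ : A' ⊗[A] Γ(P, ⊤) →+* Γ(P', ⊤), Function.Bijective ψ ∧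
      ∀ (x : A') (b : Γ(P, ⊤)), ψ (x ⊗ₜ b) = structHom p' x * z.appTop b := by
  letI := (structHom p).toAlgebra
  have po := isPushout_sections p z p' sq
  let ψ := (CommRingCat.isPushout_tensorProduct A A' Γ(P, ⊤)).flip.isoIsPushout _ _ po
  refine ⟨ψ.hom.hom, ConcreteCategory.bijective_of_isIso ψ.hom, fun x b => ?_⟩
  rw [show x ⊗ₜ[A] b = algebraMap A' (A' ⊗[A] Γ(P, ⊤)) x * ((1 : A') ⊗ₜ[A] b) by
    rw [Algebra.TensorProduct.algebraMap_apply, Algebra.TensorProduct.tmul_mul_tmul, mul_one, one_mul]; rfl, map_mul]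
  exact congrArg₂ (· * ·)
    (ConcreteCategory.congr_hom ((CommRingCat.isPushout_tensorProduct A A' Γ(P, ⊤)).flip.inr_isoIsPushout_hom _ _ po) x)
    (ConcreteCategory.congr_hom ((CommRingCat.isPushout_tensorProduct A A' Γ(P, ⊤)).flip.inl_isoIsPushout_hom _ _ po) b)

/-- The locus of an idempotent section is clopen. -/
theorem isClopen_basicOpen_idem {P : Scheme.{u}} (e : Γ(P, ⊤)) (he : IsIdempotentElem e) :
    IsClopen (P.basicOpen e : Set P) := by
  rw [← Scheme.toSpecΓ_preimage_basicOpen]
  exact (PrimeSpectrum.isClopen_basicOpen_of_mul_add e (1 - e) (by rw [mul_sub, mul_one, he.eq, sub_self])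
    (by ring)).preimage P.toSpecΓ.continuous

/-- Restriction of an idempotent with equal loci agree. -/
theorem appTop_eq_of_basicOpen {P Q R : Scheme.{u}} (u : R ⟶ P) (v : R ⟶ Q) (e : Γ(P, ⊤)) (c : Γ(Q, ⊤))
    (he : IsIdempotentElem e) (hc : IsIdempotentElem c)
    (h : u ⁻¹' (P.basicOpen e : Set P) = v ⁻¹' (Q.basicOpen c : Set Q)) : u.appTop e = v.appTop c := by
  refine LefEt7.idem_ext (he.map u.appTop.hom) (hc.map v.appTop.hom) ?_
  rw [← Scheme.preimage_basicOpen_top, ← Scheme.preimage_basicOpen_top]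
  exact Opens.ext h

variable (A : Type u) [CommRing A] [IsNoetherianRing A] [IsLocalRing A]

local notation "𝔪" => IsLocalRing.maximalIdeal A

/-- Full faithfulness descends from the completion. -/
theorem fullyFaithful_of_completion (f : A) (hf : f ∈ 𝔪) [HenselianRing A (Ideal.span {f})]
    (hfull : (FEt.restrict (pullback.fst (pullback.fst (FEt.puncturedSpec A).ι
        (Spec.map (CommRingCat.ofHom (algebraMap A (AdicCompletion 𝔪 A)))))
      (pullback.fst (FEt.puncturedSpec A).ι (Spec.map (CommRingCat.ofHom (Ideal.Quotient.mk (Ideal.span {f}))))))).Full)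
    (hfaith : (FEt.restrict (pullback.fst (pullback.fst (FEt.puncturedSpec A).ι
        (Spec.map (CommRingCat.ofHom (algebraMap A (AdicCompletion 𝔪 A)))))
      (pullback.fst (FEt.puncturedSpec A).ι (Spec.map (CommRingCat.ofHom (Ideal.Quotient.mk (Ideal.span {f}))))))).Faithful) :
    (FEt.restrict (pullback.fst (FEt.puncturedSpec A).ι
      (Spec.map (CommRingCat.ofHom (Ideal.Quotient.mk (Ideal.span {f})))))).Full ∧
    (FEt.restrict (pullback.fst (FEt.puncturedSpec A).ι
      (Spec.map (CommRingCat.ofHom (Ideal.Quotient.mk (Ideal.span {f})))))).Faithful := by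
  classical
  let m := IsLocalRing.maximalIdeal A
  let A' := AdicCompletion m A
  haveI : IsNoetherianRing A' := GrothLib.AdicExtra.isNoetherianRing_adicCompletion _
  haveI : Module.Flat A A' := AdicCompletion.flat_of_isNoetherian _
  haveI : Module.FaithfullyFlat A A' := Module.FaithfullyFlat.of_flat_of_isLocalHom
  have happ := exists_approx A m (IsNoetherian.noetherian _)
  let U := FEt.puncturedSpec A
  let cm : Spec (CommRingCat.of A') ⟶ Spec (CommRingCat.of A) := Spec.map (CommRingCat.ofHom (algebraMap A A'))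
  let cl : Spec (CommRingCat.of (A ⧸ Ideal.span ({f} : Set A))) ⟶ Spec (CommRingCat.of A) :=
    Spec.map (CommRingCat.ofHom (Ideal.Quotient.mk (Ideal.span {f})))
  haveI : IsClosedImmersion cl := IsClosedImmersion.spec_of_surjective _ Ideal.Quotient.mk_surjective
  haveI : Surjective cm := ⟨PrimeSpectrum.comap_surjective_of_faithfullyFlat⟩
  haveI : CompactSpace (U : Scheme.{u}) := isCompact_iff_compactSpace.1 (NoetherianSpace.isCompact _)
  haveI : QuasiCompact U.ι := inferInstance
  let f₁ := pullback.fst U.ι cm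
  let j' := pullback.snd U.ι cm
  let q₀ := pullback.fst U.ι cl
  let p := pullback.fst f₁ q₀
  let b₀ := pullback.snd f₁ q₀
  refine GrothLib.FEt21.fullyFaithful_of_clopen q₀ (fun V D hD he => ?_) (fun V C hC => ?_)
  · let V' := (FEt.restrict f₁).obj V
    let z : pullback V.hom f₁ ⟶ V.left := pullback.fst V.hom f₁
    let mm : pullback (pullback.snd V.hom f₁) p ⟶ pullback V.hom q₀ :=
      pullback.lift (pullback.fst _ _ ≫ z) (pullback.snd _ _ ≫ b₀) (by
        rw [Category.assoc, Category.assoc, pullback.condition, pullback.condition_assoc, pullback.condition])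
    have hD' : z ⁻¹' D = ∅ := by
      refine clopenInj_of_faithful p hfaith V' _ (hD.preimage z.continuous) ?_
      refine Set.eq_empty_of_forall_notMem fun x hx => ?_
      refine Set.eq_empty_iff_forall_notMem.1 he (mm x) ?_
      show (mm ≫ pullback.fst V.hom q₀) x ∈ D
      rw [pullback.lift_fst]
      exact hx
    haveI : Surjective z := MorphismProperty.pullback_fst _ _ (MorphismProperty.pullback_fst _ _ ‹Surjective cm› : Surjective f₁)
    refine Set.eq_empty_of_forall_notMem fun d hd => ?_
    obtain ⟨x, rfl⟩ := z.surjective d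
    exact Set.eq_empty_iff_forall_notMem.1 hD' x hd
  · let v : V.left ⟶ (U : Scheme.{u}) := V.hom
    haveI : IsFinite v := V.prop.1
    let a : V.left ⟶ Spec (CommRingCat.of A) := v ≫ U.ι
    haveI : QuasiCompact a := inferInstance
    haveI : QuasiSeparated a := inferInstance
    let R := Γ(V.left, ⊤)
    letI : Algebra A R := (structHom a).toAlgebra
    have hsmul : ∀ (r : A) (g : R), r • g = structHom a r * g := fun _ _ => rfl
    obtain ⟨d, ys, hys⟩ : ∃ (d : ℕ) (ys : Fin d → A), Ideal.span (Set.range ys) = m :=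
      Submodule.fg_iff_exists_fin_generating_family.mp (IsNoetherian.noetherian _)
    have hfinD : ∀ j, IsFinite (a ∣_ bo (ys j)) := fun j => by
      have hle : bo (ys j) ≤ U := fun x hx (h : x = IsLocalRing.closedPoint A) => by
        have h1 : ys j ∈ m := hys.le (Ideal.subset_span ⟨j, rfl⟩)
        exact (show ys j ∉ (x : PrimeSpectrum A).asIdeal from hx) (h ▸ h1)
      haveI : Surjective (U.ι ∣_ bo (ys j)) := ⟨fun y => ⟨⟨⟨y.1, hle y.2⟩, y.2⟩, Subtype.ext (by
        exact congrArg (fun k => (k : _ ⟶ Spec (CommRingCat.of A)) _) (morphismRestrict_ι U.ι (bo (ys j))))⟩⟩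
      haveI : IsIso (U.ι ∣_ bo (ys j)) :=
        (isIso_iff_isOpenImmersion_and_epi_base _).2 ⟨inferInstance,
          (TopCat.epi_iff_surjective _).2 (U.ι ∣_ bo (ys j)).surjective⟩
      haveI : IsFinite (v ∣_ U.ι ⁻¹ᵁ bo (ys j)) :=
        MorphismProperty.of_isPullback (isPullback_morphismRestrict v (U.ι ⁻¹ᵁ bo (ys j))).flip ‹IsFinite v›
      haveI : IsFinite (U.ι ∣_ bo (ys j)) := inferInstance
      rw [show a ∣_ bo (ys j) = (v ∣_ U.ι ⁻¹ᵁ bo (ys j)) ≫ (U.ι ∣_ bo (ys j)) from morphismRestrict_comp v U.ι _]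
      exact MorphismProperty.comp_mem @IsFinite _ _ ‹_› ‹_›
    have hBj : ∀ j, ∃ B : Subalgebra A R, Module.Finite A B ∧ ∀ g : R, ∃ N : ℕ, ys j ^ N • g ∈ B := fun j => by
      haveI := hfinD j
      obtain ⟨G, hG⟩ := exists_span_away a (ys j)
      exact exists_finite_adjoin (ys j) G fun g => hG g
    choose Bj hBjf hBjt using hBj
    let B₁ : Subalgebra A R := Finset.univ.sup Bj
    haveI : Module.Finite A B₁ := by
      refine Finset.sup_induction (p := fun B : Subalgebra A R => Module.Finite A B) ?_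
        (fun a ha b hb => ?_) (fun j _ => hBjf j)
      · show Module.Finite A (⊥ : Subalgebra A R)
        exact Module.Finite.of_surjective (Algebra.linearMap A (⊥ : Subalgebra A R)) fun y => by
          obtain ⟨r, hr⟩ := Algebra.mem_bot.1 y.2
          exact ⟨r, Subtype.ext hr⟩
      · haveI := ha; haveI := hb; exact Subalgebra.finite_sup a b
    have hradI : ∀ (I : Ideal A), (∀ j, ∃ N, ys j ^ N ∈ I) → ∃ K, ∀ r ∈ m ^ K, r ∈ I := fun I hI => by
      obtain ⟨K, hK⟩ := Ideal.exists_pow_le_of_le_radical_of_fg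
        (show m ≤ I.radical by rw [← hys, Ideal.span_le]; rintro _ ⟨j, rfl⟩; exact hI j) (IsNoetherian.noetherian _)
      exact ⟨K, fun r hr => hK hr⟩
    have htor₁ : ∀ g : R, ∃ K : ℕ, ∀ r ∈ m ^ K, r • g ∈ B₁ := fun g => by
      refine hradI ((Subalgebra.toSubmodule B₁).comap (LinearMap.toSpanSingleton A R g)) fun j => ?_
      obtain ⟨N, hN⟩ := hBjt j g
      exact ⟨N, show ys j ^ N • g ∈ B₁ from Finset.le_sup (f := Bj) (Finset.mem_univ j) hN⟩
    -- the completion
    let z : pullback V.hom f₁ ⟶ V.left := pullback.fst V.hom f₁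
    let a' : pullback V.hom f₁ ⟶ Spec (CommRingCat.of A') := pullback.snd V.hom f₁ ≫ j'
    have sqV : IsPullback z a' a cm :=
      (IsPullback.of_hasPullback V.hom f₁).paste_vert (IsPullback.of_hasPullback U.ι cm)
    let π : pullback V.hom q₀ ⟶ V.left := pullback.fst V.hom q₀
    let a₀ : pullback V.hom q₀ ⟶ Spec (CommRingCat.of A) := π ≫ a
    let W := pullback (pullback.snd V.hom f₁) p
    let mm : W ⟶ pullback V.hom q₀ :=
      pullback.lift (pullback.fst _ _ ≫ z) (pullback.snd _ _ ≫ b₀) (by
        rw [Category.assoc, Category.assoc, pullback.condition, pullback.condition_assoc, pullback.condition])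
    let π' : W ⟶ pullback V.hom f₁ := pullback.fst _ _
    have hmπ : mm ≫ π = π' ≫ z := pullback.lift_fst _ _ _
    have Hout : IsPullback π' (mm ≫ pullback.snd V.hom q₀) (z ≫ V.hom) q₀ := by
      rw [show z ≫ V.hom = pullback.snd V.hom f₁ ≫ f₁ from pullback.condition,
        show mm ≫ pullback.snd V.hom q₀ = pullback.snd _ _ ≫ b₀ from pullback.lift_snd _ _ _]
      exact (IsPullback.of_hasPullback (pullback.snd V.hom f₁) p).paste_vert (IsPullback.of_hasPullback f₁ q₀)
    have Hsq : IsPullback π' mm z π := IsPullback.of_bot Hout hmπ.symm (IsPullback.of_hasPullback V.hom q₀)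
    have sq₀ : IsPullback mm (π' ≫ a') a₀ cm := Hsq.flip.paste_vert sqV
    haveI : QuasiCompact a₀ := inferInstance
    haveI : QuasiSeparated a₀ := inferInstance
    -- indicators
    obtain ⟨D', hD', hD'C⟩ := clopenSurj_of_full p hfull ((FEt.restrict f₁).obj V) (mm ⁻¹' C) (hC.preimage mm.continuous)
    let D'' : Set (pullback V.hom f₁ : Scheme.{u}) := D'
    obtain ⟨e', he', he'1, -⟩ := GrothLib.FEt21.exists_indicator D'' hD' ⊤
    obtain ⟨c, hc, hc1, -⟩ := GrothLib.FEt21.exists_indicator C hC ⊤
    rw [mul_sub, mul_one, sub_eq_zero] at he' hc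
    have he'i : IsIdempotentElem e' := he'.symm
    have hci : IsIdempotentElem c := hc.symm
    have hkey : π'.appTop e' = mm.appTop c := by
      refine appTop_eq_of_basicOpen π' mm e' c he'i hci ?_
      rw [he'1, hc1, Opens.coe_top, Set.inter_univ, Opens.coe_top, Set.inter_univ]
      exact hD'C
    obtain ⟨ψ, hψ, hψt⟩ := exists_sections_equiv a z a' sqV
    letI : Algebra A Γ(pullback V.hom q₀, ⊤) := (structHom a₀).toAlgebra
    obtain ⟨ψ₀, hψ₀, hψ₀t⟩ := exists_sections_equiv a₀ mm (π' ≫ a') sq₀
    let πA : R →ₐ[A] Γ(pullback V.hom q₀, ⊤) :=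
      { π.appTop.hom with
        commutes' := fun r => by
          show π.appTop (structHom a r) = structHom a₀ r
          show (a.appTop ≫ π.appTop) _ = _
          rw [← Scheme.Hom.comp_appTop]
          rfl }
    have hcomm : ∀ w : A' ⊗[A] R, ψ₀ (Algebra.TensorProduct.map (AlgHom.id A' A') πA w) = π'.appTop (ψ w) := fun w => by
      induction w using TensorProduct.induction_on with
      | zero => simp
      | tmul x g =>
        rw [Algebra.TensorProduct.map_tmul, hψt, map_mul]
        refine (hψ₀t x (πA g)).trans (congrArg₂ (· * ·) ?_ ?_)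
        · show (π' ≫ a').appTop _ = (a'.appTop ≫ π'.appTop) _
          rw [← Scheme.Hom.comp_appTop]
        · show (π.appTop ≫ mm.appTop) g = (z.appTop ≫ π'.appTop) g
          rw [← Scheme.Hom.comp_appTop, ← Scheme.Hom.comp_appTop, hmπ]
      | add p r hp hr => simp only [map_add, hp, hr]
    obtain ⟨x, hx⟩ := hψ.2 e'
    have hxi : IsIdempotentElem x := hψ.1 (by rw [map_mul, hx]; exact he'i)
    obtain ⟨B, hB₁, hBfin, x₁, hx₁⟩ := exists_finite_subalgebra happ B₁ htor₁ x hxi
    haveI := hBfin
    have hx₁i : IsIdempotentElem x₁ := by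
      have hinj : Function.Injective (Algebra.TensorProduct.map (AlgHom.id A' A') B.val) := fun s t h => by
        rw [map_eq_baseChange, map_eq_baseChange] at h
        exact Module.Flat.lTensor_preserves_injective_linearMap (M := A') B.val.toLinearMap Subtype.val_injective h
      exact hinj (by rw [map_mul, hx₁]; exact hxi)
    -- modulo the equation
    let J : Ideal B := (Ideal.span ({f} : Set A)).map (algebraMap A B)
    have hf0 : πA (algebraMap A R f) = 0 := by
      rw [AlgHom.commutes]
      show structHom a₀ f = 0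
      have h : a₀ = pullback.snd V.hom q₀ ≫ pullback.snd U.ι cl ≫ cl := by
        show π ≫ v ≫ U.ι = _
        rw [← pullback.condition, ← Category.assoc, ← Category.assoc,
          show π ≫ v = pullback.snd V.hom q₀ ≫ q₀ from pullback.condition]
      have h2 : cl.appTop ((Scheme.ΓSpecIso (CommRingCat.of A)).inv f) = 0 := by
        refine (ConcreteCategory.congr_hom (Scheme.ΓSpecIso_inv_naturality
          (CommRingCat.ofHom (Ideal.Quotient.mk (Ideal.span ({f} : Set A))))) f).symm.trans ?_
        show (Scheme.ΓSpecIso (CommRingCat.of (A ⧸ Ideal.span ({f} : Set A)))).inv (Ideal.Quotient.mk (Ideal.span ({f} : Set A)) f) = 0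
        rw [Ideal.Quotient.eq_zero_iff_mem.2 (Ideal.mem_span_singleton_self f)]
        exact map_zero _
      show a₀.appTop ((Scheme.ΓSpecIso (CommRingCat.of A)).inv f) = 0
      rw [h, Scheme.Hom.comp_appTop, Scheme.Hom.comp_appTop]
      show (pullback.snd V.hom q₀).appTop ((pullback.snd U.ι cl).appTop (cl.appTop _)) = 0
      rw [h2, map_zero, map_zero]
    let φ : B ⧸ J →ₐ[A] Γ(pullback V.hom q₀, ⊤) := Ideal.Quotient.liftₐ J (πA.comp B.val) (fun s hs => by
      have hle : J ≤ RingHom.ker (πA.comp B.val).toRingHom := Ideal.map_le_iff_le_comap.2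
        ((Ideal.span_singleton_le_iff_mem _).2 (show (πA.comp B.val) (algebraMap A B f) = 0 from hf0))
      exact hle hs)
    have htor : ∀ κ : B ⧸ J, φ κ = 0 → ∃ K : ℕ, ∀ r ∈ m ^ K, r • κ = 0 := fun κ hκ => by
      obtain ⟨β, rfl⟩ := Ideal.Quotient.mk_surjective κ
      refine hradI (LinearMap.ker (LinearMap.toSpanSingleton A (B ⧸ J) (Ideal.Quotient.mk J β))) fun j => ?_
      haveI := hfinD j
      have hw : (pullback.fst a cl).appTop β.1 = 0 := by
        let w : pullback a cl ⟶ pullback V.hom q₀ :=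
          pullback.lift (pullback.fst _ _) (pullback.lift (pullback.fst _ _ ≫ v) (pullback.snd _ _)
            (by rw [Category.assoc]; exact pullback.condition)) (by rw [pullback.lift_fst])
        rw [show pullback.fst a cl = w ≫ π from (pullback.lift_fst _ _ _).symm, Scheme.Hom.comp_appTop]
        show w.appTop (π.appTop β.1) = 0
        rw [show π.appTop β.1 = 0 from hκ, map_zero]
      obtain ⟨n, g, hg⟩ := exists_pow_eq_mul a (ys j) f β.1 hw
      obtain ⟨N, hN⟩ := hBjt j g
      have hgB : ys j ^ N • g ∈ B := hB₁ (Finset.le_sup (f := Bj) (Finset.mem_univ j) hN)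
      refine ⟨N + n, ?_⟩
      show ys j ^ (N + n) • Ideal.Quotient.mk J β = 0
      rw [show ys j ^ (N + n) • Ideal.Quotient.mk J β = Ideal.Quotient.mk J (ys j ^ (N + n) • β) from rfl,
        Ideal.Quotient.eq_zero_iff_mem,
        show ys j ^ (N + n) • β = algebraMap A B f * ⟨_, hgB⟩ from Subtype.ext (by
          show structHom a (ys j ^ (N + n)) * β.1 = structHom a f * (structHom a (ys j ^ N) * g)
          rw [pow_add, map_mul, mul_assoc, hg]
          ring)]
      exact Ideal.mul_mem_right _ _ (Ideal.mem_map_of_mem _ (Ideal.mem_span_singleton_self f))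
    let x₀ := Algebra.TensorProduct.map (AlgHom.id A' A') (Ideal.Quotient.mkₐ A J) x₁
    have hx₀ : Algebra.TensorProduct.map (AlgHom.id A' A') φ x₀ = (1 : A') ⊗ₜ c := by
      rw [← AlgHom.comp_apply, ← Algebra.TensorProduct.map_comp, AlgHom.comp_id,
        show φ.comp (Ideal.Quotient.mkₐ A J) = πA.comp B.val from AlgHom.ext fun s => rfl,
        show Algebra.TensorProduct.map (AlgHom.id A' A') (πA.comp B.val) =
          (Algebra.TensorProduct.map (AlgHom.id A' A') πA).comp (Algebra.TensorProduct.map (AlgHom.id A' A') B.val) by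
          rw [← Algebra.TensorProduct.map_comp, AlgHom.comp_id], AlgHom.comp_apply, hx₁]
      refine hψ₀.1 ?_
      rw [hcomm, hx, hkey]
      refine ((hψ₀t 1 c).trans ?_).symm
      rw [map_one, one_mul]
    obtain ⟨b, hb, hbc⟩ := exists_idempotent happ φ htor x₀ (hx₁i.map _) c hx₀
    obtain ⟨β, rfl⟩ := Ideal.Quotient.mk_surjective b
    haveI : Algebra.IsIntegral A B := Algebra.IsIntegral.of_finite A B
    obtain ⟨ε, hε, hεβ⟩ := Hensel.exists_isIdempotentElem_lift (I := Ideal.span ({f} : Set A)) (B := B) (b := β)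
      (Ideal.Quotient.eq.1 (by rw [map_mul]; exact hb))
    refine ⟨(V.left.basicOpen ε.1 : Set V.left), isClopen_basicOpen_idem ε.1 (hε.map B.val), ?_⟩
    have h1 : π.appTop ε.1 = c := by
      rw [← hbc, ← Ideal.Quotient.eq.2 hεβ]
      rfl
    show π ⁻¹' (V.left.basicOpen ε.1 : Set V.left) = C
    have h2 := Scheme.preimage_basicOpen_top π ε.1
    rw [h1] at h2
    exact (congrArg (fun O : (pullback V.hom q₀).Opens => (O : Set (pullback V.hom q₀ : Scheme.{u}))) h2).trans
      (by rw [hc1, Opens.coe_top, Set.inter_univ])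

end GrothLib.LocFAdic21
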