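import Groth.Agent.Lib.Pushout6.BaseChange
import Groth.Prelude.Def_FEt

/-!
# Full faithfulness passes through a pushout of schemes
-/

set_option autoImplicit false
set_option linter.style.haveILetI false

universe u

open CategoryTheory CategoryTheory.Limits AlgebraicGeometry

noncomputable section

namespace GrothLib.LocFAdic21

/-- The projection to the second cover of a morphism of restricted covers. -/
def proj {X Y : Scheme.{u}} {f : X ⟶ Y} {A B : FEt.Cat Y} (φ : (FEt.restrict f).obj A ⟶ (FEt.restrict f).obj B) :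
    pullback A.hom f ⟶ B.left :=
  φ.left ≫ pullback.fst B.hom f

theorem proj_comp {X Y : Scheme.{u}} {f : X ⟶ Y} {A B : FEt.Cat Y}
    (φ : (FEt.restrict f).obj A ⟶ (FEt.restrict f).obj B) :
    proj φ ≫ B.hom = pullback.snd A.hom f ≫ f :=
  (Category.assoc φ.left (pullback.fst B.hom f) B.hom).trans
    ((congrArg (φ.left ≫ ·) pullback.condition).trans
      ((Category.assoc φ.left (pullback.snd B.hom f) f).symm.trans
        (congrArg (· ≫ f) (Over.w φ.hom))))

theorem proj_ext {X Y : Scheme.{u}} {f : X ⟶ Y} {A B : FEt.Cat Y}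
    (φ ψ : (FEt.restrict f).obj A ⟶ (FEt.restrict f).obj B) (h : proj φ = proj ψ) : φ = ψ :=
  MorphismProperty.Over.Hom.ext (pullback.hom_ext h ((Over.w φ.hom).trans (Over.w ψ.hom).symm))

theorem proj_map {X Y : Scheme.{u}} (f : X ⟶ Y) {A B : FEt.Cat Y} (φ : A ⟶ B) :
    proj ((FEt.restrict f).map φ) = pullback.fst A.hom f ≫ φ.left :=
  pullback.lift_fst _ _ _

/-- A morphism of restricted covers from its projection. -/
def mkHom {X Y : Scheme.{u}} (f : X ⟶ Y) {A B : FEt.Cat Y} (g : pullback A.hom f ⟶ B.left)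
    (h : g ≫ B.hom = pullback.snd A.hom f ≫ f) : (FEt.restrict f).obj A ⟶ (FEt.restrict f).obj B :=
  MorphismProperty.Over.homMk (pullback.lift g (pullback.snd A.hom f) h) (pullback.lift_snd _ _ _) trivial

theorem proj_mkHom {X Y : Scheme.{u}} (f : X ⟶ Y) {A B : FEt.Cat Y} (g : pullback A.hom f ⟶ B.left)
    (h : g ≫ B.hom = pullback.snd A.hom f ≫ f) : proj (mkHom f g h) = g :=
  pullback.lift_fst _ _ _

theorem comp_proj_map {X Y Z : Scheme.{u}} (i : Z ⟶ X) (a : X ⟶ Y) {A B : FEt.Cat Y}
    (φ : (FEt.restrict a).obj A ⟶ (FEt.restrict a).obj B) :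
    (proj ((FEt.restrict i).map φ) ≫ pullback.fst B.hom a : pullback (pullback.snd A.hom a) i ⟶ B.left) =
      pullback.fst (pullback.snd A.hom a) i ≫ proj φ :=
  (congrArg (· ≫ pullback.fst B.hom a) (proj_map i φ)).trans (Category.assoc _ _ _)

theorem ext_map {X Y Z : Scheme.{u}} (i : Z ⟶ X) (a : X ⟶ Y) {A B : FEt.Cat Y}
    (φ ψ : (FEt.restrict i).obj ((FEt.restrict a).obj A) ⟶ (FEt.restrict i).obj ((FEt.restrict a).obj B))
    (h : (proj φ ≫ pullback.fst B.hom a : pullback (pullback.snd A.hom a) i ⟶ B.left) =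
      proj ψ ≫ pullback.fst B.hom a) : φ = ψ :=
  proj_ext φ ψ (pullback.hom_ext h ((proj_comp φ).trans (proj_comp ψ).symm))

variable {Z X Y P : Scheme.{u}} {i : Z ⟶ X} [IsClosedImmersion i] {j : Z ⟶ Y} {a : X ⟶ P} {b : Y ⟶ P}

/-- The base change of a pushout to a flat scheme over it. -/
theorem isPushout_over (hC : Pushout6.Covered i j) (hP : IsPushout i j a b) (T : FEt.Cat P) :
    IsPushout (pullback.fst (pullback.snd T.hom a) i)
      (pullback.lift (pullback.fst (pullback.snd T.hom a) i ≫ pullback.fst T.hom a)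
        (pullback.snd (pullback.snd T.hom a) i ≫ j)
        (by rw [Category.assoc, Category.assoc, pullback.condition, pullback.condition_assoc, hP.w]) :
          _ ⟶ pullback T.hom b)
      (pullback.fst T.hom a) (pullback.fst T.hom b) := by
  haveI : AlgebraicGeometry.Etale T.hom := T.prop.2
  refine Pushout6.isPushout_baseChange (r := 𝟙 P) (g := T.hom) (πP := T.hom) (sP := 𝟙 T.left) hC hP (Or.inl inferInstance)
    (IsPullback.id_horiz T.hom).flip (IsPullback.of_hasPullback T.hom a).flip
    (IsPullback.of_hasPullback T.hom b).flip (IsPullback.of_hasPullback (pullback.snd T.hom a) i).flip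
    ?_ ?_
  · rw [pullback.lift_snd]
  · rw [pullback.lift_fst]

/-- Full faithfulness passes through a pushout. -/
theorem fullyFaithful_of_isPushout (hC : Pushout6.Covered i j) (hP : IsPushout i j a b)
    (hfull : (FEt.restrict i).Full) (hfaith : (FEt.restrict i).Faithful) :
    (FEt.restrict b).Full ∧ (FEt.restrict b).Faithful := by
  haveI := hfull
  haveI := hfaith
  constructor
  · refine ⟨fun {T₁ T₂} φ₀ => ?_⟩
    let i' : pullback (pullback.snd T₁.hom a) i ⟶ pullback T₁.hom a := pullback.fst _ _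
    let j' : pullback (pullback.snd T₁.hom a) i ⟶ pullback T₁.hom b :=
      pullback.lift (pullback.fst (pullback.snd T₁.hom a) i ≫ pullback.fst T₁.hom a)
        (pullback.snd (pullback.snd T₁.hom a) i ≫ j)
        (by rw [Category.assoc, Category.assoc, pullback.condition, pullback.condition_assoc, hP.w])
    have h1 : (j' ≫ proj φ₀) ≫ T₂.hom = (pullback.snd (pullback.snd T₁.hom a) i ≫ i) ≫ a := by
      rw [Category.assoc, proj_comp, pullback.lift_snd_assoc, Category.assoc, Category.assoc, hP.w]
    let g : pullback ((FEt.restrict a).obj T₁).hom i ⟶ ((FEt.restrict a).obj T₂).left :=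
      pullback.lift (j' ≫ proj φ₀) (pullback.snd (pullback.snd T₁.hom a) i ≫ i) h1
    let θ := mkHom i g (pullback.lift_snd _ _ _)
    let ψ := (FEt.restrict i).preimage θ
    have hψ : i' ≫ proj ψ = j' ≫ proj φ₀ := by
      have h : proj ((FEt.restrict i).map ψ) = g :=
        (congrArg proj ((FEt.restrict i).map_preimage θ)).trans (proj_mkHom i g _)
      exact (comp_proj_map i a ψ).symm.trans
        ((congrArg (· ≫ pullback.fst T₂.hom a) h).trans (pullback.lift_fst _ _ _))
    have hpo := isPushout_over hC hP T₁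
    let χ : T₁.left ⟶ T₂.left := hpo.desc (proj ψ) (proj φ₀) hψ
    have hχ : χ ≫ T₂.hom = T₁.hom := hpo.hom_ext
      (by rw [hpo.inl_desc_assoc, proj_comp, pullback.condition])
      (by rw [hpo.inr_desc_assoc, proj_comp, pullback.condition])
    refine ⟨MorphismProperty.Over.homMk χ hχ trivial, proj_ext _ _ ?_⟩
    exact (proj_map b _).trans (hpo.inr_desc _ _ _)
  · refine ⟨fun {T₁ T₂ χ₁ χ₂} he => MorphismProperty.Over.Hom.ext ?_⟩
    have hpo := isPushout_over hC hP T₁
    have hb : pullback.fst T₁.hom b ≫ χ₁.left = pullback.fst T₁.hom b ≫ χ₂.left := by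
      rw [← proj_map b χ₁, ← proj_map b χ₂, he]
    have ha : (FEt.restrict a).map χ₁ = (FEt.restrict a).map χ₂ := by
      refine (FEt.restrict i).map_injective (ext_map i a _ _ ?_)
      refine (comp_proj_map i a _).trans (Eq.trans ?_ (comp_proj_map i a _).symm)
      rw [proj_map, proj_map]
      exact (hpo.w_assoc _).trans ((congrArg (_ ≫ ·) hb).trans (hpo.w_assoc _).symm)
    refine hpo.hom_ext ?_ hb
    rw [← proj_map a χ₁, ← proj_map a χ₂, ha]

end GrothLib.LocFAdic21
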