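import Groth.Agent.LocFAdic21.ExtendAll
import Groth.Agent.LocFAdic21.PushFF
import Groth.Agent.Lib.Pushout6.FiniteSet

/-!
# Full faithfulness near the hypersurface without regularity
-/

set_option autoImplicit false
set_option linter.style.haveILetI false
set_option linter.unusedSectionVars false

universe u

open CategoryTheory CategoryTheory.Limits AlgebraicGeometry TopologicalSpace

noncomputable section

namespace GrothLib.LocFAdic21

/-- Full faithfulness cancels an equivalence on the left. -/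
theorem fullyFaithful_of_comp {X Y Z : Scheme.{u}} (δ : X ⟶ Y) (u : Y ⟶ Z) (h : (FEt.restrict δ).IsEquivalence)
    (hff : (FEt.restrict (δ ≫ u)).Full ∧ (FEt.restrict (δ ≫ u)).Faithful) :
    (FEt.restrict u).Full ∧ (FEt.restrict u).Faithful := by
  haveI := h
  haveI := hff.1
  haveI := hff.2
  let η : FEt.restrict u ⋙ FEt.restrict δ ≅ FEt.restrict (δ ≫ u) :=
    (MorphismProperty.Over.pullbackComp (P := FEt.prop) (Q := ⊤) δ u).symm
  exact ⟨Functor.Full.of_comp_faithful_iso η, Functor.Faithful.of_comp_iso η⟩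

/-- Full faithfulness composes with an equivalence on the right. -/
theorem fullyFaithful_comp {X Y Z : Scheme.{u}} (v : X ⟶ Y) (r : Y ⟶ Z) (h : (FEt.restrict r).IsEquivalence)
    (hv : (FEt.restrict v).Full) (hv' : (FEt.restrict v).Faithful) :
    (FEt.restrict (v ≫ r)).Full ∧ (FEt.restrict (v ≫ r)).Faithful := by
  haveI := h
  haveI := hv
  haveI := hv'
  let η : FEt.restrict (v ≫ r) ≅ FEt.restrict r ⋙ FEt.restrict v :=
    MorphismProperty.Over.pullbackComp (P := FEt.prop) (Q := ⊤) v r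
  exact ⟨Functor.Full.of_iso η.symm, Functor.Faithful.of_iso η.symm⟩

variable {B : Type u} [CommRing B] [IsNoetherianRing B] [IsLocalRing B]

/-- Full faithfulness on one piece gives it for the union with the hypersurface. -/
theorem fullyFaithful_glue (N : Ideal B) (g : B) [IsLocalRing (B ⧸ N)]
    [IsAdicComplete (Ideal.span ({Ideal.Quotient.mk N g} : Set (B ⧸ N))) (B ⧸ N)]
    (hN : N ⊓ Ideal.span {g} = ⊥) (V₁ : (Spec (CommRingCat.of (B ⧸ N))).Opens)
    (hV₁ : ∀ (T : Scheme.{u}) (i : T ⟶ Spec (CommRingCat.of (B ⧸ N))) [IsOpenImmersion i], i.opensRange ≤ V₁ →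
      Set.range (pullback.fst (FEt.puncturedSpec (B ⧸ N)).ι (clf (B ⧸ N) (Ideal.Quotient.mk N g)) ≫
        (FEt.puncturedSpec (B ⧸ N)).ι) ⊆ Set.range i →
      ∀ (D : T.Modules) [Coh.IsQCoh D],
        Lef.HomToFormalBijective ((clf (B ⧸ N) (Ideal.Quotient.mk N g)).ker.comap i) D)
    (W : (Spec (CommRingCat.of B)).Opens) (hWU : W ≤ FEt.puncturedSpec B) (hW : cq N ⁻¹ᵁ W ≤ V₁)
    (hY : (FEt.puncturedSpec B : Set (Spec (CommRingCat.of B))) ∩ PrimeSpectrum.zeroLocus {g} ⊆ W) :
    (FEt.restrict (cq (Ideal.span ({g} : Set B)) ∣_ W)).Full ∧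
      (FEt.restrict (cq (Ideal.span ({g} : Set B)) ∣_ W)).Faithful := by
  let F := Ideal.span ({g} : Set B)
  let f₁ : B ⧸ N := Ideal.Quotient.mk N g
  let U₁ := FEt.puncturedSpec (B ⧸ N)
  let T : (Spec (CommRingCat.of (B ⧸ N))).Opens := cq N ⁻¹ᵁ W
  have hpre : cq N ⁻¹ᵁ FEt.puncturedSpec B = U₁ := preimage_puncturedSpec N
  have hTU : T ≤ U₁ := (Scheme.Hom.preimage_mono (cq N) hWU).trans hpre.le
  let p := pullback.fst U₁.ι (clf (B ⧸ N) f₁) ≫ U₁.ι
  have hYT : Set.range p ⊆ T := by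
    intro x hx
    rw [range_slice] at hx
    exact hY ⟨hpre.ge hx.1, fun y hy => by rw [Set.mem_singleton_iff.1 hy]; exact hx.2 (Set.mem_singleton f₁)⟩
  let iT : pullback U₁.ι (clf (B ⧸ N) f₁) ⟶ (T : Scheme.{u}) :=
    IsOpenImmersion.lift T.ι p (by rw [Scheme.Opens.range_ι]; exact hYT)
  have hiT : iT ≫ T.ι = p := IsOpenImmersion.lift_fac _ _ _
  have hff := fullyFaithful_of_homBij (A := B ⧸ N) (f := f₁) T.ι ((Scheme.Opens.opensRange_ι T).le.trans hTU)
    iT hiT fun D hD => by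
      haveI : Coh.IsQCoh D := (Euler.isCoh_of_isFinLocFree hD).1
      exact hV₁ _ T.ι ((Scheme.Opens.opensRange_ι T).le.trans hW) (by rw [Scheme.Opens.range_ι]; exact hYT) D
  let κ : B ⧸ (N ⊔ F) →+* (B ⧸ N) ⧸ Ideal.span ({f₁} : Set (B ⧸ N)) :=
    Ideal.quotientMap _ (Ideal.Quotient.mk N) (sup_le
      (fun a ha => by
        show Ideal.Quotient.mk N a ∈ Ideal.span {f₁}
        rw [Ideal.Quotient.eq_zero_iff_mem.2 ha]; exact zero_mem _)
      ((Ideal.span_singleton_le_iff_mem _).2 (Ideal.mem_span_singleton_self f₁)))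
  have hκs : Function.Surjective κ := fun x => by
    obtain ⟨y, rfl⟩ := Ideal.Quotient.mk_surjective x
    obtain ⟨a, rfl⟩ := Ideal.Quotient.mk_surjective y
    exact ⟨Ideal.Quotient.mk _ a, rfl⟩
  let s := Spec.map (CommRingCat.ofHom κ)
  haveI : IsClosedImmersion s := IsClosedImmersion.spec_of_surjective _ hκs
  haveI : Surjective s := surjective_specMap _ hκs fun P hP x hx => by
    obtain ⟨a, rfl⟩ := Ideal.Quotient.mk_surjective x
    have hx' : Ideal.Quotient.mk (Ideal.span {f₁}) (Ideal.Quotient.mk N a) = 0 := hx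
    obtain ⟨d, hd⟩ := Ideal.mem_span_singleton'.1 (Ideal.Quotient.eq_zero_iff_mem.1 hx')
    obtain ⟨d, rfl⟩ := Ideal.Quotient.mk_surjective d
    have h3 : a - d * g ∈ N := Ideal.Quotient.eq.1 (hd.symm.trans (map_mul _ _ _).symm)
    have h4 : a ∈ N ⊔ F := by
      rw [show a = (a - d * g) + d * g by ring]
      exact add_mem (Ideal.mem_sup_left h3)
        (Ideal.mem_sup_right (Ideal.mul_mem_left _ _ (Ideal.mem_span_singleton_self g)))
    rw [Ideal.Quotient.eq_zero_iff_mem.2 h4]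
    exact P.zero_mem
  have hs : s ≫ pl N F = clf (B ⧸ N) f₁ := by
    rw [← Spec.map_comp]
    exact congrArg Spec.map (CommRingCat.hom_ext (Ideal.Quotient.ringHom_ext (RingHom.ext fun _ => rfl)))
  let S : (Spec (CommRingCat.of (B ⧸ (N ⊔ F)))).Opens := pl N F ⁻¹ᵁ T
  let γ : pullback U₁.ι (clf (B ⧸ N) f₁) ⟶ (S : Scheme.{u}) :=
    IsOpenImmersion.lift S.ι (pullback.snd U₁.ι (clf (B ⧸ N) f₁) ≫ s) (by
      rintro _ ⟨z, rfl⟩
      rw [Scheme.Opens.range_ι]
      show (s ≫ pl N F) (pullback.snd U₁.ι (clf (B ⧸ N) f₁) z) ∈ T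
      rw [hs]
      show (pullback.snd U₁.ι (clf (B ⧸ N) f₁) ≫ clf (B ⧸ N) f₁) z ∈ T
      rw [← pullback.condition]
      exact hYT ⟨z, rfl⟩)
  have hγ : γ ≫ S.ι = pullback.snd U₁.ι (clf (B ⧸ N) f₁) ≫ s := IsOpenImmersion.lift_fac _ _ _
  have HB : IsPullback γ (pullback.snd U₁.ι (clf (B ⧸ N) f₁)) S.ι s :=
    IsOpenImmersion.isPullback _ _ _ _ hγ.symm (by
      rw [Scheme.Opens.opensRange_ι, ← Scheme.Hom.comp_preimage, hs, range_snd_slice U₁ T _ hTU hYT])
  haveI : IsClosedImmersion γ := MorphismProperty.of_isPullback HB.flip (inferInstanceAs (IsClosedImmersion s))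
  haveI : Surjective γ := MorphismProperty.of_isPullback HB.flip (inferInstanceAs (Surjective s))
  haveI : IsClosedImmersion (pl N F ∣_ T) :=
    MorphismProperty.of_isPullback (isPullback_morphismRestrict (pl N F) T).flip inferInstance
  haveI : IsClosedImmersion (prO N F W) :=
    MorphismProperty.of_isPullback (isPullback_prO N F W).flip inferInstance
  have hcomp : γ ≫ (pl N F ∣_ T) = iT := by
    rw [← cancel_mono T.ι, Category.assoc, morphismRestrict_ι, reassoc_of% hγ, hs, hiT, ← pullback.condition]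
  rw [← hcomp] at hff
  have hi := fullyFaithful_of_comp γ (pl N F ∣_ T) (isEquivalence_of_closed_surjective γ) hff
  exact fullyFaithful_of_isPushout (Pushout6.covered_of_isClosedImmersion _ _) (isPushout_open N F W hN) hi.1 hi.2

variable {A : Type u} [CommRing A] [IsNoetherianRing A] [IsLocalRing A]

/-- Full faithfulness descends along a nilpotent thickening. -/
theorem fullyFaithful_of_reduction {f : A} (K : Ideal A) [IsLocalRing (A ⧸ K)] (hKf : K ≤ Ideal.span {f})
    (hK : ∀ P : Ideal A, P.IsPrime → K ≤ P) (W : (Spec (CommRingCat.of A)).Opens) (hWU : W ≤ FEt.puncturedSpec A)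
    (u : pullback (FEt.puncturedSpec A).ι (clf A f) ⟶ (W : Scheme.{u}))
    (hu : u ≫ W.ι = pullback.fst (FEt.puncturedSpec A).ι (clf A f) ≫ (FEt.puncturedSpec A).ι)
    (hff : (FEt.restrict (cq (Ideal.span ({Ideal.Quotient.mk K f} : Set (A ⧸ K))) ∣_ (cq K ⁻¹ᵁ W))).Full ∧
      (FEt.restrict (cq (Ideal.span ({Ideal.Quotient.mk K f} : Set (A ⧸ K))) ∣_ (cq K ⁻¹ᵁ W))).Faithful) :
    (FEt.restrict u).Full ∧ (FEt.restrict u).Faithful := by
  let U := FEt.puncturedSpec A
  let g : A ⧸ K := Ideal.Quotient.mk K f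
  let F := Ideal.span ({g} : Set (A ⧸ K))
  let WB := cq K ⁻¹ᵁ W
  let D : (Spec (CommRingCat.of ((A ⧸ K) ⧸ F))).Opens := cq F ⁻¹ᵁ WB
  let κ : A ⧸ Ideal.span ({f} : Set A) →+* (A ⧸ K) ⧸ F :=
    Ideal.quotientMap _ (Ideal.Quotient.mk K) ((Ideal.span_singleton_le_iff_mem _).2 (Ideal.mem_span_singleton_self g))
  have hκs : Function.Surjective κ := fun x => by
    obtain ⟨y, rfl⟩ := Ideal.Quotient.mk_surjective x
    obtain ⟨a, rfl⟩ := Ideal.Quotient.mk_surjective y
    exact ⟨Ideal.Quotient.mk _ a, rfl⟩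
  let s := Spec.map (CommRingCat.ofHom κ)
  haveI : IsClosedImmersion s := IsClosedImmersion.spec_of_surjective _ hκs
  haveI : Surjective s := surjective_specMap _ hκs fun P hP x hx => by
    obtain ⟨a, rfl⟩ := Ideal.Quotient.mk_surjective x
    have hx' : Ideal.Quotient.mk F (Ideal.Quotient.mk K a) = 0 := hx
    obtain ⟨d, hd⟩ := Ideal.mem_span_singleton'.1 (Ideal.Quotient.eq_zero_iff_mem.1 hx')
    obtain ⟨d, rfl⟩ := Ideal.Quotient.mk_surjective d
    have h3 : a - d * f ∈ K := Ideal.Quotient.eq.1 (hd.symm.trans (map_mul _ _ _).symm)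
    have h4 : a ∈ Ideal.span {f} := by
      rw [show a = (a - d * f) + d * f by ring]
      exact add_mem (hKf h3) (Ideal.mul_mem_left _ _ (Ideal.mem_span_singleton_self f))
    rw [Ideal.Quotient.eq_zero_iff_mem.2 h4]
    exact P.zero_mem
  have hs : s ≫ clf A f = cq F ≫ cq K := by
    rw [← Spec.map_comp, ← Spec.map_comp]; rfl
  let a : (D : Scheme.{u}) ⟶ (U : Scheme.{u}) := IsOpenImmersion.lift U.ι (D.ι ≫ cq F ≫ cq K) (by
    rintro _ ⟨z, rfl⟩
    rw [Scheme.Opens.range_ι]
    exact hWU z.2)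
  let δ : (D : Scheme.{u}) ⟶ pullback U.ι (clf A f) :=
    pullback.lift a (D.ι ≫ s) (by rw [IsOpenImmersion.lift_fac, Category.assoc, hs])
  have hYW : Set.range (pullback.fst U.ι (clf A f) ≫ U.ι) ⊆ W := by
    rintro _ ⟨z, rfl⟩
    rw [← hu]
    exact (u z).2
  have HB : IsPullback δ D.ι (pullback.snd U.ι (clf A f)) s :=
    IsOpenImmersion.isPullback _ _ _ _ (pullback.lift_snd _ _ _).symm (by
      rw [← range_snd_slice U W _ hWU hYW, Scheme.Opens.opensRange_ι, ← Scheme.Hom.comp_preimage, hs,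
        Scheme.Hom.comp_preimage])
  haveI : IsClosedImmersion δ := MorphismProperty.of_isPullback HB.flip (inferInstanceAs (IsClosedImmersion s))
  haveI : Surjective δ := MorphismProperty.of_isPullback HB.flip (inferInstanceAs (Surjective s))
  haveI : IsClosedImmersion (cq K ∣_ W) :=
    MorphismProperty.of_isPullback (isPullback_morphismRestrict (cq K) W).flip inferInstance
  haveI : Surjective (cq K) := surjective_specMap _ Ideal.Quotient.mk_surjective fun P hP => by
    rw [Ideal.mk_ker]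
    exact hK P hP
  haveI : Surjective (cq K ∣_ W) :=
    MorphismProperty.of_isPullback (isPullback_morphismRestrict (cq K) W).flip inferInstance
  have hcomp : δ ≫ u = (cq F ∣_ WB) ≫ (cq K ∣_ W) := by
    rw [← cancel_mono W.ι, Category.assoc, Category.assoc, hu, morphismRestrict_ι, morphismRestrict_ι_assoc,
      pullback.lift_fst_assoc, IsOpenImmersion.lift_fac]
  refine fullyFaithful_of_comp δ u (isEquivalence_of_closed_surjective δ) ?_
  rw [hcomp]
  exact fullyFaithful_comp _ _ (isEquivalence_of_closed_surjective _) hff.1 hff.2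

end GrothLib.LocFAdic21
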