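import Groth.Agent.LocFAdic21.Killers
import Groth.Agent.Lib.CMBasics.Basic
import Groth.Agent.Lib.LC.BaseChange

/-!
# Killers in degrees at most two for a reduced piece
-/

set_option autoImplicit false
set_option linter.style.haveILetI false
set_option linter.unusedSectionVars false

universe u

open CategoryTheory

attribute [local instance] HasDerivedCategory.standard

noncomputable section

namespace GrothLib.LocFAdic21

variable {A : Type u} [CommRing A] [IsNoetherianRing A] [IsLocalRing A]

local notation "𝔪" => IsLocalRing.maximalIdeal A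

/-- The depth condition from the dimensions of the associated primes. -/
theorem depthAbove_of_associatedPrimes {f : A} (hf : f ∈ 𝔪) (M : Type u) [AddCommGroup M] [Module A M]
    [Module.Finite A M]
    (h : ∀ p ∈ associatedPrimes A M, f ∉ p → (3 : WithBot ℕ∞) ≤ ringKrullDim (A ⧸ p)) :
    DepthAbove f 2 M := by
  intro p hp hfp hne
  haveI := hp
  haveI : IsNoetherianRing (Localization.AtPrime p) := GrothLib.Depth.isNoetherian_atPrime p
  haveI : Module.Finite (Localization.AtPrime p) (LocalizedModule p.primeCompl M) :=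
    Module.Finite.of_isLocalizedModule p.primeCompl (LocalizedModule.mkLinearMap p.primeCompl M)
  rcases eq_or_ne (LocCoh.depth (Localization.AtPrime p) (LocalizedModule p.primeCompl M)) 0 with h0 | h0
  · have h1 := CMBasics.depth_eq_zero_iff.1 h0
    have h2 := Module.associatedPrimes.comap_mem_associatedPrimes_of_mem_associatedPrimes_of_isLocalizedModule_of_fg
      p.primeCompl (LocalizedModule.mkLinearMap p.primeCompl M) _ h1 (IsNoetherian.noetherian _)
    change Ideal.under A _ ∈ _ at h2
    rw [Localization.AtPrime.under_maximalIdeal] at h2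
    rw [h0, WithBot.coe_zero, zero_add]
    exact lt_of_lt_of_le (by norm_num) (h p h2 hfp)
  · refine lt_of_lt_of_le (b := ((1 : ℕ∞) : WithBot ℕ∞) + 2) ?_
      (add_le_add (WithBot.coe_le_coe.2 (Order.one_le_iff_ne_zero.2 h0)) (two_le_ringKrullDim_quot hf p hfp hne))
    rw [WithBot.coe_one]
    norm_num

/-- Killers pass to a quotient ring. -/
theorem kill_transfer (R' : Type u) [CommRing R'] [IsLocalRing R'] [IsNoetherianRing R'] [Algebra A R']
    (hsurj : Function.Surjective (algebraMap A R')) (i : ℕ) (a : A)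
    (hkill : ∀ x : LocCoh.H 𝔪 i R', a • x = 0) (x : LocCoh.H (IsLocalRing.maximalIdeal R') i R') :
    algebraMap A R' a • x = 0 := by
  have hm : Ideal.map (algebraMap A R') 𝔪 = IsLocalRing.maximalIdeal R' := by
    haveI := IsLocalHom.of_surjective _ hsurj
    refine le_antisymm (((IsLocalRing.local_hom_TFAE (algebraMap A R')).out 0 2).1 ‹_›) fun y hy => ?_
    obtain ⟨b, rfl⟩ := hsurj y
    exact Ideal.mem_map_of_mem _ ((IsLocalRing.mem_maximalIdeal b).2 fun hu =>
      (IsLocalRing.mem_maximalIdeal _).1 hy (hu.map _))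
  obtain ⟨φ, hφ⟩ := LC.exists_H_addEquiv_restrictScalars (R := A) (R' := R') 𝔪 i R'
  suffices hgen : ∀ y : LocCoh.H (Ideal.map (algebraMap A R') 𝔪) i R', algebraMap A R' a • y = 0 from by
    revert x; rw [← hm]; exact hgen
  intro y
  refine φ.injective ?_
  rw [hφ, map_zero]
  exact hkill (φ y)

/-- Killers for the union of the components outside the hypersurface. -/
theorem exists_killers_piece (hd : ∃ ω : Dual.D A, Dual.IsDualizing A ω) {f : A} (hf : f ∈ 𝔪) (I : Ideal A)
    (S : Finset (Ideal A)) (hI : I = S.inf id)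
    (hS : ∀ P ∈ S, P.IsPrime ∧ (f ∉ P → (3 : WithBot ℕ∞) ≤ ringKrullDim (A ⧸ P)))
    (R' : Type u) [CommRing R'] [IsLocalRing R'] [IsNoetherianRing R'] [Algebra A R']
    (hsurj : Function.Surjective (algebraMap A R')) (hker : ∀ a, algebraMap A R' a = 0 ↔ a ∈ I) :
    ∃ (c : ℕ) (𝔷 : Ideal R'), IsLocalRing.maximalIdeal R' ≤ (𝔷 ⊔ Ideal.span {algebraMap A R' f}).radical ∧
      ∀ i, i ≤ 2 → ∀ z ∈ 𝔷, ∀ x : LocCoh.H (IsLocalRing.maximalIdeal R') i R',
        (algebraMap A R' f ^ c * z) • x = 0 := by
  haveI : Module.Finite A R' := Module.Finite.of_surjective (Algebra.linearMap A R') hsurj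
  have hdep : DepthAbove f 2 R' := depthAbove_of_associatedPrimes hf R' fun p hp hfp => by
    obtain ⟨hpp, x, hx⟩ := isAssociatedPrime_iff.1 hp
    obtain ⟨a, rfl⟩ := hsurj x
    have hmem : ∀ r, r ∈ p ↔ r * a ∈ I := fun r => by
      rw [hx, Submodule.mem_colon_singleton, Submodule.mem_bot, ← hker, map_mul, Algebra.smul_def]
    have ha : a ∉ I := fun h => hpp.ne_top ((Ideal.eq_top_iff_one p).2 ((hmem 1).2 (by rwa [one_mul])))
    classical
    have hle : (S.filter (fun P => a ∉ P)).inf id ≤ p := fun r hr => (hmem r).2 (by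
      rw [hI, Submodule.mem_finsetInf]
      intro P hP
      by_cases haP : a ∈ P
      · exact Ideal.mul_mem_left _ _ haP
      · exact Ideal.mul_mem_right _ _ ((Submodule.mem_finsetInf.1 hr) P (Finset.mem_filter.2 ⟨hP, haP⟩)))
    obtain ⟨P, hP, hPp⟩ := (Ideal.IsPrime.inf_le' hpp).1 hle
    rw [Finset.mem_filter] at hP
    have heq : p = P := le_antisymm (fun r hr => ((hS P hP.1).1.mem_or_mem
      ((Finset.inf_le (f := id) hP.1) (hI ▸ (hmem r).1 hr))).resolve_right hP.2) hPp
    subst heq
    exact (hS p hP.1).2 hfp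
  obtain ⟨c, 𝔷, hrad, hkill⟩ := exists_killers hd hf 2 R' hdep
  refine ⟨c, 𝔷.map (algebraMap A R'), ?_, fun i hi z hz x => ?_⟩
  · rw [Ideal.radical_eq_sInf]
    refine le_sInf fun q ⟨hq, hqp⟩ => ?_
    haveI := hqp
    have h1 : 𝔪 ≤ q.comap (algebraMap A R') := hrad.trans ((Ideal.IsPrime.radical_le_iff inferInstance).2
      (sup_le (Ideal.map_le_iff_le_comap.1 (le_sup_left.trans hq))
        ((Ideal.span_singleton_le_iff_mem _).2 (le_sup_right.trans hq (Ideal.mem_span_singleton_self _)))))
    intro y hy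
    obtain ⟨b, rfl⟩ := hsurj y
    exact h1 ((IsLocalRing.mem_maximalIdeal b).2 fun hu => (IsLocalRing.mem_maximalIdeal _).1 hy (hu.map _))
  · obtain ⟨z₀, hz₀, rfl⟩ := (Ideal.mem_map_iff_of_surjective _ hsurj).1 hz
    rw [← map_pow, ← map_mul]
    exact kill_transfer R' hsurj i _ (fun w => hkill i hi z₀ hz₀ w) x

end GrothLib.LocFAdic21
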