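import Groth.Agent.LocFAdic21.Kill
import Groth.Agent.Lib.GenT7.LocFreeFinite
import Groth.Agent.Lib.Punctured.CoherentCohom

/-!
# Scaled cohomology of levels locally free over `A / J` is finite
-/

set_option autoImplicit false
set_option linter.style.haveILetI false
set_option linter.unusedSectionVars false

universe u

open CategoryTheory CategoryTheory.Limits AlgebraicGeometry Opposite TopologicalSpace

noncomputable section

namespace GrothLib.LocFAdic21

open GrothLib.GenT7 GrothLib.FormalSys GrothLib.Cohom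
open GrothLib.Punctured (puncFun)

variable {A : Type u} [CommRing A] [IsNoetherianRing A]

/-- A module model, locally a retract of a power of `A / J`. -/
theorem exists_retr_model (I J : Ideal A) (P : (LocCoh.puncturedOpen A I : Scheme.{u}).Modules) (hP : Coh.IsCoh P)
    (hPJ : ∀ a ∈ J, Formal.smulMod A P a = 0) (hfree : StalkFree J 1 P) :
    ∃ (N : ModuleCat.{u} (CommRingCat.of A)), Module.Finite A N ∧ (∀ a ∈ J, ∀ n : N, a • n = 0) ∧
      Nonempty ((puncFun I).obj N ≅ P) ∧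
      ∃ (j b : ℕ) (φ : N →ₗ[A] (Fin b → A ⧸ J)), ∀ s ∈ I ^ j, Retr (A ⧸ J) φ s := by
  classical
  obtain ⟨N₀, hN₀, ⟨e₀⟩⟩ := Punctured.exists_finite_puncFun_iso I P hP
  haveI : Module.Finite A N₀ := hN₀
  haveI : Module.Finite (CommRingCat.of A) N₀ := hN₀
  have hkill0 : ∀ a ∈ J, Formal.smulMod A ((puncFun I).obj N₀) a = 0 := fun a ha => by
    rw [← cancel_mono e₀.hom, FormalSys.smulMod_naturality, hPJ a ha, comp_zero, zero_comp]
  let Q : Submodule A N₀ := J • ⊤
  obtain ⟨G, hG⟩ : Q.FG := IsNoetherian.noetherian _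
  obtain ⟨k, hk⟩ := exists_pow_le_of_forall I (Submodule.annihilator Q) fun x => by
      obtain ⟨θ, hθs, -, hθker⟩ := exists_stalk_map I N₀ x
      have hz' : ∀ g ∈ G, ∃ s ∈ x.1.asIdeal.primeCompl, s • g = 0 := fun g hg => by
        refine hθker g ?_
        have hgQ : g ∈ Q := hG ▸ Submodule.subset_span hg
        refine Submodule.smul_induction_on hgQ (fun a ha n _ => ?_) fun a b ha hb => by rw [map_add, ha, hb, add_zero]
        rw [hθs, ← FormalFun.stalkLin_smulMod, hkill0 a ha, FormalFun.stalkLin_zero]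
      choose! t ht htg using hz'
      refine ⟨∏ g ∈ G, t g, Submonoid.prod_mem _ ht, ?_⟩
      rw [Submodule.mem_annihilator, ← hG]
      intro y hy
      induction hy using Submodule.span_induction with
      | mem g hg =>
        rw [show (∏ j ∈ G, t j) = (∏ j ∈ G.erase g, t j) * t g from (Finset.prod_erase_mul _ t hg).symm,
          mul_smul, htg g hg, smul_zero]
      | zero => exact smul_zero _
      | add a b _ _ ha hb => rw [smul_add, ha, hb, add_zero]
      | smul a y _ hy => rw [smul_comm, hy, smul_zero]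
  obtain ⟨e₁⟩ := nonempty_puncFun_iso_of_surjective I Q.mkQ Q.mkQ_surjective k
    fun n hn r hr => Submodule.mem_annihilator.1 (hk hr) n ((Submodule.Quotient.mk_eq_zero _).1 hn)
  let e : (puncFun I).obj (ModuleCat.of (CommRingCat.of A) (N₀ ⧸ Q)) ≅ P := e₁.symm ≪≫ e₀
  have hNf : ∀ a ∈ J, ∀ n : N₀ ⧸ Q, a • n = 0 := fun a ha n => by
    obtain ⟨n, rfl⟩ := Q.mkQ_surjective n
    rw [← map_smul]
    exact (Submodule.Quotient.mk_eq_zero _).2 (Submodule.smul_mem_smul ha trivial)
  let T : Set A := {s | ∃ (b : ℕ) (φ : (N₀ ⧸ Q) →ₗ[A] (Fin b → A ⧸ J)), Retr _ φ s}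
  obtain ⟨j, hj⟩ := exists_pow_le_of_forall I (Ideal.span T) fun x => by
    obtain ⟨r, ⟨L⟩⟩ := hfree x
    obtain ⟨s, hs, m, φ, ρ, hρ⟩ := exists_retract_at' I J (ModuleCat.of (CommRingCat.of A) (N₀ ⧸ Q)) hNf x r
      ((AssPts.stalkEquiv e x).trans L)
    exact ⟨s, hs, Ideal.subset_span ⟨m, φ, ρ, hρ⟩⟩
  obtain ⟨F, hFT, hF⟩ := (Submodule.fg_span_iff_fg_span_finset_subset T).1 (IsNoetherian.noetherian (Ideal.span T))
  obtain ⟨b, φ, hφ⟩ := exists_retr_span (A := A) (A ⧸ J)
    (fun i : (F : Set A) => (i : A)) (ι := (F : Set A)) (fun i => hFT i.2)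
  refine ⟨ModuleCat.of (CommRingCat.of A) (N₀ ⧸ Q), inferInstanceAs (Module.Finite A (N₀ ⧸ Q)), hNf, ⟨e⟩, j, b, φ,
    fun s hs => hφ s (by
      rw [Subtype.range_coe]
      show s ∈ Submodule.span A (F : Set A)
      rw [← hF]
      exact hj hs)⟩

/-- The cohomology of a module killed by `a` is killed by `a`. -/
theorem kill_of_module_kill (I : Ideal A) {N : Type u} [AddCommGroup N] [Module A N] (i : ℕ) (a : A)
    (h : ∀ n : N, a • n = 0) (x : LocCoh.H I i N) : a • x = 0 := by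
  have h0 : a • 𝟙 (ModuleCat.of A N) = 0 := ModuleCat.hom_ext (LinearMap.ext fun n => h n)
  refine (map_smul_id_apply I (M := ModuleCat.of A N) a i x).symm.trans ?_
  rw [h0, map_zero_apply]

theorem finite_range_smul_of_equiv {X Y : Type u} [AddCommGroup X] [Module A X] [AddCommGroup Y] [Module A Y]
    (e : X ≃ₗ[A] Y) (r : A) (h : Module.Finite A (LinearMap.range (r • (LinearMap.id : Y →ₗ[A] Y)))) :
    Module.Finite A (LinearMap.range (r • (LinearMap.id : X →ₗ[A] X))) := by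
  haveI := h
  refine Module.Finite.of_injective (LinearMap.codRestrict (LinearMap.range (r • (LinearMap.id : Y →ₗ[A] Y)))
    (e.toLinearMap.comp (LinearMap.range (r • (LinearMap.id : X →ₗ[A] X))).subtype) ?_) ?_
  · rintro ⟨_, x, rfl⟩
    exact ⟨e x, (map_smul e r x).symm⟩
  · exact fun a b hab => Subtype.ext (e.injective (congrArg Subtype.val hab))

theorem finite_range_smul_of_submodule {M : Type u} [AddCommGroup M] [Module A M] (N : Submodule A M)
    [Module.Finite A N] (r : A) (h : Module.Finite A (LinearMap.range (r • (LinearMap.id : (M ⧸ N) →ₗ[A] (M ⧸ N))))) :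
    Module.Finite A (LinearMap.range (r • (LinearMap.id : M →ₗ[A] M))) := by
  haveI := h
  rw [Module.Finite.iff_fg]
  refine Submodule.fg_of_fg_map_of_fg_inf_ker N.mkQ ?_ ?_
  · rw [show (LinearMap.range (r • (LinearMap.id : M →ₗ[A] M))).map N.mkQ =
      LinearMap.range (r • (LinearMap.id : (M ⧸ N) →ₗ[A] (M ⧸ N))) from ?_]
    · exact Module.Finite.iff_fg.1 h
    · rw [← LinearMap.range_comp, ← LinearMap.range_comp_of_range_eq_top (r • (LinearMap.id : (M ⧸ N) →ₗ[A] (M ⧸ N)))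
        N.range_mkQ]
      rfl
  · rw [Submodule.ker_mkQ]
    haveI : IsNoetherian A N := inferInstance
    have h1 : (Submodule.comap N.subtype (LinearMap.range (r • (LinearMap.id : M →ₗ[A] M)))).FG :=
      IsNoetherian.noetherian _
    have h2 := h1.map N.subtype
    rwa [Submodule.map_comap_subtype, inf_comm] at h2

variable [IsLocalRing A]

local notation "𝔪" => IsLocalRing.maximalIdeal A

/-- Scaled `H⁰` and `H¹` of a level are finite. -/
theorem finite_range_smul_hh (J : Ideal A) (P : (LocCoh.puncturedOpen A 𝔪 : Scheme.{u}).Modules)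
    (hP : Coh.IsCoh P) (hPJ : ∀ a ∈ J, Formal.smulMod A P a = 0) (hfree : StalkFree J 1 P) (r : A) (S : Ideal A)
    (hS : 𝔪 ≤ (S ⊔ J).radical)
    (hkill : ∀ i, 1 ≤ i → i ≤ 2 → ∀ s ∈ S, ∀ y : LocCoh.H 𝔪 i (A ⧸ J), (s * r) • y = 0) :
    ∀ p, p ≤ 1 → Module.Finite A (LinearMap.range (r • (LinearMap.id :
      Coh.HH (LocCoh.puncturedOpen A 𝔪 : Scheme.{u}) P p →ₗ[A] _))) := by
  obtain ⟨N, hNfin, hNJ, ⟨e⟩, j, b, φ, hφ⟩ := exists_retr_model 𝔪 J P hP hPJ hfree
  haveI := hNfin
  have hfin : ∀ i, 1 ≤ i → i ≤ 2 →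
      Module.Finite A (LinearMap.range (r • (LinearMap.id : LocCoh.H 𝔪 i N →ₗ[A] LocCoh.H 𝔪 i N))) := by
    intro i h1 h2
    haveI : IsArtinian A (LocCoh.H 𝔪 i N) := LC.isArtinian_H_maximal i N
    refine finite_range_smul r (S := S * 𝔪 ^ j ⊔ J) ?_ fun s hs x => ?_
    · rw [Ideal.radical_eq_sInf]
      refine le_sInf fun q ⟨hq, hqp⟩ => ?_
      rcases hqp.mul_le.1 (le_sup_left.trans hq) with hSq | hmq
      · exact hS.trans (hqp.radical_le_iff.2 (sup_le hSq (le_sup_right.trans hq)))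
      · exact hqp.le_of_pow_le hmq
    · obtain ⟨u, hu, v, hv, rfl⟩ := Submodule.mem_sup.1 hs
      rw [add_mul, add_smul, mul_smul v r, kill_of_module_kill 𝔪 i v (hNJ v hv), add_zero]
      refine Submodule.mul_induction_on hu (fun a ha g hg => ?_) fun a a' ha ha' => by
        rw [add_mul, add_smul, ha, ha', add_zero]
      obtain ⟨ρ, hρ⟩ := hφ g hg
      rw [show a * g * r = (a * r) * g by ring]
      exact kill_retract 𝔪 φ ρ g hρ i (a * r) (fun y => hkill i h1 h2 a ha y) x
  intro p hp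
  interval_cases p
  · obtain ⟨Sq, hSq, hX, hE⟩ := Punctured.exists_mono_injective' N
    obtain ⟨c⟩ := Punctured.nonempty_coker_equiv 𝔪 hSq hE
    rw [hX] at c
    have h0 : Module.Finite A (LinearMap.range (r • (LinearMap.id :
        Formal2Sec7.Sc 𝔪 N →ₗ[A] Formal2Sec7.Sc 𝔪 N))) := by
      haveI : Module.Finite A (LinearMap.range (Formal2Sec7.j 𝔪 N)) :=
        Module.Finite.iff_fg.2 (by rw [LinearMap.range_eq_map]; exact (Module.Finite.fg_top (R := A) (M := N)).map _)
      exact finite_range_smul_of_submodule _ r (finite_range_smul_of_equiv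
        (show (Formal2Sec7.Sc 𝔪 N ⧸ LinearMap.range (Formal2Sec7.j 𝔪 N)) ≃ₗ[A] LocCoh.H 𝔪 1 N from c) r
        (hfin 1 le_rfl (by norm_num)))
    exact finite_range_smul_of_equiv ((Punctured.hhEquiv (A := A) e 0).symm.trans (Punctured.H0Sec 𝔪 N)) r h0
  · obtain ⟨q⟩ := Punctured.nonempty_HH_equiv_of_iso 𝔪 P N e 0
    exact finite_range_smul_of_equiv (show Coh.HH (LocCoh.puncturedOpen A 𝔪 : Scheme.{u}) P 1 ≃ₗ[A]
      LocCoh.H 𝔪 2 N from q) r (hfin 2 (by norm_num) le_rfl)

end GrothLib.LocFAdic21
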