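import Groth.Agent.LocFAdic21.GlueFF
import Groth.Agent.LocFAdic21.KillFF

/-!
# A neighbourhood with fully faithful restriction to the punctured hypersurface
-/

set_option autoImplicit false
set_option linter.style.haveILetI false

universe u

open CategoryTheory CategoryTheory.Limits AlgebraicGeometry TopologicalSpace

attribute [local instance] HasDerivedCategory.standard

noncomputable section

namespace GrothLib.LocFAdic21

variable {A : Type u} [CommRing A] [IsNoetherianRing A] [IsLocalRing A]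

local notation "𝔪" => IsLocalRing.maximalIdeal A

/-- The neighbourhood built from the piece outside the hypersurface. -/
theorem exists_nhd_of_piece (hd : ∃ ω : Dual.D A, Dual.IsDualizing A ω) {f : A} (hf : f ∈ 𝔪)
    [IsAdicComplete (Ideal.span ({f} : Set A)) A] (S : Finset (Ideal A)) (hne : S.Nonempty)
    (hS : ∀ P ∈ S, P.IsPrime ∧ f ∉ P ∧ (3 : WithBot ℕ∞) ≤ ringKrullDim (A ⧸ P))
    (hK : ∀ P : Ideal A, P.IsPrime → S.inf id ⊓ Ideal.span {f} ≤ P) :
    ∃ V : (Spec (CommRingCat.of A)).Opens,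
      Set.range (pullback.fst (FEt.puncturedSpec A).ι (clf A f) ≫ (FEt.puncturedSpec A).ι) ⊆ V ∧
      ∀ (W : (Spec (CommRingCat.of A)).Opens), W ≤ V → W ≤ FEt.puncturedSpec A →
        ∀ (u : pullback (FEt.puncturedSpec A).ι (clf A f) ⟶ (W : Scheme.{u})),
          u ≫ W.ι = pullback.fst (FEt.puncturedSpec A).ι (clf A f) ≫ (FEt.puncturedSpec A).ι →
          (FEt.restrict u).Full ∧ (FEt.restrict u).Faithful := by
  let I := S.inf id
  let K := I ⊓ Ideal.span {f}
  have hIm : I ≤ 𝔪 := by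
    obtain ⟨P, hP⟩ := hne
    exact (Finset.inf_le (f := id) hP).trans (IsLocalRing.le_maximalIdeal (hS P hP).1.ne_top)
  have hKm : K ≤ 𝔪 := inf_le_left.trans hIm
  haveI : Nontrivial (A ⧸ K) := Ideal.Quotient.nontrivial_iff.2 fun h =>
    (IsLocalRing.maximalIdeal.isMaximal A).ne_top (top_le_iff.1 (h ▸ hKm))
  haveI : IsLocalRing (A ⧸ K) := IsLocalRing.of_surjective' _ Ideal.Quotient.mk_surjective
  let N : Ideal (A ⧸ K) := I.map (Ideal.Quotient.mk K)
  have hNI : ∀ a : A, Ideal.Quotient.mk K a ∈ N ↔ a ∈ I := fun a => by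
    rw [Ideal.mem_map_iff_of_surjective _ Ideal.Quotient.mk_surjective]
    refine ⟨fun ⟨b, hb, he⟩ => ?_, fun h => ⟨a, h, rfl⟩⟩
    have h1 : b - a ∈ I := (inf_le_left : K ≤ I) (Ideal.Quotient.eq.1 he)
    have h2 := sub_mem hb h1
    rwa [sub_sub_cancel] at h2
  let g : A ⧸ K := Ideal.Quotient.mk K f
  have hN : N ⊓ Ideal.span {g} = ⊥ := by
    rw [eq_bot_iff]
    rintro x ⟨hx, hx'⟩
    obtain ⟨a, rfl⟩ := Ideal.Quotient.mk_surjective x
    obtain ⟨d, hd'⟩ := Ideal.mem_span_singleton'.1 hx'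
    obtain ⟨d, rfl⟩ := Ideal.Quotient.mk_surjective d
    rw [← map_mul] at hd'
    have h1 : a ∈ Ideal.span {f} := by
      rw [show a = d * f - (d * f - a) by ring]
      exact sub_mem (Ideal.mul_mem_left _ _ (Ideal.mem_span_singleton_self f))
        ((inf_le_right : K ≤ _) (Ideal.Quotient.eq.1 hd'))
    rw [Ideal.mem_bot, Ideal.Quotient.eq_zero_iff_mem]
    exact ⟨(hNI a).1 hx, h1⟩
  haveI : Nontrivial ((A ⧸ K) ⧸ N) := Ideal.Quotient.nontrivial_iff.2 fun h => by
    have h1 := (hNI 1).1 (h ▸ Submodule.mem_top)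
    exact (IsLocalRing.maximalIdeal.isMaximal A).ne_top ((Ideal.eq_top_iff_one _).2 (hIm h1))
  haveI : IsLocalRing ((A ⧸ K) ⧸ N) := IsLocalRing.of_surjective' _ Ideal.Quotient.mk_surjective
  let R' := (A ⧸ K) ⧸ N
  have hsurj : Function.Surjective (algebraMap A R') := fun x => by
    obtain ⟨y, rfl⟩ := Ideal.Quotient.mk_surjective x
    obtain ⟨a, rfl⟩ := Ideal.Quotient.mk_surjective y
    exact ⟨a, rfl⟩
  have hker : ∀ a : A, algebraMap A R' a = 0 ↔ a ∈ I := fun a =>
    (Ideal.Quotient.eq_zero_iff_mem).trans (hNI a)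
  let f₁ : R' := Ideal.Quotient.mk N g
  haveI : IsAdicComplete (Ideal.span ({f₁} : Set R')) R' := by
    haveI : Module.Finite A R' := Module.Finite.of_surjective (Algebra.linearMap A R') hsurj
    haveI := AdicLim.isAdicComplete_of_finite (Ideal.span ({f} : Set A)) R'
    have h : (Ideal.span ({f} : Set A)).map (algebraMap A R') = Ideal.span ({f₁} : Set R') := by
      rw [Ideal.map_span, Set.image_singleton]
      rfl
    rw [← h]
    exact (IsAdicComplete.map_algebraMap_iff (S := R') _ _).2 inferInstance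
  obtain ⟨c, 𝔷, hrad, hkill⟩ := exists_killers_piece hd hf I S rfl
    (fun P hP => ⟨(hS P hP).1, fun _ => (hS P hP).2.2⟩) R' hsurj hker
  have hnz : f₁ ∈ nonZeroDivisors R' := by
    rw [mem_nonZeroDivisors_iff_right]
    intro x hx
    obtain ⟨a, rfl⟩ := hsurj x
    have h1 : a * f ∈ I := (hker _).1 ((map_mul (algebraMap A R') a f).trans hx)
    exact (hker a).2 (Submodule.mem_finsetInf.2 fun P hP =>
      ((hS P hP).1.mem_or_mem ((Finset.inf_le (f := id) hP) h1)).resolve_right (hS P hP).2.1)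
  obtain ⟨V₁, -, hY₁, hV₁⟩ := exists_small_nhd' (A := R') (f := f₁) hnz hrad (fun i _ => hkill i)
  let U := FEt.puncturedSpec A
  let q := cq N ≫ cq K
  haveI : IsClosedImmersion q := inferInstanceAs (IsClosedImmersion (cq N ≫ cq K))
  let V : (Spec (CommRingCat.of A)).Opens :=
    ⟨(q '' (V₁ : Set (Spec (CommRingCat.of R')))ᶜ)ᶜ,
      (q.isClosedEmbedding.isClosedMap _ V₁.2.isClosed_compl).isOpen_compl⟩
  have hpreK : cq K ⁻¹ᵁ U = FEt.puncturedSpec (A ⧸ K) := preimage_puncturedSpec K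
  have hpreN : cq N ⁻¹ᵁ FEt.puncturedSpec (A ⧸ K) = FEt.puncturedSpec R' := preimage_puncturedSpec N
  refine ⟨V, ?_, fun W hWV hWU u hu => fullyFaithful_of_reduction K inf_le_right hK W hWU u hu ?_⟩
  · intro x hx
    rw [range_slice] at hx
    rintro ⟨w, hw, rfl⟩
    refine hw (hY₁ ?_)
    rw [range_slice]
    exact ⟨hpreN.le (show cq N w ∈ FEt.puncturedSpec (A ⧸ K) from hpreK.le hx.1),
      fun y hy => by rw [Set.mem_singleton_iff.1 hy]; exact hx.2 (Set.mem_singleton f)⟩
  · refine fullyFaithful_glue N g hN V₁ hV₁ (cq K ⁻¹ᵁ W) ((Scheme.Hom.preimage_mono _ hWU).trans hpreK.le)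
      (fun w hw => by_contra fun hn => hWV hw ⟨w, hn, rfl⟩) ?_
    rintro z ⟨hz, hz'⟩
    have hzY : cq K z ∈ Set.range (pullback.fst U.ι (clf A f) ≫ U.ι) := by
      rw [range_slice]
      exact ⟨hpreK.ge hz, fun y hy => by rw [Set.mem_singleton_iff.1 hy]; exact hz' (Set.mem_singleton g)⟩
    obtain ⟨y, hy⟩ := hzY
    show cq K z ∈ W
    rw [← hy, ← hu]
    exact (u y).2

/-- A neighbourhood with fully faithful restriction when the components have dimension at least three. -/
theorem exists_nhd_fullyFaithful (hd : ∃ ω : Dual.D A, Dual.IsDualizing A ω) {f : A} (hf : f ∈ 𝔪)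
    [IsAdicComplete (Ideal.span ({f} : Set A)) A]
    (hc : ∀ p : Ideal A, p ∈ minimalPrimes A → f ∉ p → (3 : WithBot ℕ∞) ≤ ringKrullDim (A ⧸ p)) :
    ∃ V : (Spec (CommRingCat.of A)).Opens,
      Set.range (pullback.fst (FEt.puncturedSpec A).ι (clf A f) ≫ (FEt.puncturedSpec A).ι) ⊆ V ∧
      ∀ (W : (Spec (CommRingCat.of A)).Opens), W ≤ V → W ≤ FEt.puncturedSpec A →
        ∀ (u : pullback (FEt.puncturedSpec A).ι (clf A f) ⟶ (W : Scheme.{u})),
          u ≫ W.ι = pullback.fst (FEt.puncturedSpec A).ι (clf A f) ≫ (FEt.puncturedSpec A).ι →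
          (FEt.restrict u).Full ∧ (FEt.restrict u).Faithful := by
  let U := FEt.puncturedSpec A
  haveI : IsClosedImmersion (clf A f) := IsClosedImmersion.spec_of_surjective _ Ideal.Quotient.mk_surjective
  have hfin : {P ∈ minimalPrimes A | f ∉ P}.Finite :=
    (Ideal.finite_minimalPrimes_of_isNoetherianRing A ⊥).subset fun P hP => hP.1
  by_cases hne : hfin.toFinset.Nonempty
  · refine exists_nhd_of_piece hd hf hfin.toFinset hne (fun P hP => ?_) fun P hP => ?_
    · rw [Set.Finite.mem_toFinset] at hP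
      exact ⟨hP.1.1.1, hP.2, hc P hP.1 hP.2⟩
    · obtain ⟨Q, hQ, hQP⟩ := Ideal.exists_minimalPrimes_le (bot_le : (⊥ : Ideal A) ≤ P)
      refine le_trans ?_ hQP
      by_cases hfQ : f ∈ Q
      · exact inf_le_right.trans ((Ideal.span_singleton_le_iff_mem _).2 hfQ)
      · exact inf_le_left.trans (Finset.inf_le (f := id) (hfin.mem_toFinset.2 ⟨hQ, hfQ⟩))
  · have hfP : ∀ P : Ideal A, P.IsPrime → f ∈ P := fun P hP => by
      obtain ⟨Q, hQ, hQP⟩ := Ideal.exists_minimalPrimes_le (bot_le : (⊥ : Ideal A) ≤ P)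
      exact hQP (by_contra fun h => hne ⟨Q, hfin.mem_toFinset.2 ⟨hQ, h⟩⟩)
    refine ⟨⊤, fun _ _ => trivial, fun W _ hWU u hu => ?_⟩
    haveI : Surjective (clf A f) := surjective_specMap _ Ideal.Quotient.mk_surjective fun P hP => by
      rw [Ideal.mk_ker, Ideal.span_le, Set.singleton_subset_iff]
      exact hfP P hP
    haveI : IsClosedImmersion (pullback.fst U.ι (clf A f)) := inferInstance
    haveI : Surjective (pullback.fst U.ι (clf A f)) := inferInstance
    have hw : u ≫ (Spec (CommRingCat.of A)).homOfLE hWU = pullback.fst U.ι (clf A f) := by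
      rw [← cancel_mono U.ι, Category.assoc, Scheme.homOfLE_ι, hu]
    haveI : IsClosedImmersion (u ≫ (Spec (CommRingCat.of A)).homOfLE hWU) := by rw [hw]; infer_instance
    haveI : IsClosedImmersion u := IsClosedImmersion.of_comp u ((Spec (CommRingCat.of A)).homOfLE hWU)
    haveI : Surjective u := ⟨fun y => by
      obtain ⟨z, hz⟩ := (pullback.fst U.ι (clf A f)).surjective ((Spec (CommRingCat.of A)).homOfLE hWU y)
      rw [← hw] at hz
      exact ⟨z, ((Spec (CommRingCat.of A)).homOfLE hWU).isOpenEmbedding.injective hz⟩⟩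
    haveI := isEquivalence_of_closed_surjective u
    exact ⟨inferInstance, inferInstance⟩

end GrothLib.LocFAdic21
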