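import Groth.Agent.LocFAdic21.KillConv

/-!
# Powers killing local cohomology from depth conditions
-/

set_option autoImplicit false
set_option linter.style.haveILetI false
set_option linter.unusedSectionVars false

universe u

open CategoryTheory PrimeSpectrum GrothLib.DualRing

attribute [local instance] HasDerivedCategory.standard

noncomputable section

namespace GrothLib.LocFAdic21

variable {A : Type u} [CommRing A] [IsNoetherianRing A] [IsLocalRing A]

local notation "𝔪" => IsLocalRing.maximalIdeal A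

/-- A prime off an element of the maximal ideal has positive dimension. -/
theorem one_le_ringKrullDim_quot {f : A} (hf : f ∈ 𝔪) (p : Ideal A) [p.IsPrime] (hfp : f ∉ p) :
    (1 : WithBot ℕ∞) ≤ ringKrullDim (A ⧸ p) := by
  let P : PrimeSpectrum A := ⟨p, ‹_›⟩
  have h1 : P < IsLocalRing.closedPoint A := lt_of_le_of_ne (IsLocalRing.le_maximalIdeal (Ideal.IsPrime.ne_top ‹_›))
    fun h => hfp (by rw [show p = 𝔪 from congrArg PrimeSpectrum.asIdeal h]; exact hf)
  rw [← krullDim_Icc_closed P]
  let l : LTSeries (Set.Icc P (IsLocalRing.closedPoint A)) :=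
    LTSeries.mk 1 ![⟨P, le_rfl, h1.le⟩, ⟨IsLocalRing.closedPoint A, h1.le, le_rfl⟩]
      (Fin.strictMono_iff_lt_succ.2 fun i => by fin_cases i; exact h1)
  exact Order.LTSeries.length_le_krullDim l

/-- The depth condition in degree two from `(S_2)`. -/
theorem depth_of_hasSk_three (hd : ∃ ω : Dual.D A, Dual.IsDualizing A ω) {f : A} (hf : f ∈ 𝔪)
    (hS : LocCoh.HasSk 2 (Localization.Away f) (Localization.Away f))
    (hdim : ∀ p : Ideal A, p ∈ minimalPrimes A → f ∉ p → (3 : WithBot ℕ∞) ≤ ringKrullDim (A ⧸ p))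
    (p : Ideal A) (hp : p.IsPrime) (hfp : f ∉ p) :
    (2 : WithBot ℕ∞) < ((LocCoh.depth (Localization.AtPrime p) (Localization.AtPrime p) : ℕ∞) : WithBot ℕ∞) +
      ringKrullDim (A ⧸ p) := by
  obtain ⟨ω, hω⟩ := hd
  haveI := hp
  let L := Localization.Away f
  let P : Ideal L := p.map (algebraMap A L)
  have hdisj : Disjoint (Submonoid.powers f : Set A) p := Set.disjoint_left.2 fun a ⟨n, hn⟩ ha => by
    refine hfp (hp.mem_of_pow_mem n ?_)
    have hn' : f ^ n = a := hn
    rw [hn']; exact ha
  haveI hPp : P.IsPrime := IsLocalization.isPrime_of_isPrime_disjoint _ L _ hp hdisj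
  have hPc : P.comap (algebraMap A L) = p := IsLocalization.comap_map_of_isPrime_disjoint _ L hp hdisj
  haveI : IsLocalization.AtPrime (Localization.AtPrime P) p := by
    have h := IsLocalization.isLocalization_isLocalization_atPrime_isLocalization
      (Submonoid.powers f) (Localization.AtPrime P) P
    simp only [hPc] at h
    exact h
  have h1 := hS P
  rw [FiniteQuot.supportDim_localizedModule_self, ← WithBot.coe_natCast, ← WithBot.coe_min, WithBot.coe_le_coe,
    FiniteQuot.depth_localizedModule_self P (Localization.AtPrime P),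
    ← HartogsQC.depth_eq_of_ringEquiv (IsLocalization.algEquiv p.primeCompl (Localization.AtPrime p)
      (Localization.AtPrime P)).toRingEquiv] at h1
  have hht : P.height = p.height := by
    rw [← IsLocalization.height_under (Submonoid.powers f) P]
    exact congrArg Ideal.height hPc
  rw [hht] at h1
  obtain ⟨Q, hQ, hQp⟩ := Ideal.exists_minimalPrimes_le (bot_le : (⊥ : Ideal A) ≤ p)
  haveI := hQ.1.1
  let pQ : PrimeSpectrum A := ⟨Q, hQ.1.1⟩
  let pp : PrimeSpectrum A := ⟨p, hp⟩
  let mm := IsLocalRing.closedPoint A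
  have hQp' : pQ ≤ pp := hQp
  have hpm : pp ≤ mm := IsLocalRing.le_maximalIdeal hp.ne_top
  have e1 := hdim Q hQ fun h => hfp (hQp h)
  rw [← krullDim_Icc_closed pQ, FaltingsT3.krullDim_Icc hω (hQp'.trans hpm)] at e1
  have e2 := one_le_ringKrullDim_quot hf p hfp
  rw [← krullDim_Icc_closed pp, FaltingsT3.krullDim_Icc hω hpm] at e2 ⊢
  have e3 : Order.krullDim (Set.Icc pQ pp) ≤ ((p.height : ℕ∞) : WithBot ℕ∞) := by
    rw [show p.height = Order.height pp from PrimeSpectrum.height_eq_orderHeight pp, Order.height_eq_krullDim_Iic]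
    exact Order.krullDim_le_of_strictMono (fun x => (⟨x.1, x.2.2⟩ : Set.Iic pp)) fun _ _ h => h
  rw [FaltingsT3.krullDim_Icc hω hQp', ← WithBot.coe_natCast, WithBot.coe_le_coe] at e3
  have m1 := (degS_strictMono hω).monotone hQp'
  have m2 := (degS_strictMono hω).monotone hpm
  simp only [degS] at m1 m2
  revert h1 e1 e2 e3 m1 m2
  simp only [pQ, pp, mm]
  generalize LocCoh.depth (Localization.AtPrime p) (Localization.AtPrime p) = d
  generalize p.height = h
  generalize deg hω Q = a
  generalize deg hω p = b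
  generalize deg hω (IsLocalRing.closedPoint A).asIdeal = e
  intro h1 e1 e2 e3 m1 m2
  induction d with
  | top => exact WithBot.coe_lt_coe.2 (lt_of_lt_of_le (ENat.coe_lt_top 2) le_self_add)
  | coe d =>
    induction h with
    | top =>
      norm_cast at *
      simp at h1
      exact_mod_cast (show 2 < d + (e - b).toNat by omega)
    | coe h =>
      norm_cast at *
      have h1' : 2 ≤ d ∨ h ≤ d := by
        rcases min_le_iff.1 h1 with h4 | h4
        · exact Or.inl (by exact_mod_cast h4)
        · exact Or.inr (by exact_mod_cast h4)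
      exact_mod_cast (show 2 < d + (e - b).toNat by omega)

/-- A power kills local cohomology in degrees at most two. -/
theorem exists_pow_kill_of_depth (hd : ∃ ω : Dual.D A, Dual.IsDualizing A ω) {f : A} (hf : f ∈ 𝔪)
    (hc : ((LocCoh.HasSk 2 (Localization.Away f) (Localization.Away f) ∧
        ∀ p : Ideal A, p ∈ minimalPrimes A → f ∉ p → (3 : WithBot ℕ∞) ≤ ringKrullDim (A ⧸ p)) ∨
      (∀ p : Ideal A, ∀ _ : p.IsPrime, f ∉ p →
        (2 : WithBot ℕ∞) < (LocCoh.depth (Localization.AtPrime p) (Localization.AtPrime p) : WithBot ℕ∞) + ringKrullDim (A ⧸ p))))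
    (i : ℕ) (hi : i ≤ 2) : ∃ n : ℕ, ∀ x : LocCoh.H 𝔪 i A, f ^ n • x = 0 := by
  let T : Set (PrimeSpectrum A) := {IsLocalRing.closedPoint A}
  let T' : Set (PrimeSpectrum A) := {p | f ∈ p.asIdeal}
  have hT : StableUnderSpecialization T := fun x y hxy hx => by
    have hle : x ≤ y := (PrimeSpectrum.le_iff_specializes x y).2 hxy
    refine Set.mem_singleton_iff.2 (le_antisymm (IsLocalRing.le_maximalIdeal y.isPrime.ne_top) ?_)
    exact (Set.mem_singleton_iff.1 hx).ge.trans hle
  have hT' : StableUnderSpecialization T' := fun x y hxy hx =>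
    (show x.asIdeal ≤ y.asIdeal from (PrimeSpectrum.le_iff_specializes x y).2 hxy) hx
  have hTT' : T ⊆ T' := fun x hx => by
    show f ∈ x.asIdeal
    rw [Set.mem_singleton_iff.1 hx]; exact hf
  have hTm : T = zeroLocus (𝔪 : Set A) := by
    ext y
    rw [Set.mem_singleton_iff, PrimeSpectrum.mem_zeroLocus]
    refine ⟨fun h => by subst h; exact subset_rfl, fun h => PrimeSpectrum.ext ?_⟩
    exact ((IsLocalRing.maximalIdeal.isMaximal A).eq_of_le y.isPrime.ne_top h).symm
  have hcond : ∀ p q : PrimeSpectrum A, p ∉ T' → q ∈ T → p ≤ q → ((2 : ℕ) : WithBot ℕ∞) <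
      ((LocCoh.depth (Localization.AtPrime p.asIdeal) (LocalizedModule p.asIdeal.primeCompl A) : ℕ∞) : WithBot ℕ∞) +
        Order.krullDim (Set.Icc p q) := by
    intro p q hp hq _
    haveI := p.isPrime
    rw [Set.mem_singleton_iff.1 hq, krullDim_Icc_closed, FiniteQuot.depth_localizedModule_self p.asIdeal
      (Localization.AtPrime p.asIdeal)]
    rcases hc with ⟨hS, hdim⟩ | hc
    · exact_mod_cast depth_of_hasSk_three hd hf hS hdim p.asIdeal p.isPrime hp
    · exact_mod_cast hc p.asIdeal p.isPrime hp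
  obtain ⟨J, hJT, hJk⟩ := (Groth.Agent.S1711.result A hd T T' hT hT' hTT' 2 A).2 hcond
  have hrad : f ∈ J.radical := by
    rw [Ideal.radical_eq_sInf, Submodule.mem_sInf]
    rintro q ⟨hq, hqp⟩
    exact (hJT ((PrimeSpectrum.mem_zeroLocus (⟨q, hqp⟩ : PrimeSpectrum A) _).2 hq) : f ∈ q)
  obtain ⟨n, hn⟩ := hrad
  exact ⟨n, fun x => smul_H_eq_zero_of_HT 𝔪 hTm i A _ (fun y => hJk i hi _ hn y) x⟩

/-- Depth three gives vanishing in degrees one and two. -/
theorem kill_of_three_le_depth (hA : (3 : ℕ∞) ≤ LocCoh.depth A A) (f : A) (i : ℕ) (hi : i ≤ 2) :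
    ∃ n : ℕ, ∀ x : LocCoh.H 𝔪 i A, f ^ n • x = 0 := by
  have := (GrothLib.Depth.le_idealDepth_iff_H 𝔪 (M := A) 3).1 hA i (by omega)
  exact ⟨0, fun x => Subsingleton.elim _ _⟩

end GrothLib.LocFAdic21
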