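import Groth.Agent.LocFAdic21.Bij
import Groth.Agent.LocFAdic21.LevFin

/-!
# Formal sections near the hypersurface from finiteness of the image at level zero
-/

set_option autoImplicit false
set_option linter.style.haveILetI false
set_option linter.unusedSectionVars false

universe u

open CategoryTheory AlgebraicGeometry Opposite Formal2 TopologicalSpace

noncomputable section

namespace GrothLib.LocFAdic21

open GrothLib.Formal2Sec7

variable {A : Type u} [CommRing A] [IsNoetherianRing A] (𝔞 : Ideal A) (f : A)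
  (hnz : f ∈ nonZeroDivisors A)

theorem exists_pow_lift (h : Module.Finite A (LinearMap.range (ev 𝔞 f))) :
    ∃ N : ℕ, ∀ g ∈ 𝔞 ^ N, ∀ s : P 𝔞 f, ∃ m, j 𝔞 (q f 0) m = g • s.1 0 := by
  classical
  obtain ⟨S, hS, hX, hE⟩ := Punctured.exists_mono_injective' (ModuleCat.of (CommRingCat.of A) (q f 0))
  obtain ⟨e⟩ := Punctured.nonempty_coker_equiv 𝔞 hS hE
  rw [hX] at e
  let c : (Sc 𝔞 (q f 0) ⧸ LinearMap.range (j 𝔞 (q f 0))) ≃ₗ[A] LocCoh.H 𝔞 1 (q f 0) := e
  obtain ⟨s, hs⟩ := Module.Finite.iff_fg.1 h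
  choose k hk using fun x : Sc 𝔞 (q f 0) =>
    LC.isPowerTorsion (R := A) 𝔞 1 (ModuleCat.of A (q f 0)) (c (Submodule.Quotient.mk x))
  refine ⟨s.sup k, fun g hg t => ?_⟩
  have hmem : ev 𝔞 f t ∈ Submodule.span A (s : Set (Sc 𝔞 (q f 0))) := hs.symm ▸ LinearMap.mem_range_self _ t
  have key : ∀ x ∈ Submodule.span A (s : Set (Sc 𝔞 (q f 0))), g • x ∈ LinearMap.range (j 𝔞 (q f 0)) := by
    intro x hx
    induction hx using Submodule.span_induction with
    | mem y hy =>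
      refine (Submodule.Quotient.mk_eq_zero _).1 (c.injective ?_)
      rw [Submodule.Quotient.mk_smul, map_smul, map_zero]
      exact hk y g (Ideal.pow_le_pow_right (Finset.le_sup hy) hg)
    | zero => rw [smul_zero]; exact zero_mem _
    | add y z _ _ hy hz => rw [smul_add]; exact add_mem hy hz
    | smul a y _ hy => rw [smul_comm]; exact Submodule.smul_mem _ a hy
  exact key _ hmem

include hnz in
/-- The level zero image is finite if the scaled sections of a level are. -/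
theorem finite_range_ev (n : ℕ)
    (h : Module.Finite A (LinearMap.range (f ^ n • (LinearMap.id : Sc 𝔞 (q f n) →ₗ[A] Sc 𝔞 (q f n))))) :
    Module.Finite A (LinearMap.range (ev 𝔞 f)) := by
  have hβ : ∀ k, ∃ β : Sc 𝔞 (q f 0) →ₗ[A] Sc 𝔞 (q f k), Function.Injective β ∧
      ∀ s : P 𝔞 f, β (s.1 0) = f ^ k • s.1 k := by
    intro k
    induction k with
    | zero => exact ⟨LinearMap.id, fun _ _ h => h, fun s => by rw [pow_zero, one_smul, LinearMap.id_apply]⟩
    | succ k ih =>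
      obtain ⟨β, hβi, hβ⟩ := ih
      have hμ : μ f k ∘ₗ tq f k = f • (LinearMap.id : q f (k + 1) →ₗ[A] q f (k + 1)) := LinearMap.ext fun x => by
        obtain ⟨a, rfl⟩ := Submodule.mkQ_surjective _ x
        show μ f k (tq f k (π f (k + 1) a)) = f • π f (k + 1) a
        rw [tq_π, μ_π, map_smul]
      refine ⟨sm 𝔞 (μ f k) ∘ₗ β, (sm_injective 𝔞 _ (μ_injective f hnz k)).comp hβi, fun s => ?_⟩
      rw [LinearMap.comp_apply, hβ, map_smul, ← s.2 k, ← sm_comp, hμ, sm_smul, sm_id, smul_smul]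
      exact congrArg (· • s.1 (k + 1)) (pow_succ f k).symm
  obtain ⟨β, hβi, hβ⟩ := hβ n
  haveI := h
  haveI : IsNoetherian A (LinearMap.range (f ^ n • (LinearMap.id : Sc 𝔞 (q f n) →ₗ[A] Sc 𝔞 (q f n)))) :=
    isNoetherian_of_isNoetherianRing_of_finite A _
  let φ : LinearMap.range (ev 𝔞 f) →ₗ[A] LinearMap.range (f ^ n • (LinearMap.id : Sc 𝔞 (q f n) →ₗ[A] Sc 𝔞 (q f n))) :=
    LinearMap.codRestrict _ (β.comp (LinearMap.range (ev 𝔞 f)).subtype) (by
      rintro ⟨_, s, rfl⟩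
      exact ⟨s.1 n, (hβ s).symm⟩)
  exact Module.Finite.of_injective φ fun a b hab => Subtype.ext (hβi (congrArg Subtype.val hab))

include hnz in
theorem finite_P' [IsAdicComplete (Ideal.span ({f} : Set A)) A]
    (h : Module.Finite A (LinearMap.range (ev 𝔞 f))) : Module.Finite A (P 𝔞 f) := by
  haveI := isHausdorff_P 𝔞 f
  haveI := h
  refine AdicExtra.finite_of_quotient_finite (I := Ideal.span ({f} : Set A)) ?_
  have hker : LinearMap.ker (ev 𝔞 f) = (Ideal.span ({f} : Set A)) • (⊤ : Submodule A (P 𝔞 f)) := by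
    ext s
    rw [LinearMap.mem_ker, Submodule.ideal_span_singleton_smul]
    constructor
    · intro h0
      obtain ⟨w, hw⟩ := exists_eq_smul 𝔞 f hnz s h0
      exact ⟨w, trivial, hw⟩
    · rintro ⟨w, -, rfl⟩
      exact (congrArg (· • w.1 0) (pow_one f).symm).trans (pow_smul_sc 𝔞 f 0 (w.1 0))
  rw [← hker]
  exact Module.Finite.equiv (LinearMap.quotKerEquivRange (ev 𝔞 f)).symm

include hnz in
theorem le_radical_cIdeal' [IsAdicComplete (Ideal.span ({f} : Set A)) A]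
    (h : Module.Finite A (LinearMap.range (ev 𝔞 f))) :
    𝔞 ≤ (cIdeal 𝔞 f ⊔ Ideal.span {f}).radical := by
  haveI := finite_P' 𝔞 f hnz h
  obtain ⟨N, hN⟩ := exists_pow_lift 𝔞 f h
  intro g hg
  let M := P 𝔞 f ⧸ LinearMap.range (toP 𝔞 f)
  let φ : Module.End A M := algebraMap A _ (g ^ N)
  have hφ : LinearMap.range φ ≤ Ideal.span ({f} : Set A) • (⊤ : Submodule A M) := by
    rintro _ ⟨x, rfl⟩
    obtain ⟨s, rfl⟩ := Submodule.mkQ_surjective _ x
    obtain ⟨m, hm⟩ := hN _ (Ideal.pow_mem_pow hg N) s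
    obtain ⟨a, rfl⟩ := Submodule.mkQ_surjective _ m
    obtain ⟨w, hw⟩ := exists_eq_smul 𝔞 f hnz (g ^ N • s - toP 𝔞 f a) (sub_eq_zero.2 hm.symm)
    rw [Module.algebraMap_end_apply, ← map_smul]
    have h1 : Submodule.mkQ (LinearMap.range (toP 𝔞 f)) (g ^ N • s) =
        f • Submodule.mkQ (LinearMap.range (toP 𝔞 f)) w := by
      rw [← map_smul, hw, map_sub, eq_comm, sub_eq_self]
      exact (Submodule.Quotient.mk_eq_zero _).2 ⟨a, rfl⟩
    rw [h1]
    exact Submodule.smul_mem_smul (Ideal.mem_span_singleton_self f) trivial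
  obtain ⟨p, hp, -, hc, hp0⟩ := φ.exists_monic_and_coeff_mem_pow_and_aeval_eq_zero_of_range_le_smul A _ hφ
  have he : p.eval (g ^ N) ∈ cIdeal 𝔞 f := by
    rw [cIdeal, Module.mem_annihilator]
    intro x
    have := LinearMap.congr_fun hp0 x
    rw [show φ = algebraMap A _ (g ^ N) from rfl, Polynomial.aeval_algebraMap_apply] at this
    exact this
  have hmem : (g ^ N) ^ p.natDegree ∈ cIdeal 𝔞 f ⊔ Ideal.span {f} := by
    have h2 : p.eval (g ^ N) - (g ^ N) ^ p.natDegree ∈ Ideal.span ({f} : Set A) := by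
      rw [Polynomial.eval_eq_sum_range, Finset.sum_range_succ, hp.coeff_natDegree, one_mul, add_sub_cancel_right]
      refine Ideal.sum_mem _ fun i hi => Ideal.mul_mem_right _ _ ?_
      exact Ideal.pow_le_self (by have := Finset.mem_range.1 hi; omega) (hc i)
    have := Submodule.sub_mem (cIdeal 𝔞 f ⊔ Ideal.span {f}) (Ideal.mem_sup_left he) (Ideal.mem_sup_right h2)
    rwa [sub_sub_cancel] at this
  rw [← pow_mul] at hmem
  exact ⟨_, hmem⟩

include hnz in
theorem exists_nhdIdeal' [IsAdicComplete (Ideal.span ({f} : Set A)) A]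
    (h : Module.Finite A (LinearMap.range (ev 𝔞 f))) : Nonempty (NhdIdeal 𝔞 f) := by
  let K : Submodule A A := LinearMap.ker (toP 𝔞 f)
  obtain ⟨k, hk⟩ := Ideal.exists_pow_inf_eq_pow_smul (dIdeal 𝔞 f) K
  have hdK : dIdeal 𝔞 f • K = ⊥ := by
    rw [eq_bot_iff, Submodule.smul_le]
    intro r hr x hx
    exact (Submodule.mem_bot _).2 (congrArg Subtype.val (Module.mem_annihilator.1 hr ⟨x, hx⟩))
  have hinf : ∀ a ∈ dIdeal 𝔞 f ^ (k + 1), toP 𝔞 f a = 0 → a = 0 := by
    intro a ha ha0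
    have h1 : a ∈ dIdeal 𝔞 f ^ (k + 1) • (⊤ : Submodule A A) ⊓ K := by
      refine ⟨?_, ha0⟩
      rw [smul_eq_mul, Ideal.mul_top]
      exact ha
    rw [hk (k + 1) (Nat.le_succ k), Nat.add_sub_cancel_left, pow_one] at h1
    have h2 : a ∈ dIdeal 𝔞 f • K := Submodule.smul_mono le_rfl inf_le_right h1
    rwa [hdK, Submodule.mem_bot] at h2
  have hrad : 𝔞 ≤ (cIdeal 𝔞 f * dIdeal 𝔞 f ^ (k + 1) ⊔ Ideal.span {f}).radical := by
    rw [Ideal.radical_eq_sInf]
    refine le_sInf fun p ⟨hp, hpp⟩ => ?_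
    haveI := hpp
    rcases (Ideal.IsPrime.mul_le ‹_›).1 (le_sup_left.trans hp) with hc | hd
    · exact (le_radical_cIdeal' 𝔞 f hnz h).trans
        ((Ideal.IsPrime.radical_le_iff ‹_›).2 (sup_le hc (le_sup_right.trans hp)))
    · exact (le_radical_dIdeal 𝔞 f).trans
        ((Ideal.IsPrime.radical_le_iff ‹_›).2 (sup_le (Ideal.IsPrime.le_of_pow_le hd) (le_sup_right.trans hp)))
  exact ⟨⟨_, _, hrad, kill_of_mem 𝔞 f k, hinf, lift_of_mem 𝔞 f _⟩⟩

open GrothLib.NFlat7 in
/-- Near the hypersurface, formal homomorphisms are the homomorphisms. -/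
theorem exists_nhd_homBij' [IsAdicComplete (Ideal.span ({f} : Set A)) A] (hnz : f ∈ nonZeroDivisors A)
    (𝔞 : Ideal A) (h : Module.Finite A (LinearMap.range (ev 𝔞 f))) :
    ∃ V : (Spec (CommRingCat.of A)).Opens, V ≤ LocCoh.puncturedOpen A 𝔞 ∧
      (LocCoh.puncturedOpen A 𝔞 : Set (Spec (CommRingCat.of A))) ∩ PrimeSpectrum.zeroLocus {f} ⊆ V ∧
      ∀ (T : Scheme.{u}) (i : T ⟶ Spec (CommRingCat.of A)) [IsOpenImmersion i], i.opensRange ≤ V →
        (LocCoh.puncturedOpen A 𝔞 : Set (Spec (CommRingCat.of A))) ∩ PrimeSpectrum.zeroLocus {f} ⊆ Set.range i →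
        ∀ (D : T.Modules) [Coh.IsQCoh D],
          Lef.HomToFormalBijective ((KI (Ideal.span ({f} : Set A))).comap i) D := by
  obtain ⟨I⟩ := exists_nhdIdeal' 𝔞 f hnz h
  refine ⟨LocCoh.puncturedOpen A 𝔞 ⊓ LocCoh.puncturedOpen A I.e, inf_le_left,
    fun p ⟨hp, hpf⟩ => ⟨hp, fun hpe => hp (I.le_rad.trans
      ((Ideal.IsPrime.radical_le_iff (p : PrimeSpectrum A).isPrime).2
        (sup_le hpe ((Ideal.span_singleton_le_iff_mem _).2 (hpf (Set.mem_singleton f))))))⟩, ?_⟩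
  intro T i _ hW hY D hD
  let Z : Set (PrimeSpectrum A) := (i.opensRange : Set (Spec (CommRingCat.of A)))ᶜ
  obtain ⟨𝔟, h𝔟⟩ := (PrimeSpectrum.isClosed_iff_zeroLocus_ideal Z).1 i.opensRange.2.isClosed_compl
  have hW' : i.opensRange = LocCoh.puncturedOpen A 𝔟 := Opens.ext (by
    show (i.opensRange : Set (Spec (CommRingCat.of A))) = (PrimeSpectrum.zeroLocus (𝔟 : Set A))ᶜ
    rw [← h𝔟]; exact (compl_compl _).symm)
  rw [hW'] at hW
  rw [← Scheme.Hom.coe_opensRange, hW'] at hY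
  have hle : LocCoh.puncturedOpen A 𝔟 ≤ LocCoh.puncturedOpen A 𝔞 := hW.trans inf_le_left
  have hbe : 𝔟 ≤ I.e.radical := (PrimeSpectrum.zeroLocus_subset_zeroLocus_iff I.e 𝔟).1
    (Set.compl_subset_compl.1 (fun p hp => (hW hp).2))
  have hrad : 𝔞 ≤ (𝔟 ⊔ Ideal.span {f}).radical := by
    rw [Ideal.radical_eq_sInf]
    refine le_sInf fun p ⟨hp, hpp⟩ => ?_
    by_contra hap
    exact hY (show (⟨p, hpp⟩ : PrimeSpectrum A) ∈ _ from ⟨hap, fun x hx => by
      rw [Set.mem_singleton_iff.1 hx]; exact hp (Ideal.mem_sup_right (Ideal.mem_span_singleton_self f))⟩)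
      fun x hx => hp (Ideal.mem_sup_left hx)
  haveI : IsLocallyNoetherian T := isLocallyNoetherian_of_isOpenImmersion i
  haveI : CompactSpace T := by
    have hc : IsCompact (Set.range i) := TopologicalSpace.NoetherianSpace.isCompact _
    exact ⟨i.isOpenEmbedding.isEmbedding.isCompact_iff.2 (by rwa [Set.image_univ])⟩
  haveI : IsNoetherian T := {}
  haveI : T.IsQuasiAffine := Scheme.IsQuasiAffine.of_isImmersion i
  exact LefEt7.homToFormalBijective_of_unit_of_quasiAffine _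
    (PunctSec7.homBij_of_secBij _ (secBij_of_bijective i hW' _ (bijective_sections I hle hbe hrad))) D

end GrothLib.LocFAdic21
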