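import Groth.Agent.LocFAdic21.Tower
import Groth.Agent.LocFAdic21.LevFin
import Groth.Agent.Lib.GenT7.GenLevel
import Groth.Agent.Lib.GenT7.LeffThree

/-!
# Algebraization from killers of local cohomology
-/

set_option autoImplicit false
set_option linter.style.haveILetI false
set_option linter.unusedSectionVars false

universe u

open CategoryTheory CategoryTheory.Limits AlgebraicGeometry Opposite TopologicalSpace

noncomputable section

namespace GrothLib.LocFAdic21

open GrothLib.GenT7 GrothLib.FFormal7 GrothLib.UnifVanish7 GrothLib.Algz56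
open GrothLib.FormalFun (toStalk)
open GrothLib.QCoh (stalkLin)

/-- Equal powers give the same stalkwise freeness. -/
theorem stalkFree_congr {A : Type u} [CommRing A] {X : Scheme.{u}} [X.Over (Spec (CommRingCat.of A))]
    {J K : Ideal A} {n m : ℕ} (h : J ^ n = K ^ m) {P : X.Modules} (hP : StalkFree J n P) : StalkFree K m P := by
  intro x
  obtain ⟨r, ⟨L⟩⟩ := hP x
  have e : Formal.modPow J n (FlatMod.freeMod X r) = Formal.modPow K m (FlatMod.freeMod X r) :=
    congrArg (fun I => cokernel (Formal.smulFamily I (FlatMod.freeMod X r))) h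
  rw [e] at L
  exact ⟨r, ⟨L⟩⟩

/-- A formal system stalkwise free over the levels is regular. -/
theorem reg_of_stalkFree {A : Type u} [CommRing A] {X : Scheme.{u}} [X.Over (Spec (CommRingCat.of A))] (t : A)
    (hx : ∀ (x : X) (c : X.presheaf.stalk x), c * toStalk A x t = 0 → c = 0)
    (G : ℕᵒᵖ ⥤ X.Modules) (hG : Formal.IsCohFormal (Ideal.span ({t} : Set A)) G)
    (hfree : ∀ n : ℕ, StalkFree (Ideal.span ({t} : Set A)) (n + 1) (G.obj (op n))) :
    Reg t G := by
  intro n T z hz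
  have w : Formal.smulMod A (gob G n) (t ^ n) ≫ Formal.smulMod A (gob G n) t = 0 := by
    rw [← FormalSys.smulMod_mul, mul_comm, ← pow_succ]
    exact smul_eq_zero_of_le t G hG le_rfl
  have hex : (ShortComplex.mk _ _ w).Exact := by
    refine (OX.exact_iff _).2 fun x => ?_
    rw [ShortComplex.moduleCat_exact_iff]
    intro v hv
    obtain ⟨r, ⟨L⟩⟩ := hfree n x
    have hv' : toStalk A x t • (show (gob G n).presheaf.stalk x from v) = 0 :=
      (FormalFun.stalkLin_smulMod (gob G n) t x v).symm.trans hv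
    obtain ⟨u, hu⟩ := exists_eq_pow_smul_modPow t n r x (hx x) (L v)
      (((map_smul L _ _).symm.trans (congrArg L hv')).trans (map_zero L))
    refine ⟨L.symm u, ?_⟩
    show stalkLin (Formal.smulMod A (gob G n) (t ^ n)) x (L.symm u) = v
    refine (FormalFun.stalkLin_smulMod (gob G n) (t ^ n) x _).trans ?_
    rw [map_pow]
    exact ((map_smul L.symm _ _).symm.trans (congrArg L.symm hu.symm)).trans (L.symm_apply_apply v)
  exact hex.exact_up_to_refinements z hz

variable {A : Type u} [CommRing A] [IsNoetherianRing A] [IsLocalRing A]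

local notation "𝔪" => IsLocalRing.maximalIdeal A

/-- The killers at all levels. -/
theorem kill_level {f : A} (hnz : f ∈ nonZeroDivisors A) {c : ℕ} {𝔷 : Ideal A} {r : ℕ}
    (hkill : ∀ i, 1 ≤ i → i ≤ r → ∀ z ∈ 𝔷, ∀ x : LocCoh.H 𝔪 i A, (f ^ c * z) • x = 0) (k i : ℕ)
    (h1 : 1 ≤ i) (h2 : i + 1 ≤ r) (s : A) (hs : s ∈ 𝔷 * 𝔷)
    (y : LocCoh.H 𝔪 i (A ⧸ Ideal.span ({f ^ k} : Set A))) : (s * f ^ (2 * c)) • y = 0 := by
  let S : ShortComplex (ModuleCat.{u} A) := ShortComplex.mk (ModuleCat.ofHom (LinearMap.mulRight A (f ^ k)))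
    (ModuleCat.ofHom (Submodule.mkQ (Ideal.span ({f ^ k} : Set A)))) (ModuleCat.hom_ext (LinearMap.ext fun a =>
      (Submodule.Quotient.mk_eq_zero _).2 (Ideal.mem_span_singleton'.2 ⟨a, rfl⟩)))
  have hS : S.ShortExact :=
    { exact := (ShortComplex.moduleCat_exact_iff S).2 fun a ha => by
        obtain ⟨b, hb⟩ := Ideal.mem_span_singleton'.1 ((Submodule.Quotient.mk_eq_zero _).1 ha)
        exact ⟨b, hb⟩
      mono_f := (ModuleCat.mono_iff_injective _).2 fun a b h =>
        (mul_cancel_right_mem_nonZeroDivisors (pow_mem hnz k)).1 h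
      epi_g := (ModuleCat.epi_iff_surjective _).2 (Submodule.mkQ_surjective _) }
  refine Submodule.mul_induction_on hs (fun z hz z' hz' => ?_) fun a b ha hb => by
    rw [add_mul, add_smul, ha, hb, add_zero]
  rw [show z * z' * f ^ (2 * c) = (f ^ c * z) * (f ^ c * z') by rw [two_mul, pow_add]; ring]
  exact kill_X₃ 𝔪 hS i _ _ (hkill i h1 (by omega) z hz) (hkill (i + 1) (by omega) (by omega) z' hz') y

/-- Algebraization of a levelwise locally free system on the punctured spectrum. -/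
theorem exists_algebraization_weak {f : A} [IsAdicComplete (Ideal.span ({f} : Set A)) A]
    (hnz : f ∈ nonZeroDivisors A) {c : ℕ} {𝔷 : Ideal A} (hrad : 𝔪 ≤ (𝔷 ⊔ Ideal.span {f}).radical)
    (hkill : ∀ i, 1 ≤ i → i ≤ 3 → ∀ z ∈ 𝔷, ∀ x : LocCoh.H 𝔪 i A, (f ^ c * z) • x = 0)
    (𝔐 : FSch.ModSys (FSch.completionAlong (LocCoh.puncturedOpen A 𝔪 : Scheme.{u})
      (baseIdeal (Ideal.span ({f} : Set A)) (LocCoh.puncturedOpen A 𝔪 : Scheme.{u}))))
    (h𝔐 : LefX.LevelwiseFinLocFree 𝔐) :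
    ∃ F : (LocCoh.puncturedOpen A 𝔪 : Scheme.{u}).Modules, Coh.IsCoh F ∧
      Nonempty (FSch.completionMod (baseIdeal (Ideal.span ({f} : Set A)) (LocCoh.puncturedOpen A 𝔪 : Scheme.{u})) F
        ≅ 𝔐) := by
  let U := LocCoh.puncturedOpen A 𝔪
  let J := Ideal.span ({f} : Set A)
  haveI : IsSeparated ((U : Scheme.{u}) ↘ Spec (CommRingCat.of A)) := inferInstanceAs (IsSeparated U.ι)
  haveI : LocallyOfFiniteType ((U : Scheme.{u}) ↘ Spec (CommRingCat.of A)) :=
    inferInstanceAs (LocallyOfFiniteType U.ι)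
  haveI : IsLocallyNoetherian (U : Scheme.{u}) := isLocallyNoetherian_of_isOpenImmersion U.ι
  haveI : CompactSpace (U : Scheme.{u}) := isCompact_iff_compactSpace.1 (TopologicalSpace.NoetherianSpace.isCompact _)
  haveI : QuasiCompact ((U : Scheme.{u}) ↘ Spec (CommRingCat.of A)) := inferInstanceAs (QuasiCompact U.ι)
  have h := isAdicSys_lev J (U : Scheme.{u})
  have hpb := fun k => isPullback_lev J (U : Scheme.{u}) k
  have hec := levι_eq_sep J (X := (U : Scheme.{u}))
  have hcoh : ∀ k, Coh.IsCoh (𝔐.F k) := fun k => Euler.isCoh_of_isFinLocFree (h𝔐 k)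
  let G := pushSys hec 𝔐.e
  have hG : Formal.IsCohFormal J G := isCohFormal_pushSys_sep h hpb hec hcoh 𝔐.e
  have hfree : ∀ n, StalkFree J (n + 1) (G.obj (op n)) := fun n => by
    haveI := isClosedImmersion_e hpb n
    exact Gen.stalkFree_push (levι J (U : Scheme.{u}) n) J (n + 1) (h𝔐 n) (Gen.ker_stalkMap_lev 𝔪 J n)
      (Gen.map_eq_top_of_not_range 𝔪 J n)
  have hreg : Reg f G := reg_of_stalkFree f (toStalk_regular 𝔪 f fun a b hab =>
    (mul_cancel_left_mem_nonZeroDivisors hnz).1 hab) G hG hfree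
  have hpow : J ^ (2 * c + 1 + 1) = Ideal.span ({f ^ (2 * c + 1 + 1)} : Set A) ^ 1 := by
    rw [pow_one]; exact Ideal.span_singleton_pow f _
  have hrad' : 𝔪 ≤ (𝔷 * 𝔷 ⊔ Ideal.span ({f ^ (2 * c + 1 + 1)} : Set A)).radical := by
    rw [Ideal.radical_eq_sInf]
    refine le_sInf fun q ⟨hq, hqp⟩ => hrad.trans (hqp.radical_le_iff.2 ?_)
    have hz : 𝔷 ≤ q := (hqp.mul_le.1 (le_sup_left.trans hq)).elim id id
    exact sup_le hz ((Ideal.span_singleton_le_iff_mem _).2
      (hqp.mem_of_pow_mem _ ((le_sup_right.trans hq) (Ideal.mem_span_singleton_self _))))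
  obtain ⟨M, hM, ⟨θ⟩⟩ := exists_module_completion' (I := 𝔪) f G hG hreg (2 * c)
    (finite_range_smul_hh (Ideal.span ({f ^ (2 * c + 1 + 1)} : Set A)) (gob G (2 * c + 1)) (hG.1 (2 * c + 1))
      (fun a ha => hG.2.1 (2 * c + 1) a (by rwa [Ideal.span_singleton_pow]))
      (stalkFree_congr hpow (hfree (2 * c + 1))) (f ^ (2 * c + 1)) (𝔷 * 𝔷) hrad'
      fun i h1 h2 s hs y => by
        rw [show s * f ^ (2 * c + 1) = f * (s * f ^ (2 * c)) by ring, mul_smul,
          kill_level hnz hkill _ i h1 (by omega) s hs y, smul_zero])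
  obtain ⟨χ, hχ⟩ := exists_compat_of_completion h hpb hec hcoh 𝔐.e M θ
  refine ⟨M, hM, nonempty_completionMod_iso _ M χ fun k => ?_⟩
  refine (hχ k).trans (congrArg (· ≫ (χ k).hom) ?_)
  exact (complMod_e_hom_sep J M k).symm

end GrothLib.LocFAdic21
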