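import Groth.Agent.LocFAdic21.Algz
import Groth.Agent.LocFAdic21.Weak
import Groth.Agent.LocFAdic21.Sections2

/-!
# Extension to a neighbourhood from killers of local cohomology
-/

set_option autoImplicit false
set_option linter.style.haveILetI false
set_option linter.unusedSectionVars false

universe u

open CategoryTheory CategoryTheory.Limits AlgebraicGeometry TopologicalSpace

noncomputable section

namespace GrothLib.LocFAdic21

open GrothLib.GenT7 GrothLib.FFormal7 GrothLib.UnifVanish7 GrothLib.Algz56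

variable {A : Type u} [CommRing A] [IsNoetherianRing A] [IsLocalRing A] {f : A}

/-- Finiteness of the sections at level zero from killers. -/
theorem finite_range_ev_of_kill (hnz : f ∈ nonZeroDivisors A) {c : ℕ} {𝔷 : Ideal A}
    (hrad : IsLocalRing.maximalIdeal A ≤ (𝔷 ⊔ Ideal.span {f}).radical)
    (hkill : ∀ i, 1 ≤ i → i ≤ 2 → ∀ z ∈ 𝔷, ∀ x : LocCoh.H (IsLocalRing.maximalIdeal A) i A, (f ^ c * z) • x = 0) :
    Module.Finite A (LinearMap.range (ev (IsLocalRing.maximalIdeal A) f)) := by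
  refine finite_range_ev _ f hnz (2 * c) ?_
  let m := IsLocalRing.maximalIdeal A
  let J : Ideal A := Ideal.span ({f ^ (2 * c + 1)} : Set A)
  let M := q f (2 * c)
  haveI : IsArtinian A (LocCoh.H m 1 M) := LC.isArtinian_H_maximal 1 M
  have hJ : Ideal.span ({f} : Set A) ^ (2 * c + 1) • (⊤ : Submodule A A) = J := by
    rw [smul_eq_mul, Ideal.mul_top, Ideal.span_singleton_pow]
  let e : M ≃ₗ[A] A ⧸ J := Submodule.quotEquivOfEq _ _ hJ
  let eH : LocCoh.H m 1 M ≃ₗ[A] LocCoh.H m 1 (A ⧸ J) :=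
    ((localCohomology (R := A) m 1).mapIso e.toModuleIso).toLinearEquiv
  have hfin : Module.Finite A (LinearMap.range (f ^ (2 * c) • (LinearMap.id : LocCoh.H m 1 M →ₗ[A] LocCoh.H m 1 M))) := by
    refine finite_range_smul (f ^ (2 * c)) (S := 𝔷 * 𝔷 ⊔ J) ?_ fun s hs x => ?_
    · rw [Ideal.radical_eq_sInf]
      refine le_sInf fun q ⟨hq, hqp⟩ => hrad.trans (hqp.radical_le_iff.2 ?_)
      have hz : 𝔷 ≤ q := (hqp.mul_le.1 (le_sup_left.trans hq)).elim id id
      exact sup_le hz ((Ideal.span_singleton_le_iff_mem _).2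
        (hqp.mem_of_pow_mem _ ((le_sup_right.trans hq) (Ideal.mem_span_singleton_self _))))
    · obtain ⟨u, hu, v, hv, rfl⟩ := Submodule.mem_sup.1 hs
      have hMv : ∀ n : M, v • n = 0 := fun n => by
        obtain ⟨a, ha⟩ := Ideal.mem_span_singleton'.1 hv
        rw [← ha, mul_smul, pow_smul_q, smul_zero]
      rw [add_mul, add_smul, mul_smul v, kill_of_module_kill m 1 v hMv, add_zero]
      refine eH.injective ?_
      rw [map_smul, map_zero]
      exact kill_level hnz hkill (2 * c + 1) 1 le_rfl (by norm_num) u hu (eH x)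
  obtain ⟨S, hS, hX, hE⟩ := Punctured.exists_mono_injective' (ModuleCat.of (CommRingCat.of A) M)
  obtain ⟨d⟩ := Punctured.nonempty_coker_equiv m hS hE
  rw [hX] at d
  haveI : Module.Finite A (LinearMap.range (Formal2Sec7.j m M)) :=
    Module.Finite.iff_fg.2 (by rw [LinearMap.range_eq_map]; exact (Module.Finite.fg_top (R := A) (M := M)).map _)
  exact finite_range_smul_of_submodule _ (f ^ (2 * c)) (finite_range_smul_of_equiv
    (show (Formal2Sec7.Sc m M ⧸ LinearMap.range (Formal2Sec7.j m M)) ≃ₗ[A] LocCoh.H m 1 M from d) _ hfin)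

variable [IsAdicComplete (Ideal.span ({f} : Set A)) A]

/-- The small neighbourhood of the punctured hypersurface. -/
theorem exists_small_nhd' (hnz : f ∈ nonZeroDivisors A) {c : ℕ} {𝔷 : Ideal A}
    (hrad : IsLocalRing.maximalIdeal A ≤ (𝔷 ⊔ Ideal.span {f}).radical)
    (hkill : ∀ i, 1 ≤ i → i ≤ 2 → ∀ z ∈ 𝔷, ∀ x : LocCoh.H (IsLocalRing.maximalIdeal A) i A, (f ^ c * z) • x = 0) :
    ∃ V : (Spec (CommRingCat.of A)).Opens, V ≤ FEt.puncturedSpec A ∧
      Set.range (pullback.fst (FEt.puncturedSpec A).ι (clf A f) ≫ (FEt.puncturedSpec A).ι) ⊆ V ∧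
      ∀ (T : Scheme.{u}) (i : T ⟶ Spec (CommRingCat.of A)) [IsOpenImmersion i], i.opensRange ≤ V →
        Set.range (pullback.fst (FEt.puncturedSpec A).ι (clf A f) ≫ (FEt.puncturedSpec A).ι) ⊆ Set.range i →
        ∀ (D : T.Modules) [Coh.IsQCoh D], Lef.HomToFormalBijective ((clf A f).ker.comap i) D := by
  obtain ⟨V, h1, h2, h3⟩ := exists_nhd_homBij' f hnz (IsLocalRing.maximalIdeal A) (finite_range_ev_of_kill hnz hrad hkill)
  rw [← puncturedSpec_eq] at h1 h2 h3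
  rw [range_slice]
  exact ⟨V, h1, h2, h3⟩

/-- A finite etale cover of the punctured hypersurface extends to an open neighbourhood. -/
theorem exists_extension' (hnz : f ∈ nonZeroDivisors A) {c : ℕ} {𝔷 : Ideal A}
    (hrad : IsLocalRing.maximalIdeal A ≤ (𝔷 ⊔ Ideal.span {f}).radical)
    (hkill : ∀ i, 1 ≤ i → i ≤ 3 → ∀ z ∈ 𝔷, ∀ x : LocCoh.H (IsLocalRing.maximalIdeal A) i A, (f ^ c * z) • x = 0)
    (V₀ : FEt.Cat (pullback (FEt.puncturedSpec A).ι (clf A f))) :
    ∃ (U' : (Spec (CommRingCat.of A)).Opens) (_ : U' ≤ FEt.puncturedSpec A)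
      (u' : pullback (FEt.puncturedSpec A).ι (clf A f) ⟶ (U' : Scheme.{u}))
      (_ : u' ≫ U'.ι = pullback.fst (FEt.puncturedSpec A).ι (clf A f) ≫ (FEt.puncturedSpec A).ι)
      (V' : FEt.Cat (U' : Scheme.{u})), Nonempty ((FEt.restrict u').obj V' ≅ V₀) := by
  obtain ⟨V, hVU, hYV, hbij⟩ := exists_small_nhd' hnz hrad fun i h1 h2 => hkill i h1 (h2.trans (by norm_num))
  let J := Ideal.span ({f} : Set A)
  let PO := LocCoh.puncturedOpen A (IsLocalRing.maximalIdeal A)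
  have hPO : FEt.puncturedSpec A = PO := puncturedSpec_eq A
  haveI : IsClosedImmersion (clf A f) := IsClosedImmersion.spec_of_surjective _ Ideal.Quotient.mk_surjective
  haveI : IsLocallyNoetherian (PO : Scheme.{u}) := isLocallyNoetherian_of_isOpenImmersion PO.ι
  let 𝓘 : (PO : Scheme.{u}).IdealSheafData := (clf A f).ker.comap PO.ι
  let p := pullback.fst (FEt.puncturedSpec A).ι (clf A f) ≫ (FEt.puncturedSpec A).ι
  have hpPO : Set.range p ⊆ Set.range PO.ι := by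
    rw [Scheme.Opens.range_ι]
    exact hYV.trans (hVU.trans hPO.le)
  obtain ⟨φ, hφi, hφ⟩ := exists_slice_iso (FEt.puncturedSpec A) (clf A f) PO.ι
    ((Scheme.Opens.opensRange_ι PO).le.trans hPO.ge) (IsOpenImmersion.lift PO.ι p hpPO)
    (IsOpenImmersion.lift_fac _ _ _)
  haveI := PunctPure21.isEquivalence_of_isIso φ
  let R : FEt.Cat 𝓘.subscheme := (FEt.restrict φ).objPreimage V₀
  obtain ⟨F, hF, ⟨e⟩⟩ := exists_algebraization_weak hnz hrad hkill (EtAlgz21.sys 𝓘 R)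
    (EtAlgz21.sys_finLocFree 𝓘 R)
  have hlev : ∀ n, FlatMod.IsFinLocFree ((Scheme.Modules.pullback (𝓘 ^ (n + 1)).subschemeι).obj F) := fun n =>
    HilbDesc10.isFinLocFree_congr
      ⟨e.inv.app n, e.hom.app n, congrArg (fun k => FSch.ModSys.Hom.app k n) e.inv_hom_id,
        congrArg (fun k => FSch.ModSys.Hom.app k n) e.hom_inv_id⟩ (EtAlgz21.sys_finLocFree 𝓘 R n)
  let U₀ : (PO : Scheme.{u}).Opens :=
    ⟨_, Ref1.isOpen_free (HomSh.hasRel_of_isCoh hF)⟩ ⊓ PO.ι ⁻¹ᵁ V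
  have hsupp : ∀ y : (PO : Scheme.{u}), y ∈ (𝓘.support : Set (PO : Scheme.{u})) → PO.ι y ∈ Set.range p := by
    intro y hy
    rw [← Scheme.IdealSheafData.range_subschemeι] at hy
    obtain ⟨z, rfl⟩ := hy
    obtain ⟨w, rfl⟩ := φ.surjective z
    refine ⟨w, ?_⟩
    show p w = ((φ ≫ 𝓘.subschemeι) ≫ PO.ι) w
    rw [hφ, IsOpenImmersion.lift_fac]
  have hUI : (𝓘.support : Set (PO : Scheme.{u})) ⊆ U₀ := fun y hy =>
    ⟨LeffAmp7.free_stalk_of_levels hF 𝓘 hlev hy, hYV (hsupp y hy)⟩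
  have hE : FlatMod.IsFinLocFree ((Scheme.Modules.pullback U₀.ι).obj F) :=
    HilbDesc10.isFinLocFree_congr ((Scheme.Modules.restrictFunctorIsoPullback U₀.ι).app F)
      (Ref1.isFinLocFree_restrict_of_free (HomSh.hasRel_of_isCoh hF) U₀ fun x hx => hx.1)
  obtain ⟨e'⟩ := LeffAmp7.nonempty_completion_iso_push 𝓘 U₀ hUI F
  have hrangeU : ∀ W : (PO : Scheme.{u}).Opens, (𝓘.support : Set (PO : Scheme.{u})) ⊆ W →
      Set.range p ⊆ Set.range (W.ι ≫ PO.ι) := by
    rintro W hW _ ⟨w, rfl⟩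
    have hy : IsOpenImmersion.lift PO.ι p hpPO w ∈ W := hW (by
      rw [← Scheme.IdealSheafData.range_subschemeι]
      exact ⟨φ w, congrArg (fun g => (g : _ ⟶ (PO : Scheme.{u})) w) hφ⟩)
    exact ⟨⟨_, hy⟩, congrArg (fun g => (g : _ ⟶ Spec (CommRingCat.of A)) w) (IsOpenImmersion.lift_fac PO.ι p hpPO)⟩
  have hL : ∀ M : (U₀ : Scheme.{u}).Modules, FlatMod.IsFinLocFree M →
      Lef.HomToFormalBijective (𝓘.comap U₀.ι) M := fun M hM => by
    haveI : Coh.IsQCoh M := (Euler.isCoh_of_isFinLocFree hM).1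
    have h := hbij _ (U₀.ι ≫ PO.ι) (by
      rintro _ ⟨y, rfl⟩
      exact y.2.2) (hrangeU U₀ hUI) M
    rwa [Scheme.IdealSheafData.comap_comp] at h
  obtain ⟨U, R', hU, hUU, hiso⟩ := EtAlgz21.exists_cover_nhd 𝓘 R U₀ _ hUI hE ⟨e' ≪≫ e⟩ hL
  let U' : (Spec (CommRingCat.of A)).Opens := PO.ι ''ᵁ U
  let g : (U : Scheme.{u}) ≅ U'.toScheme := PO.ι.isoImage U
  haveI := PunctPure21.isEquivalence_of_isIso g.hom
  let i : 𝓘.subscheme ⟶ (U : Scheme.{u}) := IsOpenImmersion.lift U.ι 𝓘.subschemeι (by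
    rw [Scheme.Opens.range_ι, Scheme.IdealSheafData.range_subschemeι]; exact hU)
  have hi : i ≫ U.ι = 𝓘.subschemeι := IsOpenImmersion.lift_fac _ _ _
  obtain ⟨eR⟩ := hiso i hi
  have hu : (φ ≫ i ≫ g.hom) ≫ U'.ι = p := by
    rw [Category.assoc, Category.assoc, Scheme.Hom.isoImage_hom_ι, reassoc_of% hi, reassoc_of% hφ,
      IsOpenImmersion.lift_fac]
  refine ⟨U', fun x hx => ?_, φ ≫ i ≫ g.hom, hu, (FEt.restrict g.hom).objPreimage R', ⟨?_⟩⟩
  · obtain ⟨y, -, rfl⟩ := hx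
    exact hPO.ge y.2
  · exact FEt21.restrictCompIso φ (i ≫ g.hom) _ rfl _ ≪≫
      (FEt.restrict φ).mapIso (FEt21.restrictCompIso i g.hom _ rfl _ ≪≫
        (FEt.restrict i).mapIso ((FEt.restrict g.hom).objObjPreimageIso R') ≪≫ eR) ≪≫
      (FEt.restrict φ).objObjPreimageIso V₀

end GrothLib.LocFAdic21
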