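import Groth.Agent.Lib.Formal2Sec7.Main
import Groth.Agent.Lib.Punctured.TildeSections
import Groth.Agent.Lib.AdicExtra.Complete
import Mathlib.RingTheory.Filtration
import Mathlib.LinearAlgebra.Matrix.Charpoly.LinearMap
import Mathlib.RingTheory.Filtration

/-!
# Formal sections of a punctured spectrum extend to a neighbourhood

For `f` a nonzerodivisor with `A` `f`-adically complete and `H^1_𝔞(A/f)` finite, there is an ideal `𝔢`
whose open set meets `V(f)` in all of `D(𝔞)`, such that on every smaller open `D(𝔟)` with the same trace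
the functions are the formal functions.
-/

set_option autoImplicit false
set_option linter.style.haveILetI false
set_option linter.unusedSectionVars false

universe u

open CategoryTheory AlgebraicGeometry Opposite Formal2 TopologicalSpace

noncomputable section

namespace GrothLib.LocFAdic21

open GrothLib.Formal2Sec7

variable {A : Type u} [CommRing A] [IsNoetherianRing A] (𝔞 : Ideal A) (f : A)

/-- The levels. -/
abbrev q (n : ℕ) : Type u := quotPow A (Ideal.span ({f} : Set A)) A n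

/-- The projections. -/
abbrev π (n : ℕ) : A →ₗ[A] q f n := quotPowπ A (Ideal.span ({f} : Set A)) A n

/-- The transition maps. -/
abbrev tq (n : ℕ) : q f (n + 1) →ₗ[A] q f n := quotPowTrans A (Ideal.span ({f} : Set A)) A n

/-- The compatible families of sections. -/
def P : Submodule A (∀ n, Sc 𝔞 (q f n)) where
  carrier := {s | ∀ n, sm 𝔞 (tq f n) (s (n + 1)) = s n}
  add_mem' := fun {a b} ha hb n => by rw [Pi.add_apply, Pi.add_apply, map_add, ha n, hb n]
  zero_mem' := fun n => map_zero _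
  smul_mem' := fun c a ha n => by rw [Pi.smul_apply, Pi.smul_apply, map_smul, ha n]

theorem tq_π (n : ℕ) (a : A) : tq f n (π f (n + 1) a) = π f n a := rfl

/-- The diagonal map. -/
def toP : A →ₗ[A] P 𝔞 f :=
  LinearMap.codRestrict _ (LinearMap.pi fun n => (j 𝔞 (q f n)).comp (π f n)) fun a n => by
    show sm 𝔞 (tq f n) (j 𝔞 _ (π f (n + 1) a)) = j 𝔞 _ (π f n a)
    rw [sm_j, tq_π]

theorem toP_apply (a : A) (n : ℕ) : (toP 𝔞 f a).1 n = j 𝔞 _ (π f n a) := rfl

theorem pow_smul_q (n : ℕ) (x : q f n) : f ^ (n + 1) • x = 0 := by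
  obtain ⟨a, rfl⟩ := Submodule.mkQ_surjective _ x
  rw [← map_smul]
  exact (Submodule.Quotient.mk_eq_zero _).2 ((mem_pow_smul f).2 ⟨a, rfl⟩)

theorem pow_smul_sc (n : ℕ) (x : Sc 𝔞 (q f n)) : f ^ (n + 1) • x = 0 := by
  rw [← sm_id 𝔞 x, ← sm_smul, show f ^ (n + 1) • (LinearMap.id : q f n →ₗ[A] q f n) = 0 from
    LinearMap.ext fun y => pow_smul_q f n y, sm_zero]

/-- Multiplication by `f` between the levels. -/
def μ (n : ℕ) : q f n →ₗ[A] q f (n + 1) :=
  Submodule.mapQ _ _ (f • LinearMap.id) fun x hx => by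
    obtain ⟨y, rfl⟩ := (mem_pow_smul f).1 hx
    refine (mem_pow_smul f).2 ⟨y, ?_⟩
    rw [LinearMap.smul_apply, LinearMap.id_apply, smul_smul, pow_succ']

theorem μ_π (n : ℕ) (a : A) : μ f n (π f n a) = π f (n + 1) (f • a) := rfl

theorem tq_μ (n : ℕ) : tq f (n + 1) ∘ₗ μ f (n + 1) = μ f n ∘ₗ tq f n :=
  LinearMap.ext fun x => by
    obtain ⟨a, rfl⟩ := Submodule.mkQ_surjective _ x
    show tq f (n + 1) (μ f (n + 1) (π f (n + 1) a)) = μ f n (tq f n (π f (n + 1) a))
    rw [μ_π, tq_π, tq_π, μ_π]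

theorem tq_μ_self (n : ℕ) : tq f n ∘ₗ μ f n = f • (LinearMap.id : q f n →ₗ[A] q f n) :=
  LinearMap.ext fun x => Submodule.Quotient.induction_on _ x fun _ => rfl

variable (hnz : f ∈ nonZeroDivisors A)

include hnz in
theorem μ_injective (n : ℕ) : Function.Injective (μ f n) := by
  refine (injective_iff_map_eq_zero _).2 fun x hx => ?_
  obtain ⟨a, rfl⟩ := Submodule.mkQ_surjective _ x
  obtain ⟨y, hy⟩ := (mem_pow_smul f).1 ((Submodule.Quotient.mk_eq_zero _).1 hx)
  refine (Submodule.Quotient.mk_eq_zero _).2 ((mem_pow_smul f).2 ⟨y, ?_⟩)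
  simp only [LinearMap.smul_apply, LinearMap.id_apply, smul_eq_mul] at hy ⊢
  rw [pow_succ, mul_comm (f ^ (n + 1)) f, mul_assoc] at hy
  exact (mul_cancel_left_mem_nonZeroDivisors hnz).1 hy

theorem range_μ (n : ℕ) :
    LinearMap.range (μ f n) = LinearMap.ker (tr f A (Nat.zero_le (n + 1))) := by
  ext x
  obtain ⟨a, rfl⟩ := Submodule.mkQ_surjective _ x
  constructor
  · rintro ⟨y, hy⟩
    obtain ⟨b, rfl⟩ := Submodule.mkQ_surjective _ y
    rw [← hy]
    refine (Submodule.Quotient.mk_eq_zero _).2 ((mem_pow_smul f).2 ⟨b, ?_⟩)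
    simp
  · intro hx
    obtain ⟨b, hb⟩ := (mem_pow_smul f).1 ((Submodule.Quotient.mk_eq_zero _).1 hx)
    refine ⟨π f n b, ?_⟩
    rw [μ_π]
    rw [zero_add, pow_one] at hb
    exact congrArg _ hb

include hnz in
/-- A family vanishing at level zero is divisible by `f`. -/
theorem exists_eq_smul (s : P 𝔞 f) (h0 : s.1 0 = 0) : ∃ w : P 𝔞 f, f • w = s := by
  have hdiv : ∀ n, ∃ w, sm 𝔞 (μ f n) w = s.1 (n + 1) := fun n =>
    exists_sm_eq 𝔞 (μ f n) _ (μ_injective f hnz n) (range_μ f n)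
      ((tr_compat 𝔞 f s.1 s.2 (Nat.zero_le (n + 1))).trans h0)
  choose w hw using hdiv
  refine ⟨⟨w, fun n => sm_injective 𝔞 (μ f n) (μ_injective f hnz n) ?_⟩, Subtype.ext (funext fun n => ?_)⟩
  · rw [← sm_comp, ← tq_μ, sm_comp, hw (n + 1), hw n]
    exact s.2 (n + 1)
  · show f • w n = s.1 n
    rw [← s.2 n, ← hw n, ← sm_comp, tq_μ_self, sm_smul, sm_id]

theorem isHausdorff_P : IsHausdorff (Ideal.span ({f} : Set A)) (P 𝔞 f) := by
  refine ⟨fun s hs => Subtype.ext (funext fun n => ?_)⟩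
  obtain ⟨y, hy⟩ := (mem_pow_smul f).1 (SModEq.zero.1 (hs (n + 1)))
  rw [← hy]
  exact pow_smul_sc 𝔞 f n (y.1 n)

theorem q_zero_eq : (Ideal.span ({f} : Set A)) ^ (0 + 1) • (⊤ : Submodule A A) = Ideal.span {f} := by
  rw [zero_add, pow_one, smul_eq_mul, Ideal.mul_top]

/-- The first level is the quotient. -/
def qZero : q f 0 ≃ₗ[A] A ⧸ Ideal.span ({f} : Set A) :=
  Submodule.quotEquivOfEq _ _ (q_zero_eq f)

theorem finite_H_q (h : Module.Finite A (LocCoh.H 𝔞 1 (A ⧸ Ideal.span ({f} : Set A)))) :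
    Module.Finite A (LocCoh.H 𝔞 1 (q f 0)) :=
  Module.Finite.equiv (((localCohomology (R := A) 𝔞 1).mapIso (qZero f).toModuleIso).toLinearEquiv).symm

theorem exists_pow_kill (h : Module.Finite A (LocCoh.H 𝔞 1 (A ⧸ Ideal.span ({f} : Set A)))) :
    ∃ N : ℕ, ∀ g ∈ 𝔞 ^ N, ∀ x : LocCoh.H 𝔞 1 (q f 0), g • x = 0 := by
  classical
  haveI := finite_H_q 𝔞 f h
  obtain ⟨s, hs⟩ := Module.Finite.fg_top (R := A) (M := LocCoh.H 𝔞 1 (q f 0))
  choose k hk using fun x : LocCoh.H 𝔞 1 (q f 0) =>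
    LC.isPowerTorsion (R := A) 𝔞 1 (ModuleCat.of A (q f 0)) x
  refine ⟨s.sup k, fun g hg x => ?_⟩
  refine Submodule.span_induction (fun y hy => hk y g (Ideal.pow_le_pow_right (Finset.le_sup hy) hg))
    (smul_zero _) (fun _ _ _ _ h1 h2 => by rw [smul_add, h1, h2, add_zero])
    (fun c _ _ h1 => by rw [smul_comm, h1, smul_zero]) (hs.symm ▸ Submodule.mem_top : x ∈ Submodule.span A (s : Set _))

theorem finite_sc_zero (h : Module.Finite A (LocCoh.H 𝔞 1 (A ⧸ Ideal.span ({f} : Set A)))) :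
    Module.Finite A (Sc 𝔞 (q f 0)) := by
  haveI := finite_H_q 𝔞 f h
  obtain ⟨S, hS, hX, hE⟩ := Punctured.exists_mono_injective' (ModuleCat.of (CommRingCat.of A) (q f 0))
  obtain ⟨e⟩ := Punctured.nonempty_coker_equiv 𝔞 hS hE
  rw [hX] at e
  haveI : Module.Finite A (Sc 𝔞 (q f 0) ⧸ LinearMap.range (j 𝔞 (q f 0))) :=
    Module.Finite.equiv (show LocCoh.H 𝔞 1 (q f 0) ≃ₗ[A]
      (Sc 𝔞 (q f 0) ⧸ LinearMap.range (j 𝔞 (q f 0))) from e.symm)
  exact Module.Finite.of_submodule_quotient (LinearMap.range (j 𝔞 (q f 0)))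

/-- Evaluation at level zero. -/
def ev : P 𝔞 f →ₗ[A] Sc 𝔞 (q f 0) := (LinearMap.proj 0).comp (P 𝔞 f).subtype

include hnz in
theorem finite_P [IsAdicComplete (Ideal.span ({f} : Set A)) A]
    (h : Module.Finite A (LocCoh.H 𝔞 1 (A ⧸ Ideal.span ({f} : Set A)))) : Module.Finite A (P 𝔞 f) := by
  haveI := isHausdorff_P 𝔞 f
  haveI := finite_sc_zero 𝔞 f h
  refine AdicExtra.finite_of_quotient_finite (I := Ideal.span ({f} : Set A)) ?_
  have hker : LinearMap.ker (ev 𝔞 f) = (Ideal.span ({f} : Set A)) • (⊤ : Submodule A (P 𝔞 f)) := by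
    ext s
    rw [LinearMap.mem_ker, Submodule.ideal_span_singleton_smul]
    constructor
    · intro h0
      obtain ⟨w, hw⟩ := exists_eq_smul 𝔞 f hnz s h0
      exact ⟨w, trivial, hw⟩
    · rintro ⟨w, -, rfl⟩
      exact (congrArg (· • w.1 0) (pow_one f).symm).trans (pow_smul_sc 𝔞 f 0 (w.1 0))
  rw [← hker]
  exact Module.Finite.equiv (LinearMap.quotKerEquivRange (ev 𝔞 f)).symm

/-- The annihilator of the cokernel of the diagonal. -/
def cIdeal : Ideal A := Module.annihilator A (P 𝔞 f ⧸ LinearMap.range (toP 𝔞 f))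

include hnz in
theorem le_radical_cIdeal [IsAdicComplete (Ideal.span ({f} : Set A)) A]
    (h : Module.Finite A (LocCoh.H 𝔞 1 (A ⧸ Ideal.span ({f} : Set A)))) :
    𝔞 ≤ (cIdeal 𝔞 f ⊔ Ideal.span {f}).radical := by
  haveI := finite_P 𝔞 f hnz h
  obtain ⟨N, hN⟩ := exists_pow_kill 𝔞 f h
  intro g hg
  let M := P 𝔞 f ⧸ LinearMap.range (toP 𝔞 f)
  let φ : Module.End A M := algebraMap A _ (g ^ N)
  have hφ : LinearMap.range φ ≤ Ideal.span ({f} : Set A) • (⊤ : Submodule A M) := by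
    rintro _ ⟨x, rfl⟩
    obtain ⟨s, rfl⟩ := Submodule.mkQ_surjective _ x
    obtain ⟨m, hm⟩ := exists_pow_j 𝔞 (g ^ N) (hN _ (Ideal.pow_mem_pow hg N)) (s.1 0)
    obtain ⟨a, rfl⟩ := Submodule.mkQ_surjective _ m
    obtain ⟨w, hw⟩ := exists_eq_smul 𝔞 f hnz (g ^ N • s - toP 𝔞 f a) (sub_eq_zero.2 hm.symm)
    rw [Module.algebraMap_end_apply, ← map_smul]
    have h1 : Submodule.mkQ (LinearMap.range (toP 𝔞 f)) (g ^ N • s) =
        f • Submodule.mkQ (LinearMap.range (toP 𝔞 f)) w := by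
      rw [← map_smul, hw, map_sub, eq_comm, sub_eq_self]
      exact (Submodule.Quotient.mk_eq_zero _).2 ⟨a, rfl⟩
    rw [h1]
    exact Submodule.smul_mem_smul (Ideal.mem_span_singleton_self f) trivial
  obtain ⟨p, hp, -, hc, hp0⟩ := φ.exists_monic_and_coeff_mem_pow_and_aeval_eq_zero_of_range_le_smul A _ hφ
  have he : p.eval (g ^ N) ∈ cIdeal 𝔞 f := by
    rw [cIdeal, Module.mem_annihilator]
    intro x
    have := LinearMap.congr_fun hp0 x
    rw [show φ = algebraMap A _ (g ^ N) from rfl, Polynomial.aeval_algebraMap_apply] at this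
    exact this
  have hmem : (g ^ N) ^ p.natDegree ∈ cIdeal 𝔞 f ⊔ Ideal.span {f} := by
    have h2 : p.eval (g ^ N) - (g ^ N) ^ p.natDegree ∈ Ideal.span ({f} : Set A) := by
      rw [Polynomial.eval_eq_sum_range, Finset.sum_range_succ, hp.coeff_natDegree, one_mul, add_sub_cancel_right]
      refine Ideal.sum_mem _ fun i hi => Ideal.mul_mem_right _ _ ?_
      exact Ideal.pow_le_self (by have := Finset.mem_range.1 hi; omega) (hc i)
    have := Submodule.sub_mem (cIdeal 𝔞 f ⊔ Ideal.span {f}) (Ideal.mem_sup_left he) (Ideal.mem_sup_right h2)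
    rwa [sub_sub_cancel] at this
  rw [← pow_mul] at hmem
  exact ⟨_, hmem⟩

/-- The annihilator of the kernel of the diagonal. -/
def dIdeal : Ideal A := Module.annihilator A (LinearMap.ker (toP 𝔞 f))

theorem le_radical_dIdeal : 𝔞 ≤ (dIdeal 𝔞 f ⊔ Ideal.span {f}).radical := by
  classical
  rw [Ideal.radical_eq_sInf]
  refine le_sInf fun p ⟨hp, hpp⟩ => ?_
  by_contra hap
  obtain ⟨g, hg, hgp⟩ := SetLike.not_le_iff_exists.1 hap
  haveI := hpp
  have hfp : f ∈ p := hp (Ideal.mem_sup_right (Ideal.mem_span_singleton_self f))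
  have hkill : ∀ a ∈ LinearMap.ker (toP 𝔞 f), ∃ h ∉ p, h * a = 0 := by
    intro a ha
    haveI : IsNoetherianRing (Localization.AtPrime p) :=
      IsLocalization.isNoetherianRing p.primeCompl (Localization.AtPrime p) inferInstance
    have hz : algebraMap A (Localization.AtPrime p) a ∈
        (⨅ n : ℕ, IsLocalRing.maximalIdeal (Localization.AtPrime p) ^ n) := by
      refine Submodule.mem_iInf _ |>.2 fun n => ?_
      have h0 : j 𝔞 _ (π f n a) = 0 := by
        rw [← toP_apply, LinearMap.mem_ker.1 ha]; rfl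
      obtain ⟨N, hN⟩ := (Punctured.toOpen_eq_zero_iff 𝔞 (ModuleCat.of (CommRingCat.of A) (q f n)) _).1 h0
      have h1 : π f n (g ^ N * a) = 0 := by
        rw [← smul_eq_mul, map_smul]
        exact hN _ (Ideal.pow_mem_pow hg N)
      obtain ⟨y, hy⟩ := (mem_pow_smul f).1 ((Submodule.Quotient.mk_eq_zero _).1 h1)
      have hu : IsUnit (algebraMap A (Localization.AtPrime p) (g ^ N)) :=
        IsLocalization.map_units _ (⟨g ^ N, fun hh => hgp (Ideal.IsPrime.mem_of_pow_mem ‹_› _ hh)⟩ : p.primeCompl)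
      rw [← Ideal.unit_mul_mem_iff_mem _ hu, ← map_mul, ← hy, smul_eq_mul, map_mul, map_pow]
      refine Ideal.pow_le_pow_right (Nat.le_succ n) (Ideal.mul_mem_right _ _ (Ideal.pow_mem_pow ?_ _))
      exact (IsLocalization.AtPrime.to_map_mem_maximal_iff _ p f).2 hfp
    rw [Ideal.iInf_pow_eq_bot_of_isLocalRing _ (IsLocalRing.maximalIdeal.isMaximal _).ne_top] at hz
    obtain ⟨⟨h, hh⟩, he⟩ := (IsLocalization.map_eq_zero_iff p.primeCompl (Localization.AtPrime p) a).1 hz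
    exact ⟨h, hh, he⟩
  choose h hh hha using hkill
  obtain ⟨s, hs⟩ := IsNoetherian.noetherian (LinearMap.ker (toP 𝔞 f))
  have hsK : ∀ x ∈ s, x ∈ LinearMap.ker (toP 𝔞 f) := fun x hx => hs ▸ Submodule.subset_span hx
  let H := ∏ x : s, h x.1 (hsK x.1 x.2)
  have hH : H ∈ dIdeal 𝔞 f := by
    rw [dIdeal, Module.mem_annihilator]
    rintro ⟨a, ha⟩
    refine Subtype.ext ?_
    show H • a = 0
    refine Submodule.span_induction (fun y hy => ?_) (smul_zero _)
      (fun _ _ _ _ h1 h2 => by rw [smul_add, h1, h2, add_zero])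
      (fun c _ _ h1 => by rw [smul_comm, h1, smul_zero]) (hs.symm ▸ ha : a ∈ Submodule.span A (s : Set A))
    obtain ⟨c, hc⟩ := Finset.dvd_prod_of_mem (fun x : s => h x.1 (hsK x.1 x.2)) (Finset.mem_univ ⟨y, hy⟩)
    show H * y = 0
    rw [show H = _ from hc, mul_comm (h y _) c, mul_assoc, hha, mul_zero]
  have hHp : H ∈ p := hp (Ideal.mem_sup_left hH)
  obtain ⟨x, -, hx⟩ := (Ideal.IsPrime.prod_mem_iff (p := p)).1 hHp
  exact hh _ _ hx

/-- The ideal cutting out the neighbourhood, with its properties. -/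
structure NhdIdeal where
  /-- The ideal. -/
  e : Ideal A
  /-- An auxiliary ideal meeting the kernel trivially. -/
  d : Ideal A
  le_rad : 𝔞 ≤ (e ⊔ Ideal.span {f}).radical
  kill : ∀ a, toP 𝔞 f a = 0 → ∀ x ∈ e, x * a = 0
  uniq : ∀ a ∈ d, toP 𝔞 f a = 0 → a = 0
  lift : ∀ x ∈ e, ∀ s : P 𝔞 f, ∃ a ∈ d, toP 𝔞 f a = x • s

theorem kill_of_mem (k : ℕ) (a : A) (ha : toP 𝔞 f a = 0) (x : A)
    (hx : x ∈ cIdeal 𝔞 f * dIdeal 𝔞 f ^ (k + 1)) : x * a = 0 := by
  have hx' : x ∈ dIdeal 𝔞 f := Ideal.pow_le_self (I := dIdeal 𝔞 f) (Nat.succ_ne_zero k)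
    ((Ideal.mul_le_right : cIdeal 𝔞 f * dIdeal 𝔞 f ^ (k + 1) ≤ _) hx)
  rw [dIdeal, Module.mem_annihilator] at hx'
  have h1 := hx' ⟨a, LinearMap.mem_ker.2 ha⟩
  rw [Subtype.ext_iff, Submodule.coe_smul, Submodule.coe_zero, smul_eq_mul] at h1
  exact h1

theorem lift_of_mem (I : Ideal A) (x : A) (hx : x ∈ cIdeal 𝔞 f * I) (s : P 𝔞 f) :
    ∃ a ∈ I, toP 𝔞 f a = x • s := by
  refine Submodule.mul_induction_on hx (fun c hc d hd => ?_) (fun x y hx hy => ?_)
  ·
    have h1 := Module.mem_annihilator.1 hc (Submodule.Quotient.mk s)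
    rw [← Submodule.Quotient.mk_smul, Submodule.Quotient.mk_eq_zero] at h1
    obtain ⟨a, ha⟩ := h1
    exact ⟨d • a, Ideal.mul_mem_right a _ hd,
      (LinearMap.map_smul (toP 𝔞 f) d a).trans ((congrArg (d • ·) ha).trans
        ((smul_smul d c s).trans (congrArg (· • s) (mul_comm d c))))⟩
  · obtain ⟨a, had, ha⟩ := hx
    obtain ⟨b, hbd, hb⟩ := hy
    exact ⟨a + b, add_mem had hbd, (LinearMap.map_add (toP 𝔞 f) a b).trans
      ((congr (congrArg (· + ·) ha) hb).trans (add_smul x y s).symm)⟩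

include hnz in
theorem exists_nhdIdeal [IsAdicComplete (Ideal.span ({f} : Set A)) A]
    (h : Module.Finite A (LocCoh.H 𝔞 1 (A ⧸ Ideal.span ({f} : Set A)))) : Nonempty (NhdIdeal 𝔞 f) := by
  let K : Submodule A A := LinearMap.ker (toP 𝔞 f)
  obtain ⟨k, hk⟩ := Ideal.exists_pow_inf_eq_pow_smul (dIdeal 𝔞 f) K
  have hdK : dIdeal 𝔞 f • K = ⊥ := by
    rw [eq_bot_iff, Submodule.smul_le]
    intro r hr x hx
    exact (Submodule.mem_bot _).2 (congrArg Subtype.val (Module.mem_annihilator.1 hr ⟨x, hx⟩))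
  have hinf : ∀ a ∈ dIdeal 𝔞 f ^ (k + 1), toP 𝔞 f a = 0 → a = 0 := by
    intro a ha ha0
    have h1 : a ∈ dIdeal 𝔞 f ^ (k + 1) • (⊤ : Submodule A A) ⊓ K := by
      refine ⟨?_, ha0⟩
      rw [smul_eq_mul, Ideal.mul_top]
      exact ha
    rw [hk (k + 1) (Nat.le_succ k), Nat.add_sub_cancel_left, pow_one] at h1
    have h2 : a ∈ dIdeal 𝔞 f • K := Submodule.smul_mono le_rfl inf_le_right h1
    rwa [hdK, Submodule.mem_bot] at h2
  have hrad : 𝔞 ≤ (cIdeal 𝔞 f * dIdeal 𝔞 f ^ (k + 1) ⊔ Ideal.span {f}).radical := by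
    rw [Ideal.radical_eq_sInf]
    refine le_sInf fun p ⟨hp, hpp⟩ => ?_
    haveI := hpp
    rcases (Ideal.IsPrime.mul_le ‹_›).1 (le_sup_left.trans hp) with hc | hd
    · exact (le_radical_cIdeal 𝔞 f hnz h).trans
        ((Ideal.IsPrime.radical_le_iff ‹_›).2 (sup_le hc (le_sup_right.trans hp)))
    · exact (le_radical_dIdeal 𝔞 f).trans
        ((Ideal.IsPrime.radical_le_iff ‹_›).2 (sup_le (Ideal.IsPrime.le_of_pow_le hd) (le_sup_right.trans hp)))
  exact ⟨⟨_, _, hrad, kill_of_mem 𝔞 f k, hinf, lift_of_mem 𝔞 f _⟩⟩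

variable {𝔞} {𝔟 : Ideal A} (hle : LocCoh.puncturedOpen A 𝔟 ≤ LocCoh.puncturedOpen A 𝔞)

/-- Restriction of sections. -/
def res (M : Type u) [AddCommGroup M] [Module A M] : Sc 𝔞 M →ₗ[A] Sc 𝔟 M :=
  ((Punctured.secP (ModuleCat.of (CommRingCat.of A) M)).map (homOfLE hle).op).hom

theorem res_sm {M N : Type u} [AddCommGroup M] [Module A M] [AddCommGroup N] [Module A N] (φ : M →ₗ[A] N)
    (s : Sc 𝔞 M) : res hle N (sm 𝔞 φ s) = sm 𝔟 φ (res hle M s) :=
  (ConcreteCategory.congr_hom ((modulesSpecToSheaf.map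
    (tilde.map (ModuleCat.ofHom (R := CommRingCat.of A) φ))).hom.naturality (homOfLE hle).op) s).symm

theorem res_j {M : Type u} [AddCommGroup M] [Module A M] (m : M) : res hle M (j 𝔞 M m) = j 𝔟 M m :=
  ConcreteCategory.congr_hom (tilde.toOpen_res (ModuleCat.of (CommRingCat.of A) M) _ _ (homOfLE hle)) m

/-- Sections over an open in `D(f)` of a module killed by a power of `f` vanish. -/
theorem sec_eq_zero {R : CommRingCat.{u}} (E : ModuleCat.{u} R) (g : R) {c : ℕ} (hE : ∀ m : E, g ^ c • m = 0)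
    {W : (Spec R).Opens} (hW : W ≤ (PrimeSpectrum.basicOpen g : (Spec R).Opens))
    (x : (Punctured.secP E).obj (op W)) : x = 0 := by
  let T := {h : R // (PrimeSpectrum.basicOpen h : (Spec R).Opens) ≤ W}
  refine TopCat.Sheaf.eq_of_locally_eq' (modulesSpecToSheaf.obj (tilde E))
    (fun h : T => (PrimeSpectrum.basicOpen h.1 : (Spec R).Opens)) W (fun h => homOfLE h.2) ?_ _ _ fun h => ?_
  · intro p hp
    obtain ⟨_, ⟨h, rfl⟩, hph, hhW⟩ :=
      PrimeSpectrum.isTopologicalBasis_basic_opens.exists_subset_of_mem_open hp W.2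
    exact Opens.mem_iSup.2 ⟨⟨h, hhW⟩, hph⟩
  · refine Eq.trans ?_ (map_zero ((Punctured.secP E).map (homOfLE h.2).op).hom).symm
    obtain ⟨⟨m, ⟨_, n, rfl⟩⟩, hm⟩ := IsLocalizedModule.surj (.powers h.1)
      (tilde.toOpen E (PrimeSpectrum.basicOpen h.1)).hom ((Punctured.secP E).map (homOfLE h.2).op x)
    apply ((tilde E).isSMulRegular_of_le_basicOpen (le_refl (PrimeSpectrum.basicOpen h.1 : (Spec R).Opens))).pow n
    apply ((tilde E).isSMulRegular_of_le_basicOpen (h.2.trans hW)).pow c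
    refine (congrArg (g ^ c • ·) hm).trans ?_
    refine ((tilde.toOpen E _).hom.map_smul _ _).symm.trans ((congrArg _ (hE m)).trans ?_)
    rw [map_zero]
    exact ((congrArg (g ^ c • ·) (smul_zero _)).trans (smul_zero _)).symm

variable (hrad : 𝔞 ≤ (𝔟 ⊔ Ideal.span {f}).radical) {M : Type u} [AddCommGroup M] [Module A M] {c : ℕ}
  (hM : ∀ m : M, f ^ c • m = 0)

include hrad hM in
theorem res_injective : Function.Injective (res hle M) := by
  refine (injective_iff_map_eq_zero _).2 fun s hs => ?_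
  haveI : IsNoetherianRing (CommRingCat.of A) := inferInstanceAs (IsNoetherianRing A)
  have h1 := Punctured.ker_res (R := CommRingCat.of A) (ModuleCat.of (CommRingCat.of A) M) 𝔟 hle rfl
  obtain ⟨n, hn⟩ := (Punctured.mem_iSup_torsionBy (R := CommRingCat.of A) 𝔟 s).1 ((congrArg (fun T => s ∈ T) h1).mp (LinearMap.mem_ker.2 hs))
  obtain ⟨k, hk⟩ := Ideal.exists_pow_le_of_le_radical_of_fg hrad (IsNoetherian.noetherian 𝔞)
  have hf : f ^ c • s = 0 := by
    rw [← sm_id 𝔞 s, ← sm_smul, show f ^ c • (LinearMap.id : M →ₗ[A] M) = 0 from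
      LinearMap.ext fun m => hM m, sm_zero]
  refine Punctured.eq_zero_of_forall_smul (R := CommRingCat.of A) (ModuleCat.of (CommRingCat.of A) M) 𝔞
    subset_rfl s (k * (n + c)) fun r hr => ?_
  have hr' : r ∈ 𝔟 ^ n ⊔ Ideal.span {f} ^ c := by
    rw [pow_mul] at hr
    exact Ideal.sup_pow_add_le_pow_sup_pow (Ideal.pow_right_mono hk _ hr)
  obtain ⟨a, ha, b, hb, rfl⟩ := Submodule.mem_sup.1 hr'
  rw [Ideal.span_singleton_pow, Ideal.mem_span_singleton] at hb
  obtain ⟨d, rfl⟩ := hb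
  rw [add_smul, hn a ha, zero_add]
  exact (congrArg (· • s) (mul_comm _ _)).trans ((mul_smul d (f ^ c) s).trans ((congrArg (d • ·) hf).trans (smul_zero d)))

include hrad hM in
theorem res_surjective : Function.Surjective (res hle M) := by
  intro x
  let E : ModuleCat.{u} (CommRingCat.of A) := ModuleCat.of (CommRingCat.of A) M
  let F := modulesSpecToSheaf.obj (tilde E)
  let V : Bool → (Spec (CommRingCat.of A)).Opens := fun b =>
    cond b (LocCoh.puncturedOpen A 𝔟)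
      ((PrimeSpectrum.basicOpen f : (Spec (CommRingCat.of A)).Opens) ⊓ LocCoh.puncturedOpen A 𝔞)
  have hV : ∀ b, V b ≤ LocCoh.puncturedOpen A 𝔞 := fun b => by
    cases b
    · exact inf_le_right
    · exact hle
  have hVf : V false ≤ (PrimeSpectrum.basicOpen f : (Spec (CommRingCat.of A)).Opens) := inf_le_left
  have hcov : LocCoh.puncturedOpen A 𝔞 ≤ ⨆ b, V b := by
    intro p hp
    by_cases hpb : (𝔟 : Set A) ⊆ (p : PrimeSpectrum A).asIdeal
    · refine Opens.mem_iSup.2 ⟨false, ?_, hp⟩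
      intro hfp
      exact hp (hrad.trans ((Ideal.IsPrime.radical_le_iff (p : PrimeSpectrum A).isPrime).2
        (sup_le hpb ((Ideal.span_singleton_le_iff_mem _).2 hfp))))
    · exact Opens.mem_iSup.2 ⟨true, hpb⟩
  let sf : ∀ b, ToType (F.1.obj (op (V b))) := fun b =>
    match b with
    | false => 0
    | true => x
  have hzero : ∀ {W : (Spec (CommRingCat.of A)).Opens}, W ≤ V false →
      ∀ y y' : ToType (F.1.obj (op W)), y = y' := fun {W} hW y y' => by
    have h1 : y - y' = (0 : (Punctured.secP E).obj (op W)) :=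
      sec_eq_zero (R := CommRingCat.of A) E f (c := c) hM (hW.trans hVf) _
    exact sub_eq_zero.1 h1
  have hcompat : TopCat.Presheaf.IsCompatible F.1 V sf := fun i i' => by
    cases i
    · exact hzero inf_le_left _ _
    · cases i'
      · exact hzero inf_le_right _ _
      · rfl
  obtain ⟨s, hs, -⟩ := F.existsUnique_gluing' V _ (fun b => homOfLE (hV b)) hcov sf hcompat
  exact ⟨s, hs true⟩

end GrothLib.LocFAdic21
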