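import Groth.Agent.LocFAdic21.Bij
import Groth.Agent.PunctPure21.Slice
import Groth.Prelude.Def_FEt

/-!
# The punctured hypersurface inside its small neighbourhoods
-/

set_option autoImplicit false
set_option linter.style.haveILetI false
set_option backward.isDefEq.respectTransparency false

universe u

open CategoryTheory CategoryTheory.Limits AlgebraicGeometry TopologicalSpace

noncomputable section

namespace GrothLib.LocFAdic21

/-- The slice of a neighbourhood is the slice of the open. -/
theorem exists_slice_iso {X W T : Scheme.{u}} (U : X.Opens) (cl : W ⟶ X) [IsClosedImmersion cl]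
    (i : T ⟶ X) [IsOpenImmersion i] (hi : i.opensRange ≤ U) (iT : pullback U.ι cl ⟶ T)
    (h : iT ≫ i = pullback.fst U.ι cl ≫ U.ι) :
    ∃ φ : pullback U.ι cl ⟶ (cl.ker.comap i).subscheme, IsIso φ ∧
      φ ≫ (cl.ker.comap i).subschemeι = iT := by
  have hrange : cl ⁻¹ᵁ i.opensRange = (pullback.snd U.ι cl).opensRange := by
    refine le_antisymm (fun w hw => ?_) (fun w hw => ?_)
    · have hwU : cl w ∈ U := hi hw
      obtain ⟨z, -, hz⟩ := Scheme.Pullback.exists_preimage_pullback (f := U.ι) (g := cl) ⟨_, hwU⟩ w rfl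
      exact ⟨z, hz⟩
    · obtain ⟨z, rfl⟩ := hw
      refine ⟨iT z, ?_⟩
      show (iT ≫ i) z = (pullback.snd U.ι cl ≫ cl) z
      rw [h, pullback.condition]
  have H : IsPullback iT (pullback.snd U.ι cl) i cl :=
    IsOpenImmersion.isPullback iT _ i cl (h.trans pullback.condition).symm hrange
  have hcl : cl.toImage ≫ cl.ker.subschemeι = cl := cl.toImage_imageι
  have H' : IsPullback iT (pullback.snd U.ι cl ≫ cl.toImage) i cl.ker.subschemeι :=
    H.of_iso (Iso.refl _) (Iso.refl _) (asIso cl.toImage) (Iso.refl _) (by simp) (by simp) (by simp)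
      (by simp [hcl])
  refine ⟨H'.isoPullback.hom ≫ (cl.ker.comapIso i).inv, inferInstance, ?_⟩
  rw [Category.assoc, Scheme.IdealSheafData.comapIso_inv_subschemeι, H'.isoPullback_hom_fst]

variable (A : Type u) [CommRing A] [IsLocalRing A] (f : A)

/-- The closed immersion of the hypersurface. -/
abbrev clf : Spec (CommRingCat.of (A ⧸ Ideal.span {f})) ⟶ Spec (CommRingCat.of A) :=
  Spec.map (CommRingCat.ofHom (Ideal.Quotient.mk (Ideal.span {f})))

theorem puncturedSpec_eq : FEt.puncturedSpec A = LocCoh.puncturedOpen A (IsLocalRing.maximalIdeal A) := by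
  ext p
  show p ≠ IsLocalRing.closedPoint A ↔ ¬ (IsLocalRing.maximalIdeal A : Set A) ⊆ (p : PrimeSpectrum A).asIdeal
  refine not_congr ⟨fun h => by subst h; exact subset_rfl, fun h => PrimeSpectrum.ext ?_⟩
  exact ((IsLocalRing.maximalIdeal.isMaximal A).eq_of_le (p : PrimeSpectrum A).isPrime.ne_top h).symm

/-- The image of the punctured hypersurface. -/
theorem range_slice :
    Set.range (pullback.fst (FEt.puncturedSpec A).ι (clf A f) ≫ (FEt.puncturedSpec A).ι) =
      (FEt.puncturedSpec A : Set (Spec (CommRingCat.of A))) ∩ PrimeSpectrum.zeroLocus {f} := by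
  have hcl : Set.range (clf A f) = PrimeSpectrum.zeroLocus {f} :=
    ((range_comap_of_surjective _ _ Ideal.Quotient.mk_surjective).trans (by
      rw [Ideal.mk_ker, PrimeSpectrum.zeroLocus_span]) :
      Set.range (PrimeSpectrum.comap (CommRingCat.ofHom (Ideal.Quotient.mk (Ideal.span {f}))).hom) = _)
  rw [← hcl]
  ext x
  constructor
  · rintro ⟨z, rfl⟩
    refine ⟨(pullback.fst (FEt.puncturedSpec A).ι (clf A f) z).2, pullback.snd (FEt.puncturedSpec A).ι (clf A f) z, ?_⟩
    show (pullback.snd (FEt.puncturedSpec A).ι (clf A f) ≫ clf A f) z = _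
    rw [← pullback.condition]
  · rintro ⟨hx, w, rfl⟩
    obtain ⟨z, hz, -⟩ := Scheme.Pullback.exists_preimage_pullback (f := (FEt.puncturedSpec A).ι) (g := clf A f)
      ⟨_, hx⟩ w rfl
    exact ⟨z, congrArg Subtype.val hz⟩

variable {A f} [IsNoetherianRing A] [IsAdicComplete (Ideal.span ({f} : Set A)) A]

/-- The small neighbourhood of the punctured hypersurface. -/
theorem exists_small_nhd (hnz : f ∈ nonZeroDivisors A)
    (h : Module.Finite A (LocCoh.H (IsLocalRing.maximalIdeal A) 1 (A ⧸ Ideal.span ({f} : Set A)))) :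
    ∃ V : (Spec (CommRingCat.of A)).Opens, V ≤ FEt.puncturedSpec A ∧
      Set.range (pullback.fst (FEt.puncturedSpec A).ι (clf A f) ≫ (FEt.puncturedSpec A).ι) ⊆ V ∧
      ∀ (T : Scheme.{u}) (i : T ⟶ Spec (CommRingCat.of A)) [IsOpenImmersion i], i.opensRange ≤ V →
        Set.range (pullback.fst (FEt.puncturedSpec A).ι (clf A f) ≫ (FEt.puncturedSpec A).ι) ⊆ Set.range i →
        ∀ (D : T.Modules) [Coh.IsQCoh D], Lef.HomToFormalBijective ((clf A f).ker.comap i) D := by
  obtain ⟨V, h1, h2, h3⟩ := exists_nhd_homBij hnz (IsLocalRing.maximalIdeal A) h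
  rw [← puncturedSpec_eq] at h1 h2 h3
  rw [range_slice]
  exact ⟨V, h1, h2, h3⟩

/-- Restriction to the punctured hypersurface from a small neighbourhood is fully faithful. -/
theorem fullyFaithful_of_homBij {T : Scheme.{u}} (i : T ⟶ Spec (CommRingCat.of A)) [IsOpenImmersion i]
    (hi : i.opensRange ≤ FEt.puncturedSpec A) (iT : pullback (FEt.puncturedSpec A).ι (clf A f) ⟶ T)
    (h : iT ≫ i = pullback.fst (FEt.puncturedSpec A).ι (clf A f) ≫ (FEt.puncturedSpec A).ι)
    (hb : ∀ D : T.Modules, FlatMod.IsFinLocFree D → Lef.HomToFormalBijective ((clf A f).ker.comap i) D) :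
    (FEt.restrict iT).Full ∧ (FEt.restrict iT).Faithful := by
  haveI : IsClosedImmersion (clf A f) := IsClosedImmersion.spec_of_surjective _ Ideal.Quotient.mk_surjective
  obtain ⟨φ, hφi, hφ⟩ := exists_slice_iso (FEt.puncturedSpec A) (clf A f) i hi iT h
  obtain ⟨hfull, hfaith⟩ := GrothLib.LefEt7.fullyFaithful_restrict ((clf A f).ker.comap i) hb
  haveI := hfull
  haveI := hfaith
  haveI := PunctPure21.isEquivalence_of_isIso φ
  let η : FEt.restrict iT ≅ FEt.restrict ((clf A f).ker.comap i).subschemeι ⋙ FEt.restrict φ :=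
    (MorphismProperty.Over.pullbackCongr (Q := ⊤) hφ.symm) ≪≫
      MorphismProperty.Over.pullbackComp (P := FEt.prop) (Q := ⊤) φ ((clf A f).ker.comap i).subschemeι
  exact ⟨Functor.Full.of_iso η.symm, Functor.Faithful.of_iso η.symm⟩

end GrothLib.LocFAdic21
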