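import Groth.Agent.Lib.GenT7.Model

/-!
# Lifting sections of a regular formal system from scaled finiteness at a higher level
-/

set_option autoImplicit false
set_option linter.style.haveILetI false
set_option linter.unusedSectionVars false

universe u

open CategoryTheory CategoryTheory.Limits AlgebraicGeometry Opposite

noncomputable section

namespace GrothLib.LocFAdic21

open GrothLib.GenT7 GrothLib.FormalSys GrothLib.Cohom GrothLib.FormalFun

theorem exists_stable_of_map {A M N : Type u} [CommRing A] [IsNoetherianRing A] [AddCommGroup M] [Module A M]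
    [AddCommGroup N] [Module A N] (D : ℕ → Submodule A M) (hD : Monotone D) (ψ : M →ₗ[A] N) (R : Submodule A N)
    [Module.Finite A R] (hR : ∀ n, ∀ x ∈ D n, ψ x ∈ R) (b : ℕ) (hker : ∀ x, ψ x = 0 → x ∈ D b) :
    ∃ c, ∀ n, c ≤ n → D n ≤ D c := by
  haveI : IsNoetherian A R := isNoetherian_of_isNoetherianRing_of_finite A R
  obtain ⟨c₁, hc⟩ := monotone_stabilizes_iff_noetherian.2 (inferInstance : IsNoetherian A R)
    ⟨fun n => ((D n).map ψ).comap R.subtype, fun a b h => Submodule.comap_mono (Submodule.map_mono (hD h))⟩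
  refine ⟨max c₁ b, fun n hn x hx => ?_⟩
  have hmem : (⟨ψ x, hR n x hx⟩ : R) ∈ ((D n).map ψ).comap R.subtype := ⟨x, hx, rfl⟩
  have he : ((D c₁).map ψ).comap R.subtype = ((D n).map ψ).comap R.subtype := hc n ((le_max_left c₁ b).trans hn)
  rw [← he] at hmem
  obtain ⟨y, hy, hxy⟩ := hmem
  have hxy' : ψ y = ψ x := hxy
  have h1 : x - y ∈ D b := hker _ (by rw [map_sub, hxy', sub_self])
  have := (D (max c₁ b)).add_mem (hD (le_max_right c₁ b) h1) (hD (le_max_left c₁ b) hy)
  rwa [sub_add_cancel] at this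

theorem finite_range_of_injective_comp {A M S N : Type u} [CommRing A] [IsNoetherianRing A] [AddCommGroup M]
    [Module A M] [AddCommGroup S] [Module A S] [AddCommGroup N] [Module A N] (p : M →ₗ[A] S) (β : S →ₗ[A] N)
    (hβ : Function.Injective β) (R : Submodule A N) [Module.Finite A R] (h : ∀ z, β (p z) ∈ R) :
    Module.Finite A (LinearMap.range p) := by
  haveI : IsNoetherian A R := isNoetherian_of_isNoetherianRing_of_finite A R
  let φ : LinearMap.range p →ₗ[A] R := LinearMap.codRestrict R (β.comp (LinearMap.range p).subtype) (by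
    rintro ⟨_, z, rfl⟩
    exact h z)
  exact Module.Finite.of_injective φ fun a b hab => Subtype.ext (hβ (congrArg Subtype.val hab))

theorem finite_limSys_of_range {A : Type u} [CommRing A] [IsNoetherianRing A] {S : ℕ → Type u}
    [∀ n, AddCommGroup (S n)] [∀ n, Module A (S n)] (g : ∀ n, S (n + 1) →ₗ[A] S n) (t : A)
    [IsPrecomplete (Ideal.span ({t} : Set A)) A]
    (hiff : ∀ n z, projSys g n z = 0 ↔ z ∈ Ideal.span ({t} : Set A) ^ (n + 1) • (⊤ : Submodule A (limSys g)))
    (hfin : Module.Finite A (LinearMap.range (projSys g 0))) : Module.Finite A (limSys g) := by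
  let J := Ideal.span ({t} : Set A)
  haveI : IsHausdorff J (limSys g) := ⟨fun z hz => limSys_ext g fun k =>
    ((hiff k z).2 (SModEq.zero.1 (hz (k + 1)))).trans (map_zero _).symm⟩
  refine AdicExtra.finite_of_quotient_finite (I := J) ?_
  haveI := hfin
  have hker : LinearMap.ker (projSys g 0) = J • (⊤ : Submodule A (limSys g)) :=
    Submodule.ext fun z => LinearMap.mem_ker.trans ((hiff 0 z).trans (by rw [zero_add, pow_one]))
  rw [← hker]
  exact Module.Finite.equiv (LinearMap.quotKerEquivRange (projSys g 0)).symm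

theorem finite_range_projSys {A : Type u} [CommRing A] [IsNoetherianRing A] {S : ℕ → Type u}
    [∀ n, AddCommGroup (S n)] [∀ n, Module A (S n)] (g : ∀ n, S (n + 1) →ₗ[A] S n) (b : ℕ) (r : A)
    (β : S 0 →ₗ[A] S b) (hβ : Function.Injective β) (h : ∀ z, β (projSys g 0 z) = r • projSys g b z)
    (hfin : Module.Finite A (LinearMap.range (r • (LinearMap.id : S b →ₗ[A] S b)))) :
    Module.Finite A (LinearMap.range (projSys g 0)) := by
  haveI := hfin
  exact finite_range_of_injective_comp (projSys g 0) β hβ (LinearMap.range (r • (LinearMap.id : S b →ₗ[A] S b)))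
    fun z => ⟨projSys g b z, (h z).symm⟩

section tower

variable {A : Type u} [CommRing A] {X : Scheme.{u}} [X.Over (Spec (CommRingCat.of A))]
  (t : A) (G : ℕᵒᵖ ⥤ X.Modules)
  (hG : Formal.IsCohFormal (Ideal.span ({t} : Set A)) G) (hreg : Reg t G)

include hreg in
theorem mono_ups (c : ℕ) : ∀ j, Mono (ups t G hG c j)
  | 0 => inferInstanceAs (Mono (𝟙 _))
  | j + 1 => by
    haveI := mono_ups c j
    haveI := mono_up t G hG hreg (c + j)
    exact mono_comp _ _

/-- The sequence `G c → G (c + n + 1) → G n`. -/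
def midSeq (c n : ℕ) : ShortComplex X.Modules :=
  ShortComplex.mk (ups t G hG c (n + 1)) (gdn G (by omega : n ≤ c + (n + 1)))
    (ups_dn_eq_zero t G hG le_rfl (by omega))

include hreg in
theorem midSeq_shortExact (c n : ℕ) : (midSeq t G hG c n).ShortExact := by
  have hq : IsQuot (Ideal.span ({t ^ (n + 1)} : Set A)) (gdn G (by omega : n ≤ c + (n + 1))) := by
    have := isQuot_map hG (by omega : n ≤ c + (n + 1))
    rwa [Ideal.span_singleton_pow] at this
  refine ShortComplex.ShortExact.mk' ?_ (mono_ups t G hG hreg c (n + 1)) hq.epi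
  rw [ShortComplex.exact_iff_exact_up_to_refinements]
  intro T x hx
  obtain ⟨T', π, hπ, w, hw⟩ := (exact_of_isQuot hq).exact_up_to_refinements x hx
  refine ⟨T', π, hπ, w ≫ gdn G (Nat.le_add_right c (n + 1)), ?_⟩
  show π ≫ x = (w ≫ gdn G (Nat.le_add_right c (n + 1))) ≫ ups t G hG c (n + 1)
  rw [Category.assoc, dn_ups]
  exact hw

/-- The map to the bottom sequence. -/
def midToBot (c n : ℕ) : midSeq t G hG c n ⟶ botSeq t G hG n where
  τ₁ := gdn G (Nat.zero_le c)
  τ₂ := gdn G (by omega : n + 1 ≤ c + (n + 1))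
  τ₃ := 𝟙 _
  comm₁₂ := by
    show gdn G (Nat.zero_le c) ≫ bot t G hG (n + 1) = ups t G hG c (n + 1) ≫ gdn G _
    haveI : Epi (gdn G (Nat.le_add_right c (n + 1))) := (isQuot_map hG _).epi
    rw [← cancel_epi (gdn G (Nat.le_add_right c (n + 1))), ← Category.assoc (gdn G (Nat.le_add_right c (n + 1))),
      ← Category.assoc (gdn G (Nat.le_add_right c (n + 1))), gdn_comp, dn_ups, smulMod_naturality,
      ← gdn_comp G (by omega : n + 1 ≤ c + (n + 1)) (Nat.zero_le (n + 1)), Category.assoc, dn_bot]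
  comm₂₃ := by
    show gdn G (by omega : n + 1 ≤ c + (n + 1)) ≫ gdn G (Nat.le_succ n) = gdn G _ ≫ 𝟙 _
    rw [Category.comp_id, gdn_comp]

include hG hreg in
theorem bot_delta_mem (c n : ℕ) (x : Coh.HH X (gob G n) 0) :
    hhMap A (bot t G hG c) 1 (delta t G hG hreg n x) ∈
      LinearMap.range (t ^ c • (LinearMap.id : Coh.HH X (gob G c) 1 →ₗ[A] Coh.HH X (gob G c) 1)) := by
  have h := hhDelta_naturality (A := A) (midSeq_shortExact t G hG hreg c n) (botSeq_shortExact t G hG hreg n)
    (midToBot t G hG c n) 0 x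
  have h3 : hhMap A (midToBot t G hG c n).τ₃ 0 x = x := hhMap_id 0 x
  rw [h3] at h
  refine ⟨hhDelta A (midSeq_shortExact t G hG hreg c n) 0 x, ?_⟩
  refine Eq.symm ((congrArg (hhMap A (bot t G hG c) 1) h).trans ?_)
  refine (hhMap_comp (gdn G (Nat.zero_le c)) (bot t G hG c) 1 _).trans ?_
  exact (congrArg (fun φ => hhMap A φ 1 _) (dn_bot t G hG c)).trans (hhMap_smulMod (t ^ c) 1 _)

include hG hreg in
/-- The images of the connecting maps stabilise. -/
theorem exists_stable' [IsNoetherianRing A] (b : ℕ) (hfin : Module.Finite A (LinearMap.range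
      (t ^ (b + 1) • (LinearMap.id : Coh.HH X (gob G (b + 1)) 1 →ₗ[A] Coh.HH X (gob G (b + 1)) 1)))) :
    ∃ c, ∀ n, c ≤ n → ∀ x : Coh.HH X (gob G n) 0, ∃ y : Coh.HH X (gob G c) 0,
      delta t G hG hreg c y = delta t G hG hreg n x := by
  haveI := hfin
  obtain ⟨c, hc⟩ := exists_stable_of_map (fun n => LinearMap.range (delta t G hG hreg n))
    (monotone_nat_of_le_succ fun n => by
      rintro _ ⟨x, rfl⟩
      exact ⟨_, delta_up t G hG hreg n x⟩) (hhMap A (bot t G hG (b + 1)) 1) _
    (fun n x hx => by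
      obtain ⟨y, rfl⟩ := hx
      exact bot_delta_mem t G hG hreg (b + 1) n y) b
    (fun x hx => (exact₁ (A := A) (botSeq_shortExact t G hG hreg b) 0 x).1 hx)
  exact ⟨c, fun n hn x => hc n hn (LinearMap.mem_range_self _ x)⟩

include hG hreg in
/-- Sections far enough out give compatible families. -/
theorem exists_lift_family' (hst : ∃ c, ∀ n, c ≤ n → ∀ x : Coh.HH X (gob G n) 0, ∃ y : Coh.HH X (gob G c) 0,
      delta t G hG hreg c y = delta t G hG hreg n x) (n : ℕ) :
    ∃ (m : ℕ) (h : n ≤ m), ∀ x : Coh.HH X (gob G m) 0,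
      hhMap A (gdn G h) 0 x ∈ LinearMap.range (proj (A := A) G n) := by
  obtain ⟨c, hc⟩ := hst
  refine ⟨c + (n + 1), by omega, fun x => ?_⟩
  have step : ∀ (j : ℕ) (v : Coh.HH X (gob G (c + (n + 1) + j)) 0),
      ∃ v' : Coh.HH X (gob G (c + (n + 1) + (j + 1))) 0, ∀ k (hk : k ≤ c + (n + 1) + j), k ≤ n + j →
        hhMap A (gdn G (Nat.le_succ_of_le hk)) 0 v' = hhMap A (gdn G hk) 0 v := by
    intro j v
    have key : ∀ i (v : Coh.HH X (gob G (c + i)) 0), ∃ v' : Coh.HH X (gob G (c + i + 1)) 0,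
        ∀ k (hk : k ≤ c + i), k + 1 ≤ i →
          hhMap A (gdn G (Nat.le_succ_of_le hk)) 0 v' = hhMap A (gdn G hk) 0 v := fun i v => by
      obtain ⟨y, hy⟩ := hc (c + i) (Nat.le_add_right c i) v
      obtain ⟨v', hv'⟩ := (exact₃ (A := A) (botSeq_shortExact t G hG hreg (c + i)) 0
        (v - hhMap A (ups t G hG c i) 0 y)).1 (by
          show delta t G hG hreg (c + i) (v - hhMap A (ups t G hG c i) 0 y) = 0
          rw [map_sub]
          exact sub_eq_zero.2 (hy.symm.trans (delta_ups t G hG hreg c y i).symm))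
      refine ⟨v', fun k hk hki => ?_⟩
      refine (congrArg (fun φ => hhMap A φ 0 v') (gdn_comp G (Nat.le_succ (c + i)) hk)).symm.trans ?_
      refine (hhMap_comp (gdn G (Nat.le_succ (c + i))) (gdn G hk) 0 v').symm.trans ?_
      refine (congrArg (hhMap A (gdn G hk) 0) hv').trans ?_
      rw [map_sub, hhMap_comp, ups_dn_eq_zero t G hG hki, hhMap_zero, sub_zero]
    have hi : c + (n + 1) + j = c + (n + 1 + j) := by omega
    obtain ⟨i, rfl⟩ : ∃ i, i = n + 1 + j := ⟨_, rfl⟩
    have gen : ∀ (M i : ℕ), M = c + i → ∀ v : Coh.HH X (gob G M) 0, ∃ v' : Coh.HH X (gob G (M + 1)) 0,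
        ∀ k (hk : k ≤ M), k + 1 ≤ i →
          hhMap A (gdn G (Nat.le_succ_of_le hk)) 0 v' = hhMap A (gdn G hk) 0 v := by
      intro M i hM v
      subst hM
      exact key i v
    obtain ⟨v', hv'⟩ := gen _ _ hi v
    exact ⟨v', fun k hk hk' => hv' k hk (by omega)⟩
  choose next hnext using step
  let Xs : ∀ j, Coh.HH X (gob G (c + (n + 1) + j)) 0 := fun j => Nat.rec x (fun j v => next j v) j
  have hX : ∀ j k (hk : k ≤ c + (n + 1) + j), k ≤ n + j →
      hhMap A (gdn G (Nat.le_succ_of_le hk)) 0 (Xs (j + 1)) = hhMap A (gdn G hk) 0 (Xs j) :=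
    fun j => hnext j (Xs j)
  let z : ∀ k, Coh.HH X (gob G k) 0 := fun k =>
    hhMap A (gdn G (by omega : k ≤ c + (n + 1) + k)) 0 (Xs k)
  have hz : ∀ k, hhMap A (gdn G (Nat.le_succ k)) 0 (z (k + 1)) = z k := fun k => by
    rw [hhMap_comp, gdn_comp]
    exact hX k k (by omega) (by omega)
  have hj : ∀ j (hk : n ≤ c + (n + 1) + j), hhMap A (gdn G hk) 0 (Xs j) =
      hhMap A (gdn G (by omega : n ≤ c + (n + 1))) 0 x := by
    intro j
    induction j with
    | zero => intro hk; rfl
    | succ j ih => intro hk; exact (hX j n (by omega) (Nat.le_add_right n j)).trans (ih (by omega))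
  obtain ⟨v, hv⟩ := exists_mem (S := fun n => Coh.HH X (gob G n) 0) (secDn (A := A) G) z hz
  exact ⟨v, (hv n).trans (hj n (by omega))⟩

include hG hreg in
theorem bot_injective : ∀ k, Function.Injective (hhMap A (bot t G hG k) 0)
  | 0 => fun x y h => (hhMap_id 0 x).symm.trans (h.trans (hhMap_id 0 y))
  | k + 1 => fun x y h => by
    refine bot_injective k (up_injective t G hG hreg k ?_)
    rw [hhMap_comp, hhMap_comp]
    exact h

include hG in
theorem bot_proj (b : ℕ) (z : limSec (A := A) G) :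
    hhMap A (bot t G hG b) 0 (proj G 0 z) = t ^ b • proj G b z := by
  rw [← proj_map_le G (Nat.zero_le b) z, hhMap_comp, dn_bot, hhMap_smulMod]

include hG hreg in
/-- The compatible families are finite. -/
theorem finite_limSec' [IsNoetherianRing A] [IsAdicComplete (Ideal.span ({t} : Set A)) A] (b : ℕ)
    (hfin : Module.Finite A (LinearMap.range
      (t ^ b • (LinearMap.id : Coh.HH X (gob G b) 0 →ₗ[A] Coh.HH X (gob G b) 0)))) :
    Module.Finite A (limSec (A := A) G) :=
  haveI : IsPrecomplete (Ideal.span ({t} : Set A)) A := IsAdicComplete.toIsPrecomplete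
  finite_limSys_of_range (S := fun n => Coh.HH X (gob G n) 0) (secDn (A := A) G) t
    (proj_eq_zero_iff t G hG hreg)
    (finite_range_projSys (S := fun n => Coh.HH X (gob G n) 0) (secDn (A := A) G) b (t ^ b)
      (hhMap A (bot t G hG b) 0) (bot_injective t G hG hreg b) (bot_proj t G hG b) hfin)

end tower

/-- A regular formal system with scaled finiteness at a higher level is a completion. -/
theorem exists_module_completion' {A : Type u} [CommRing A] [IsNoetherianRing A] {I : Ideal A} (t : A)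
    [IsAdicComplete (Ideal.span ({t} : Set A)) A] (G : ℕᵒᵖ ⥤ (LocCoh.puncturedOpen A I : Scheme.{u}).Modules)
    (hG : Formal.IsCohFormal (Ideal.span ({t} : Set A)) G) (hreg : Reg t G) (b : ℕ)
    (h : ∀ p, p ≤ 1 → Module.Finite A (LinearMap.range (t ^ (b + 1) • (LinearMap.id :
      Coh.HH (LocCoh.puncturedOpen A I : Scheme.{u}) (gob G (b + 1)) p →ₗ[A] _)))) :
    ∃ M : (LocCoh.puncturedOpen A I : Scheme.{u}).Modules, Coh.IsCoh M ∧
      Nonempty (Formal.completion (Ideal.span ({t} : Set A)) M ≅ G) :=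
  exists_module_of_families hG
    (S := fun n => Coh.HH (LocCoh.puncturedOpen A I : Scheme.{u}) (gob G n) 0)
    (fun n => secEquiv (A := A) (I := I) (gob G n)) (fun {m n} h => hhMap A (gdn G h) 0)
    (fun {m n} h y => secEquiv_map (A := A) (I := I) (gdn G h) y) (secDn (A := A) G) (fun n y => rfl)
    (finite_limSec' t G hG hreg (b + 1) (h 0 (Nat.zero_le 1))) (proj_eq_zero_iff t G hG hreg)
    (exists_lift_family' t G hG hreg (exists_stable' t G hG hreg b (h 1 le_rfl)))

end GrothLib.LocFAdic21
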